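import Cfsg.Agent.Lib.FS2.Herm

/-! Adjoining an isometry of odd order to the ring of scalars. -/

namespace Cfsg.Lib.FS2

open MonoidAlgebra

universe u

variable {R : Type u} [CommRing R] {σ : R →+* R} {V : Type u} [AddCommGroup V] [Module R V]
  {h : V → V → R}

theorem monoidAlgebra_red {A : Type*} [CommGroup A] [Fintype A] (h2 : (2 : R) = 0)
    (hred : ∀ r : R, r * r = 0 → r = 0) (hA : ∀ a b : A, a * a = b * b → a = b)
    (r : MonoidAlgebra R A) (hr : r * r = 0) : r = 0 := by
  classical
  have h2' : (2 : MonoidAlgebra R A) = 0 := by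
    rw [← map_ofNat (algebraMap R (MonoidAlgebra R A)) 2, h2, map_zero]
  let F : MonoidAlgebra R A →+ MonoidAlgebra R A := AddMonoidHom.mk' (fun x => x * x) fun x y => by
    linear_combination (x * y) * h2'
  have h1 : r = ∑ a, single a (r.coeff a) := by
    ext a; simp [coeff_sum]
  have h3 : F r = ∑ a, single (a * a) (r.coeff a * r.coeff a) := by
    conv_lhs => rw [h1, map_sum]
    simp [F, single_mul_single]
  ext a
  have h4 := congrArg (fun x : MonoidAlgebra R A => x.coeff (a * a)) (h3.symm.trans hr)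
  simp only [coeff_sum, coeff_single, Finsupp.coe_finsetSum, Finset.sum_apply,
    Finsupp.single_apply, coeff_zero, Finsupp.coe_zero, Pi.zero_apply] at h4
  rw [Finset.sum_eq_single a (fun b _ hb => if_neg fun e => hb (hA _ _ e)) (by simp),
    if_pos rfl] at h4
  exact hred _ h4

theorem Herm.exists_adjoin' (H : Herm σ h) {A : Type u} [CommGroup A] [Fintype A]
    (α : A →* PG V) (hα : ∀ a, α a ∈ H.UG) (hα1 : ∀ a, (α a).2 = 1) :
    ∃ (_ : Module (MonoidAlgebra R A) V) (σ' : MonoidAlgebra R A →+* MonoidAlgebra R A)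
      (h' : V → V → MonoidAlgebra R A) (H' : Herm σ' h'),
      (∀ g, g ∈ H'.UG ↔ g ∈ H.UG ∧ ∀ a, g * α a * g⁻¹ = α (a ^ (g.2 : ℤ))) ∧
      (∀ a r, σ' (single a r) = single a⁻¹ (σ r)) ∧
      ∀ a (r : R) (v : V), single a r • v = r • (α a).1 v := by
  classical
  let β : A →* Module.End R V :=
    { toFun := fun a =>
        { toFun := (α a).1
          map_add' := H.map_add (hα a)
          map_smul' := fun r x => by rw [H.map_smul (hα a), hα1, sg_one]; rfl }
      map_one' := by ext x; simp
      map_mul' := fun a b => by ext x; simp }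
  let _ : Module (MonoidAlgebra R A) V := Module.compHom V (lift R _ A β).toRingHom
  have hs : ∀ a (r : R) (v : V), single a r • v = r • (α a).1 v := fun a r v => by
    change lift R _ A β (single a r) v = _
    rw [lift_single]; rfl
  let σ' : MonoidAlgebra R A →+* MonoidAlgebra R A :=
    (mapRingHom A σ).comp (mapDomainRingHom R invMonoidHom)
  have hσ : ∀ a r, σ' (single a r) = single a⁻¹ (σ r) := fun a r => by simp [σ']
  let h' : V → V → MonoidAlgebra R A := fun x y => ∑ a, single a (h x ((α a).1 y))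
  have hc : ∀ x y a, (h' x y).coeff a = h x ((α a).1 y) := fun x y a => by
    simp [h', coeff_sum, Finsupp.single_apply]
  have hl : ∀ a x y, h ((α a).1 x) y = h x ((α a⁻¹).1 y) := fun a x y => by
    rw [H.left (hα a), hα1, sg_one, map_inv]; rfl
  have hcs : ∀ ε x y a, (sg σ' ε (h' x y)).coeff a = sg σ ε (h x ((α (a ^ (ε : ℤ))).1 y)) := by
    intro ε x y a
    rcases sgn_cases ε with rfl | rfl
    · simp [hc]
    · simp only [sg_neg, h', map_sum, hσ, coeff_sum, coeff_single, Finsupp.coe_finsetSum,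
        Finset.sum_apply, Finsupp.single_apply]
      rw [Finset.sum_eq_single a⁻¹ (fun b _ hb => if_neg fun e => hb (by rw [← e, inv_inv]))
        (by simp)]
      simp
  have hadd : ∀ x y z, h' (x + y) z = h' x z + h' y z := fun x y z => by
    ext a; simp [hc, H.add]
  have H' : Herm σ' h' :=
    { inv := fun r => by
        induction r using induction_linear with
        | zero => simp
        | add a b ha hb => simp [ha, hb]
        | single a r => simp [hσ, H.inv]
      add := hadd
      smul := fun r x y => by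
        induction r using induction_linear with
        | zero => ext a; simp [hc, H.zero]
        | add a b ha hb => rw [add_smul, hadd, ha, hb, add_mul]
        | single a r =>
          ext b
          rw [hc, hs, H.smul, hl, coeff_single_mul_apply, hc, map_mul]; rfl
      symm := fun x y => by
        ext a
        have := hcs (-1) x y a
        rw [sg_neg, sg_neg] at this
        rw [this, hc, H.symm, hl]; simp
      nd := fun x hx => H.nd x fun y => by simpa [hx] using (hc x y 1).symm }
  refine ⟨inferInstance, σ', h', H', fun g => ⟨fun hg => ?_, fun ⟨hg, hg'⟩ x y => ?_⟩, hσ, hs⟩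
  · have h1 : ∀ x y a, h (g.1 x) ((α a).1 (g.1 y)) = sg σ g.2 (h x ((α (a ^ (g.2 : ℤ))).1 y)) :=
      fun x y a => by rw [← hcs, ← hg, hc]
    have h2 : g ∈ H.UG := fun x y => by simpa using h1 x y 1
    refine ⟨h2, fun a => Prod.ext (Equiv.ext fun y => ?_) (by simp [hα1])⟩
    obtain ⟨y, rfl⟩ := g.1.surjective y
    have h3 := fun x => h1 x y (a ^ (g.2 : ℤ))
    simp only [← zpow_mul, ← Units.val_mul, Int.units_mul_self, Units.val_one, zpow_one] at h3
    simp only [Prod.fst_mul, Prod.fst_inv, Equiv.Perm.mul_apply, inv_app]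
    refine H.ext fun z => ?_
    obtain ⟨z, rfl⟩ := g.1.surjective z
    rw [← H.symm, ← H.symm (g.1 z), h3, h2]
  · ext a
    have h1 := congrArg (fun p : PG V => p.1 (g.1 y)) (hg' (a ^ (g.2 : ℤ)))
    simp only [← zpow_mul, ← Units.val_mul, Int.units_mul_self, Units.val_one, zpow_one,
      Prod.fst_mul, Prod.fst_inv, Equiv.Perm.mul_apply, inv_app] at h1
    rw [hc, hcs, ← h1, hg]

theorem Herm.exists_adjoin (H : Herm σ h) [Finite R] [Finite V] (h2 : (2 : R) = 0)
    (hred : ∀ r : R, r * r = 0 → r = 0) {x : PG V} (hx : x ∈ H.UG) (ho : Odd (orderOf x)) :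
    ∃ (R' : Type u) (_ : CommRing R') (_ : Finite R') (_ : Module R' V) (σ' : R' →+* R')
      (h' : V → V → R') (H' : Herm σ' h'), (2 : R') = 0 ∧ (∀ r : R', r * r = 0 → r = 0) ∧
      H'.UG = H.UG ⊓ cen (sn V) x ∧
      (∀ t : R, t * σ t = 1 → ∃ t' : R', t' * σ' t' = 1 ∧ ∀ v : V, t' • v = t • v) ∧
      ∃ t' : R', t' * σ' t' = 1 ∧ ∀ v : V, t' • v = x.1 v := by
  let _ : CommGroup (Subgroup.zpowers x) := IsCyclic.commGroup
  have := Fintype.ofFinite (Subgroup.zpowers x)
  have hx1 : x.2 = 1 := sgn_of_odd (sn V) ho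
  obtain ⟨_, σ', h', H', h1, h3, h4⟩ := H.exists_adjoin' (Subgroup.zpowers x).subtype
    (fun a => (Subgroup.zpowers_le_of_mem hx) a.2) (by
      rintro ⟨_, i, rfl⟩
      change (x ^ i).2 = 1
      rw [Prod.pow_snd, hx1, one_zpow])
  refine ⟨MonoidAlgebra R (Subgroup.zpowers x), inferInstance,
    Finite.of_injective (fun r a => r.coeff a) fun r r' e => coeff_injective (Finsupp.ext (congrFun e)),
    inferInstance, σ', h', H', ?_,
    monoidAlgebra_red h2 hred fun a b e => ?_, ?_, fun t ht => ⟨single 1 t, ?_, fun v => ?_⟩,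
    single ⟨x, Subgroup.mem_zpowers x⟩ 1, ?_, fun v => ?_⟩
  · rw [← map_ofNat (algebraMap R (MonoidAlgebra R _)) 2, h2, _root_.map_zero]
  · refine (powCoprime (G := Subgroup.zpowers x) (n := 2) ?_).injective ?_
    · rw [Nat.card_zpowers]
      exact Nat.coprime_two_right.2 ho
    · rwa [powCoprime_apply, powCoprime_apply, pow_two, pow_two]
  · ext g
    rw [h1, Subgroup.mem_inf]
    refine and_congr_right fun _ => ⟨fun h5 => h5 ⟨x, Subgroup.mem_zpowers x⟩, ?_⟩
    rintro h5 ⟨_, i, rfl⟩
    change g * x ^ i * g⁻¹ = (x ^ i) ^ (g.2 : ℤ)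
    rw [← conj_zpow, mem_cen.1 h5, ← zpow_mul, ← zpow_mul, mul_comm]; rfl
  · rw [h3, single_mul_single, ht, inv_one, mul_one, one_def]
  · rw [h4]; rfl
  · rw [h3, single_mul_single, map_one, mul_one, mul_inv_cancel, one_def]
  · rw [h4, one_smul]; rfl

end Cfsg.Lib.FS2
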