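import Cfsg.Agent.Lib.Clifford.Gallagher
import Cfsg.Agent.Lib.Char.FrobSchur

/-! Twisted Frobenius-Schur indicators: a pair is a finite group `Y` with a sign `s : Y →* ℤˣ`;
characters of the kernel are handled as functions on `Y`. -/

namespace Cfsg.Lib.FS2

open Cfsg.Lib.Char Cfsg.Lib.Induce Cfsg.Lib.Clifford
open scoped ComplexConjugate

variable {Y H : Type*} [Group Y] [Group H] (s : Y →* ℤˣ)

/-- restriction to the kernel -/
abbrev r0 (φ : Y → ℂ) : s.ker → ℂ := fun g => φ g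

def Irr0 (φ : Y → ℂ) : Prop := IsIrrCharacter s.ker (r0 s φ)

def GCh0 (φ : Y → ℂ) : Prop := IsGeneralizedCharacter s.ker (r0 s φ)

/-- twisted reality -/
def TR (φ : Y → ℂ) : Prop := ∀ y g, s y = -1 → s g = 1 → φ (y * g * y⁻¹) = conj (φ g)

/-- the twisted indicator -/
noncomputable def eps (φ : Y → ℂ) : ℂ :=
  (Nat.card s.ker : ℂ)⁻¹ * ∑ᶠ y, if s y = -1 then φ (y * y) else 0

/-- the inner product over the kernel -/
noncomputable def ip (φ ψ : Y → ℂ) : ℂ :=
  (Nat.card s.ker : ℂ)⁻¹ * ∑ᶠ y, if s y = 1 then φ y * conj (ψ y) else 0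

def Out : Prop := ∃ y, s y = -1

def Pos : Prop := ∀ φ, Irr0 s φ → eps s φ ≠ -1

def OddC (z : ℂ) : Prop := ∃ n : ℤ, Odd n ∧ z = n

theorem not_oddC_of_even {z : ℂ} {n : ℤ} (hn : Even n) (h : z = n) : ¬ OddC z := by
  rintro ⟨m, hm, h'⟩
  have : n = m := by exact_mod_cast h.symm.trans h'
  exact (Int.not_odd_iff_even.2 hn) (this ▸ hm)

theorem oddC_one : OddC 1 := ⟨1, odd_one, by simp⟩

theorem OddC.ne_zero {z : ℂ} (h : OddC z) : z ≠ 0 := fun h0 =>
  not_oddC_of_even (n := 0) (by simp) (by simpa using h0) h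

theorem sgn_cases (a : ℤˣ) : a = 1 ∨ a = -1 := Int.units_eq_one_or a

theorem neg_one_ne : (-1 : ℤˣ) ≠ 1 := by decide

theorem sgn_ne_iff {a : ℤˣ} : a ≠ -1 ↔ a = 1 := by rcases sgn_cases a with rfl | rfl <;> decide

theorem sgn_ne_iff' {a : ℤˣ} : a ≠ 1 ↔ a = -1 := by rcases sgn_cases a with rfl | rfl <;> decide

theorem sgn_mul_self (y : Y) : s (y * y) = 1 := by rw [map_mul, Int.units_mul_self]

theorem sgn_inv (y : Y) : s y⁻¹ = s y := by rw [map_inv, Int.units_inv_eq_self]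

theorem sgn_conj (y g : Y) : s (y * g * y⁻¹) = s g := by
  rw [map_mul, map_mul, map_inv, mul_comm (s y), mul_inv_cancel_right]

theorem sgn_of_odd {x : Y} (h : Odd (orderOf x)) : s x = 1 := by
  rcases sgn_cases (s x) with h1 | h1
  · exact h1
  · have := congrArg s (pow_orderOf_eq_one x)
    rw [map_pow, h1, h.neg_one_pow, map_one] at this
    exact absurd this neg_one_ne

theorem exists_r0 (φ : s.ker → ℂ) : ∃ ψ : Y → ℂ, r0 s ψ = φ :=
  ⟨extendByZero s.ker φ, funext fun g => extendByZero_coe _ φ g⟩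

variable {s} {φ ψ φ' ψ' : Y → ℂ}

theorem r0_congr (h : ∀ g, s g = 1 → φ g = ψ g) : r0 s φ = r0 s ψ := funext fun g => h g g.2

theorem Irr0.irr (h : Irr0 s φ) : IsIrrCharacter s.ker (r0 s φ) := h

theorem GCh0.gen (h : GCh0 s φ) : IsGeneralizedCharacter s.ker (r0 s φ) := h

theorem Irr0.congr (h : Irr0 s φ) (e : ∀ g, s g = 1 → φ g = ψ g) : Irr0 s ψ := by
  unfold Irr0 at *; rwa [← r0_congr e]

theorem GCh0.congr (h : GCh0 s φ) (e : ∀ g, s g = 1 → φ g = ψ g) : GCh0 s ψ := by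
  unfold GCh0 at *; rwa [← r0_congr e]

theorem Irr0.gch (h : Irr0 s φ) : GCh0 s φ := h.irr.isGeneralizedCharacter

theorem TR.congr (h : TR s φ) (e : ∀ g, s g = 1 → φ g = ψ g) : TR s ψ := fun y g hy hg => by
  rw [← e g hg, ← e _ (by rw [sgn_conj, hg]), h y g hy hg]

theorem eps_congr (e : ∀ g, s g = 1 → φ g = ψ g) : eps s φ = eps s ψ := by
  unfold eps; simp only [e _ (sgn_mul_self s _)]

theorem ip_congr (e : ∀ g, s g = 1 → φ g = φ' g) (e' : ∀ g, s g = 1 → ψ g = ψ' g) :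
    ip s φ ψ = ip s φ' ψ' := by
  unfold ip; congr 2; funext y
  split_ifs with h
  · rw [e y h, e' y h]
  · rfl

theorem GCh0.conj_apply (h : GCh0 s φ) {k g : Y} (hk : s k = 1) (hg : s g = 1) :
    φ (k * g * k⁻¹) = φ g :=
  h.gen.isClassFunction ⟨g, hg⟩ ⟨k, hk⟩

theorem GCh0.apply_inv [Finite Y] (h : GCh0 s φ) {g : Y} (hg : s g = 1) : φ g⁻¹ = conj (φ g) :=
  h.gen.apply_inv ⟨g, hg⟩

theorem sum_ker [Fintype Y] [Fintype s.ker] (f : Y → ℂ) :
    ∑ g : s.ker, f g = ∑ y, if s y = 1 then f y else 0 := by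
  rw [← Finset.sum_filter]
  exact (Finset.sum_subtype _ (fun y => by simp [MonoidHom.mem_ker]) f).symm

theorem sum_out [Fintype Y] [Fintype s.ker] {y : Y} (hy : s y = -1) (f : Y → ℂ) :
    (∑ x, if s x = -1 then f x else 0) = ∑ g : s.ker, f (g * y) := by
  rw [sum_ker (fun g => f (g * y)), ← Equiv.sum_comp (Equiv.mulRight y)]
  refine Finset.sum_congr rfl fun g _ => ?_
  simp only [Equiv.coe_mulRight, map_mul, hy]
  rcases sgn_cases (s g) with h | h <;> simp [h]

theorem sum_split [Fintype Y] (f : Y → ℂ) :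
    ∑ x, f x = (∑ x, if s x = 1 then f x else 0) + ∑ x, if s x = -1 then f x else 0 := by
  rw [← Finset.sum_add_distrib]
  refine Finset.sum_congr rfl fun g _ => ?_
  rcases sgn_cases (s g) with h | h <;> simp [h, neg_one_ne.symm]

theorem card_eq_two_mul [Finite Y] (h : Out s) : (Nat.card Y : ℂ) = 2 * Nat.card s.ker := by
  classical
  have := Fintype.ofFinite Y
  obtain ⟨y, hy⟩ := h
  have h1 := sum_split (s := s) (fun _ => (1 : ℂ))
  rw [sum_out hy, ← sum_ker (fun _ => (1 : ℂ))] at h1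
  simp only [Finset.sum_const, Finset.card_univ, nsmul_eq_mul, mul_one] at h1
  rw [Nat.card_eq_fintype_card, Nat.card_eq_fintype_card, h1]; ring

theorem eps_def [Fintype Y] (φ : Y → ℂ) :
    eps s φ = (Nat.card s.ker : ℂ)⁻¹ * ∑ y, if s y = -1 then φ (y * y) else 0 := by
  rw [eps, finsum_eq_sum_of_fintype]

theorem ip_def [Fintype Y] (φ ψ : Y → ℂ) :
    ip s φ ψ = (Nat.card s.ker : ℂ)⁻¹ * ∑ y, if s y = 1 then φ y * conj (ψ y) else 0 := by
  rw [ip, finsum_eq_sum_of_fintype]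

theorem ip_eq [Finite Y] [Fintype s.ker] (φ ψ : Y → ℂ) :
    ip s φ ψ = classInner (r0 s φ) (r0 s ψ) := by
  have := Fintype.ofFinite Y
  rw [ip_def, classInner_def, sum_ker (fun y => φ y * conj (ψ y))]

theorem eps_eq_zero (h : ¬ Out s) : eps s φ = 0 := by
  unfold eps
  have : ∀ y, s y ≠ -1 := fun y hy => h ⟨y, hy⟩
  simp [this]

theorem out_of_eps (h : eps s φ = -1) : Out s := by
  by_contra h'
  rw [eps_eq_zero h'] at h
  norm_num at h

theorem pos_of_not_out (h : ¬ Out s) : Pos s := fun _ _ h' => h (out_of_eps h')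

theorem Irr0.ip_self [Finite Y] (h : Irr0 s φ) : ip s φ φ = 1 := by
  have := Fintype.ofFinite s.ker
  rw [ip_eq]; exact h.irr.inner_self

theorem GCh0.exists_ip [Finite Y] (h : GCh0 s φ) (h' : GCh0 s ψ) : ∃ n : ℤ, ip s φ ψ = n := by
  have := Fintype.ofFinite s.ker
  rw [ip_eq]; exact h.gen.exists_inner_eq_int h'.gen

theorem ip_eq_one_right (φ ψ : Y → ℂ) :
    ip s φ ψ = ip s (fun g => φ g * conj (ψ g)) (fun _ => 1) := by
  unfold ip; simp

theorem ip_mul_conj (φ ψ η : Y → ℂ) :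
    ip s (fun g => φ g * conj (ψ g)) η = ip s φ (fun g => ψ g * η g) := by
  unfold ip; simp [mul_assoc]

theorem ip_sub_left [Finite Y] (φ φ' ψ : Y → ℂ) :
    ip s (fun g => φ g - φ' g) ψ = ip s φ ψ - ip s φ' ψ := by
  have := Fintype.ofFinite s.ker
  rw [ip_eq, ip_eq, ip_eq, ← classInner_sub_left]; rfl

theorem ip_const_left [Finite Y] (c : ℂ) (ψ : Y → ℂ) :
    ip s (fun _ => c) ψ = c * ip s (fun _ => 1) ψ := by
  have := Fintype.ofFinite s.ker
  rw [ip_eq, ip_eq, ← classInner_smul_left]; congr 1; funext g; simp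

theorem irr0_one : Irr0 s (fun _ => 1) := isIrrCharacter_one

theorem tr_one : TR s (fun _ => 1) := fun _ _ _ _ => by simp

theorem TR.mul (h : TR s φ) (h' : TR s ψ) : TR s (fun g => φ g * ψ g) := fun y g hy hg => by
  simp only [h y g hy hg, h' y g hy hg, map_mul]

theorem TR.conj (h : TR s φ) : TR s (fun g => conj (φ g)) := fun y g hy hg => by
  simp only [h y g hy hg]

theorem TR.sub (h : TR s φ) (h' : TR s ψ) : TR s (fun g => φ g - ψ g) := fun y g hy hg => by
  simp only [h y g hy hg, h' y g hy hg, map_sub]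

theorem tr_int (n : ℤ) : TR s (fun _ => n) := fun _ _ _ _ => by simp

theorem GCh0.mul (h : GCh0 s φ) (h' : GCh0 s ψ) : GCh0 s (fun g => φ g * ψ g) :=
  h.gen.mul h'.gen

theorem GCh0.sub (h : GCh0 s φ) (h' : GCh0 s ψ) : GCh0 s (fun g => φ g - ψ g) :=
  h.gen.sub h'.gen

theorem GCh0.conj [Finite Y] (h : GCh0 s φ) : GCh0 s (fun g => conj (φ g)) :=
  h.gen.conj

theorem Irr0.conj [Finite Y] (h : Irr0 s φ) : Irr0 s (fun g => conj (φ g)) :=
  h.irr.conj

theorem gch0_int (n : ℤ) : GCh0 s (fun _ => n) := by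
  have := (isGeneralizedCharacter_one (G := s.ker)).intCast_smul n
  unfold GCh0
  convert this using 1
  funext g; simp

theorem eps_conj [Finite Y] (φ : Y → ℂ) : eps s (fun g => conj (φ g)) = conj (eps s φ) := by
  have := Fintype.ofFinite Y
  rw [eps_def, eps_def, map_mul, map_sum, map_inv₀, map_natCast]
  simp only [apply_ite (starRingEnd ℂ), map_zero]

/-! Morphisms of pairs. -/

variable {sH : H →* ℤˣ}

def kerMap (f : H →* Y) (hf : ∀ h, s (f h) = sH h) : sH.ker →* s.ker :=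
  (f.comp sH.ker.subtype).codRestrict s.ker fun h => (hf h).trans h.2

theorem kerMap_surjective {f : H →* Y} (hf : ∀ h, s (f h) = sH h) (hs : Function.Surjective f) :
    Function.Surjective (kerMap f hf) := fun g => by
  obtain ⟨h, hh⟩ := hs g
  exact ⟨⟨h, (hf h).symm.trans (hh ▸ g.2)⟩, Subtype.ext hh⟩

theorem GCh0.comp (h : GCh0 s φ) (f : H →* Y) (hf : ∀ h, s (f h) = sH h) :
    GCh0 sH (fun x => φ (f x)) := h.gen.comp (kerMap f hf)

theorem TR.comp (h : TR s φ) (f : H →* Y) (hf : ∀ h, s (f h) = sH h) :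
    TR sH (fun x => φ (f x)) := fun y g hy hg => by
  simp only [map_mul, map_inv]
  exact h _ _ ((hf y).trans hy) ((hf g).trans hg)

theorem Irr0.comp_surj (h : Irr0 s φ) (f : H →* Y) (hf : ∀ h, s (f h) = sH h)
    (hs : Function.Surjective f) : Irr0 sH (fun x => φ (f x)) :=
  h.irr.comp_surjective (kerMap f hf) (kerMap_surjective hf hs)

theorem Out.of_comp (h : Out sH) (f : H →* Y) (hf : ∀ h, s (f h) = sH h) : Out s :=
  let ⟨y, hy⟩ := h; ⟨f y, (hf y).trans hy⟩

theorem card_ker_surj [Finite H] [Finite Y] {f : H →* Y} (hf : ∀ h, s (f h) = sH h)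
    (hs : Function.Surjective f) :
    (Nat.card sH.ker : ℂ) = Nat.card f.ker * Nat.card s.ker := by
  classical
  have := Fintype.ofFinite Y
  have := Fintype.ofFinite H
  have h1 := sum_comp_surjective f hs (fun y => if s y = 1 then (1 : ℂ) else 0)
  simp only [hf] at h1
  rw [← sum_ker (fun _ => (1 : ℂ)), ← sum_ker (fun _ => (1 : ℂ))] at h1
  simpa [Nat.card_eq_fintype_card] using h1

theorem eps_comp_surj [Finite H] [Finite Y] (φ : Y → ℂ) (f : H →* Y) (hf : ∀ h, s (f h) = sH h)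
    (hs : Function.Surjective f) : eps sH (fun x => φ (f x)) = eps s φ := by
  have := Fintype.ofFinite Y
  have := Fintype.ofFinite H
  have h1 := sum_comp_surjective f hs (fun y => if s y = -1 then φ (y * y) else 0)
  simp only [hf, ← map_mul] at h1
  rw [eps_def, eps_def, h1, card_ker_surj hf hs]
  have := card_ne_zero_complex f.ker
  field_simp

theorem ip_comp_surj [Finite H] [Finite Y] (φ ψ : Y → ℂ) (f : H →* Y) (hf : ∀ h, s (f h) = sH h)
    (hs : Function.Surjective f) : ip sH (fun x => φ (f x)) (fun x => ψ (f x)) = ip s φ ψ := by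
  have := Fintype.ofFinite s.ker
  have := Fintype.ofFinite sH.ker
  rw [ip_eq, ip_eq]
  exact classInner_comp_surjective (kerMap f hf) (kerMap_surjective hf hs) (r0 s φ) (r0 s ψ)

theorem Pos.of_surj [Finite H] [Finite Y] (h : Pos sH) (f : H →* Y) (hf : ∀ h, s (f h) = sH h)
    (hs : Function.Surjective f) : Pos s := fun φ hφ => by
  rw [← eps_comp_surj φ f hf hs]
  exact h _ (hφ.comp_surj f hf hs)

theorem Pos.of_bij [Finite H] [Finite Y] (h : Pos s) (f : H →* Y) (hf : ∀ h, s (f h) = sH h)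
    (hs : Function.Bijective f) : Pos sH := by
  let e := MulEquiv.ofBijective f hs
  refine h.of_surj e.symm.toMonoidHom (fun y => ?_) e.symm.surjective
  rw [← hf]
  exact congrArg s (e.apply_symm_apply y)

/-- inflation of characters containing the kernel of a surjection -/
theorem Irr0.exists_comp [Finite H] {φ : H → ℂ} (h : Irr0 sH φ) (f : H →* Y)
    (hf : ∀ h, s (f h) = sH h) (hs : Function.Surjective f) (hk : ∀ x, f x = 1 → φ x = φ 1) :
    ∃ ψ, Irr0 s ψ ∧ ∀ x, sH x = 1 → φ x = ψ (f x) := by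
  obtain ⟨χ, h1, h2⟩ := h.irr.exists_eq_comp_of_surjective (kerMap f hf)
    (kerMap_surjective hf hs) (fun x hx => hk x (congrArg Subtype.val hx))
  obtain ⟨ψ, rfl⟩ := exists_r0 s χ
  exact ⟨ψ, h1, fun x hx => (h2 ⟨x, hx⟩).symm⟩

theorem pos_of_sq [Finite Y] (h : ∀ y, s y = -1 → y * y = 1) : Pos s := fun φ hφ h1 => by
  classical
  have := Fintype.ofFinite Y
  obtain ⟨y, hy⟩ := out_of_eps h1
  obtain ⟨n, -, hn⟩ := hφ.irr.exists_apply_one
  have hn' : φ 1 = n := hn
  have h2 : (∑ x, if s x = -1 then φ (x * x) else 0) = ∑ x, if s x = -1 then (n : ℂ) else 0 :=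
    Finset.sum_congr rfl fun x _ => by
      split_ifs with hx
      · rw [h x hx, hn']
      · rfl
  rw [eps_def, h2, sum_out hy (fun _ => (n : ℂ)), Finset.sum_const, Finset.card_univ,
    ← Nat.card_eq_fintype_card, nsmul_eq_mul, ← mul_assoc,
    inv_mul_cancel₀ (card_ne_zero_complex _), one_mul] at h1
  have : (n : ℤ) = -1 := by exact_mod_cast h1
  omega

theorem posS_subgroupOf [Finite Y] {S K : Subgroup Y} (h : S ≤ K) (hS : Pos (s.comp S.subtype)) :
    Pos ((s.comp K.subtype).comp (S.subgroupOf K).subtype) :=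
  hS.of_surj (Subgroup.subgroupOfEquivOfLe h).symm.toMonoidHom (fun _ => rfl)
    (Subgroup.subgroupOfEquivOfLe h).symm.surjective

/-- the star operation attached to an element `y` -/
noncomputable def st (y : Y) (φ : Y → ℂ) : Y → ℂ := fun g => conj (φ (y * g * y⁻¹))

theorem TR.st (h : TR s φ) {y : Y} (hy : s y = -1) {g : Y} (hg : s g = 1) : st y φ g = φ g := by
  simp [FS2.st, h y g hy hg]

theorem tr_of_st (hφ : GCh0 s φ) {y : Y} (hy : s y = -1) (h : ∀ g, s g = 1 → st y φ g = φ g) :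
    TR s φ := fun z g hz hg => by
  have h1 : s (z * y⁻¹) = 1 := by rw [map_mul, sgn_inv, hz, hy]; rfl
  have h2 := hφ.conj_apply h1 (g := y * g * y⁻¹) (by rw [sgn_conj, hg])
  rw [← h g hg, st, Complex.conj_conj, ← h2]
  congr 1; group

theorem Irr0.st [Finite Y] (h : Irr0 s φ) (y : Y) : Irr0 s (st y φ) := by
  have := (h.comp_surj (sH := s) (MulAut.conj y).toMonoidHom (fun g => sgn_conj s y g)
    (MulAut.conj y).surjective).conj
  exact this

theorem ip_st [Finite Y] (y : Y) (φ ψ : Y → ℂ) : ip s (st y φ) (st y ψ) = conj (ip s φ ψ) := by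
  have := Fintype.ofFinite Y
  rw [← ip_comp_surj (sH := s) φ ψ (MulAut.conj y).toMonoidHom (fun g => sgn_conj s y g)
    (MulAut.conj y).surjective, ip_def, ip_def, map_mul, map_sum, map_inv₀, map_natCast]
  simp only [apply_ite (starRingEnd ℂ), map_zero, map_mul]
  rfl

theorem st_st (hφ : GCh0 s φ) (y : Y) {g : Y} (hg : s g = 1) : st y (st y φ) g = φ g := by
  have := hφ.conj_apply (sgn_mul_self s y) hg
  simp only [st, Complex.conj_conj]
  rw [← this]; congr 1; group

end Cfsg.Lib.FS2
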