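import Cfsg.Agent.Lib.FS2.TWB

/-! Clifford theory over a real linear character, odd central factors, and the passage to
ordinary indicators. -/

namespace Cfsg.Lib.FS2

open Cfsg.Lib.Char Cfsg.Lib.Induce Cfsg.Lib.Clifford
open scoped ComplexConjugate

variable {Y H : Type*} [Group Y] [Group H] {s : Y →* ℤˣ} {sH : H →* ℤˣ} {φ ψ : Y → ℂ}

theorem conj_eq_of_sq {z : ℂˣ} (h : z * z = 1) : conj (z : ℂ) = z := by
  have : (z : ℂ) * z = 1 := by rw [← Units.val_mul, h, Units.val_one]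
  rcases mul_self_eq_one_iff.1 this with h | h <;> simp [h]

theorem cj_of_real {z : ℂ} (h : conj z = z) (a : ℤˣ) : cj a z = z := by
  unfold cj; split_ifs <;> simp [h]

theorem mul_inv_mem_ker {L : Type*} [Group L] {π : Y →* L} {j : L →* Y} (hπj : ∀ l, π (j l) = l)
    (y : Y) : y * (j (π y))⁻¹ ∈ π.ker := by simp [MonoidHom.mem_ker, hπj]

/-- characters lying over a real linear character of the kernel of a split surjection -/
theorem eps_ne_of_lin [Finite Y] {L : Type*} [Group L] [Finite L] {sL : L →* ℤˣ} (π : Y →* L)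
    (j : L →* Y) (hπj : ∀ l, π (j l) = l) (hs : ∀ y, sL (π y) = s y) [Fintype π.ker]
    (h : Irr0 s φ) (ν : π.ker →* ℂˣ) (hν : ∀ n, ν n * ν n = 1)
    (hc : classInner (fun n : π.ker => φ n) (fun n => ν n) ≠ 0) (Lν : Subgroup L)
    (hL : ∀ l, l ∈ Lν ↔ ∀ n : π.ker,
      ν ⟨j l * n * (j l)⁻¹, (MonoidHom.normal_ker π).conj_mem _ n.2 _⟩ = ν n)
    (hp : Pos (sL.comp Lν.subtype)) : eps s φ ≠ -1 := by
  classical
  intro he
  have hle : π.ker ≤ s.ker := fun y hy => by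
    rw [MonoidHom.mem_ker, ← hs, show π y = 1 from hy, map_one]
  have hcl := exists_clifford π.ker hle h (h.tr he) (out_of_eps he) (isIrrCharacter_hom ν) hc
  set T := tin s π.ker (fun n => (ν n : ℂ))
  obtain ⟨hTo, η, hη, hηt, hov, hip⟩ := hcl
  have hT : ∀ y, y ∈ T ↔ ∀ n : π.ker,
      ν ⟨y * n * y⁻¹, (MonoidHom.normal_ker π).conj_mem _ n.2 _⟩ = ν n := fun y => by
    simp only [T, mem_tin, cj_of_real (conj_eq_of_sq (hν _)), Units.ext_iff]
  have hNT : π.ker ≤ T := le_tin hle (isIrrCharacter_hom ν).isClassFunction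
  have h1 : eps s φ = eps _ η := eps_eq_of_odd h (h.tr he) hη hηt T.subtype (fun _ => rfl) hTo
    (by have := hip φ h.gch; rw [h.ip_self] at this; exact this ▸ oddC_one)
  let μ : T →* ℂˣ := MonoidHom.mk' (fun p => ν ⟨p * (j (π p))⁻¹, mul_inv_mem_ker hπj p⟩)
    fun p q => by
      rw [mul_comm, ← (hT p).1 p.2 ⟨q * (j (π q))⁻¹, _⟩, ← map_mul]
      congr 2
      simp [mul_assoc]
  let π' : T →* Lν := (π.comp T.subtype).codRestrict Lν fun p => (hL _).2 ((hT _).1 (by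
    have := T.mul_mem (T.inv_mem (hNT (mul_inv_mem_ker hπj (p : Y)))) p.2
    simpa [mul_assoc] using this))
  have hsurj : Function.Surjective π' := fun l =>
    ⟨⟨j l, (hT _).2 ((hL _).1 l.2)⟩, Subtype.ext (hπj l)⟩
  have hη' : Irr0 (s.comp T.subtype) (fun p => μ p * η p) :=
    hη.irr.hom_mul (μ.comp (s.comp T.subtype).ker.subtype)
  let e : π.ker ≃* π'.ker :=
    { toFun := fun n => ⟨⟨n, hNT n.2⟩, Subtype.ext n.2⟩
      invFun := fun n => ⟨n.1.1, congrArg Subtype.val n.2⟩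
      left_inv := fun _ => rfl
      right_inv := fun _ => rfl
      map_mul' := fun _ _ => rfl }
  have := Fintype.ofFinite π'.ker
  obtain ⟨ψ, hψ, hψ'⟩ := hη'.exists_comp (s := sL.comp Lν.subtype) π' (fun p => hs p) hsurj
    fun x hx => by
      refine res_eq_of_inner_one π'.ker (fun p hp => hle (congrArg Subtype.val hp)) hη' ?_ hx
      rw [← classInner_comp_equiv e]
      rw [classInner_eq_inner_one] at hov
      convert hov using 3 with n
      rw [conj_eq_of_sq (hν n), mul_comm]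
      congr 2
      exact congrArg ν (Subtype.ext (by
        change (n : Y) * (j (π n))⁻¹ = n
        rw [show π n = 1 from n.2]; simp))
  refine hp ψ hψ ?_
  rw [← eps_comp_surj (sH := s.comp T.subtype) ψ π' (fun p => hs p) hsurj, ← eps_congr hψ', ← he,
    h1]
  unfold eps
  have h2 : ∀ y, μ (y * y) = 1 := fun y => by rw [map_mul]; exact hν _
  simp only [h2, Units.val_one, one_mul]
  rfl

theorem exists_pos_sup [Finite Y] {M : Subgroup Y} {x : Y} (hx : s x = 1) (hM : M ≤ cen s x)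
    (hp : Pos (s.comp M.subtype)) : ∃ K : Subgroup Y, (∀ Y', M ≤ Y' → x ∈ Y' → K ≤ Y') ∧
      x ∈ K ∧ M ≤ K ∧ Pos (s.comp K.subtype) := by
  classical
  have hc : ∀ m ∈ M, ∀ i : ℤ, x ^ i * m = m * x ^ (s m * i : ℤ) := fun m hm i => by
    have := mem_cen.1 ((cen s x).inv_mem (hM hm))
    rw [sgn_inv] at this
    rw [zpow_mul, ← this, conj_zpow]; group
  let K : Subgroup Y :=
    { carrier := {y | ∃ m ∈ M, ∃ i : ℤ, y = m * x ^ i}
      one_mem' := ⟨1, M.one_mem, 0, by simp⟩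
      mul_mem' := by
        rintro _ _ ⟨m, hm, i, rfl⟩ ⟨m', hm', i', rfl⟩
        refine ⟨m * m', M.mul_mem hm hm', s m' * i + i', ?_⟩
        rw [mul_assoc, ← mul_assoc (x ^ i), hc m' hm', zpow_add]; group
      inv_mem' := by
        rintro _ ⟨m, hm, i, rfl⟩
        exact ⟨m⁻¹, M.inv_mem hm, _, by rw [mul_inv_rev, ← zpow_neg, hc _ (M.inv_mem hm)]⟩ }
  have hxK : x ∈ K := ⟨1, M.one_mem, 1, by simp⟩
  have hMK : M ≤ K := fun m hm => ⟨m, hm, 0, by simp⟩
  refine ⟨K, ?_, hxK, hMK, fun φ h he => ?_⟩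
  · rintro Y' h1 h2 _ ⟨m, hm, i, rfl⟩
    exact Y'.mul_mem (h1 hm) (Y'.zpow_mem h2 i)
  have hsm : ∀ m (i : ℤ), s (m * x ^ i) = s m := fun m i => by simp [hx]
  have ho : Out (s.comp M.subtype) := by
    obtain ⟨⟨_, m, hm, i, rfl⟩, hy⟩ := out_of_eps he
    exact ⟨⟨m, hm⟩, (hsm m i).symm.trans hy⟩
  let i := kerMap (s := s.comp K.subtype) (sH := s.comp M.subtype) (Subgroup.inclusion hMK)
    fun _ => rfl
  let x' : (s.comp K.subtype).ker := ⟨⟨x, hxK⟩, hx⟩
  obtain ⟨α, β, hα, hβ, e⟩ := h.irr.exists_eq_mul_of_commute (Subgroup.zpowers x') i.range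
    (by
      rintro ⟨_, k, rfl⟩ ⟨_, m, rfl⟩
      refine Commute.zpow_left (Subtype.ext (Subtype.ext ?_)) k
      have := hc m.1.1 m.1.2 1
      rw [show s m.1.1 = 1 from m.2, Units.val_one, mul_one, zpow_one] at this
      exact this)
    (by
      rw [eq_top_iff]
      rintro ⟨⟨_, m, hm, k, rfl⟩, hy⟩ -
      have h1 : s m = 1 := (hsm m k).symm.trans hy
      rw [sup_comm]
      exact Subgroup.mul_mem_sup (x := i ⟨⟨m, hm⟩, h1⟩) (y := x' ^ k) ⟨_, rfl⟩ ⟨k, rfl⟩)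
  have hirr : Irr0 (s.comp M.subtype) (fun m => φ (Subgroup.inclusion hMK m)) := by
    have h1 := hβ.comp_surjective i.rangeRestrict i.rangeRestrict_surjective
    unfold Irr0
    convert h1 using 2 with m
    have := e 1 (i.rangeRestrict m)
    rwa [hα.apply_one_of_comm, one_mul, OneMemClass.coe_one, one_mul] at this
  exact hp _ hirr ((eps_eq_of_irr h (h.tr he) _ (fun _ => rfl) ho hirr).symm.trans he)

theorem pos_prod_sign [Finite Y] (h : Pos s) : Pos (s.comp (MonoidHom.fst Y ℤˣ)) := by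
  have h1 : Pos (MonoidHom.fst ℤˣ ℤˣ) := pos_of_sq fun y _ => by
    ext <;> simp [Int.units_mul_self]
  refine (h.fp h1).of_surj ((fp1 _ _).prod ((MonoidHom.snd _ _).comp (fp2 _ _))) (fun _ => rfl) ?_
  rintro ⟨y, a⟩
  exact ⟨⟨(y, s y, a), rfl⟩, rfl⟩

theorem eps_one [Finite Y] (h : Out s) : eps s (fun _ => 1) = 1 := by
  classical
  have := Fintype.ofFinite Y
  obtain ⟨y, hy⟩ := h
  rw [eps_def, sum_out hy (fun _ => (1 : ℂ)), Finset.sum_const, Finset.card_univ,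
    ← Nat.card_eq_fintype_card, nsmul_eq_mul, mul_one, inv_mul_cancel₀ (card_ne_zero_complex _)]

theorem Pos.exists_invol [Finite Y] (h : Pos s) (ho : Out s) : ∃ y, s y = -1 ∧ y * y = 1 := by
  classical
  have := Fintype.ofFinite Y
  by_contra hn
  choose ext hext using exists_r0 s
  have hirr : ∀ κ : IrrCharacter s.ker, Irr0 s (ext κ) := fun κ => by
    unfold Irr0; rw [hext]; exact κ.2
  have h1 : ∀ κ : IrrCharacter s.ker, ∃ a : ℕ, (κ : s.ker → ℂ) 1 * eps s (ext κ) = a := fun κ => by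
    obtain ⟨n, -, hn⟩ := κ.2.exists_apply_one
    rcases (hirr κ).eps_mem with e | e | e
    · exact ⟨0, by simp [e]⟩
    · exact ⟨n, by simp [e, hn]⟩
    · exact absurd e (h _ (hirr κ))
  choose a ha using h1
  have h2 : ((∑ κ, a κ : ℕ) : ℂ) = 0 := by
    push_cast
    simp only [← ha, eps_def, Finset.mul_sum]
    rw [Finset.sum_comm]
    refine Finset.sum_eq_zero fun y _ => ?_
    split_ifs with hy
    · have h3 := sum_irr_apply_one_mul_apply_of_ne_one (G := s.ker) (g := ⟨y * y, sgn_mul_self s y⟩)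
        fun e => hn ⟨y, hy, congrArg Subtype.val e⟩
      have h4 : ∀ κ : IrrCharacter s.ker, ext κ (y * y) = κ.1 ⟨y * y, sgn_mul_self s y⟩ :=
        fun κ => congrFun (hext κ) ⟨y * y, sgn_mul_self s y⟩
      simp only [h4, mul_left_comm _ (Nat.card s.ker : ℂ)⁻¹, ← Finset.mul_sum, h3, mul_zero]
    · simp
  have h3 := Finset.sum_eq_zero_iff.1 (Nat.cast_eq_zero.1 h2) ⟨_, isIrrCharacter_one⟩
    (Finset.mem_univ _)
  have h4 := ha ⟨_, isIrrCharacter_one⟩
  rw [h3, eps_congr (ψ := fun _ => 1) (fun g hg => congrFun (hext _) ⟨g, hg⟩), eps_one ho] at h4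
  simp at h4

theorem real_of_isConj [Finite Y] {χ : Y → ℂ} (hχ : IsIrrCharacter Y χ) (hr : ∀ g : Y, IsConj g g⁻¹)
    (g : Y) : (χ g).im = 0 := by
  rw [← Complex.conj_eq_iff_im, ← hχ.apply_inv]
  exact (hχ.isClassFunction.eq_of_isConj (hr g)).symm

theorem fs_one [Fintype Y] (hp : Pos (MonoidHom.snd Y ℤˣ)) (hr : ∀ g : Y, IsConj g g⁻¹)
    {χ : Y → ℂ} (hχ : IsIrrCharacter Y χ) : (Nat.card Y : ℂ)⁻¹ * ∑ g, χ (g * g) = 1 := by
  let f := (MonoidHom.fst Y ℤˣ).comp (MonoidHom.snd Y ℤˣ).ker.subtype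
  have hf : Function.Bijective f :=
    ⟨fun a b e => Subtype.ext (Prod.ext e (a.2.trans b.2.symm)), fun y => ⟨⟨(y, 1), rfl⟩, rfl⟩⟩
  have h1 := hp (fun p => χ p.1) (hχ.comp_surjective f hf.2)
  rw [eps_def, Nat.card_eq_of_bijective f hf, Fintype.sum_prod_type] at h1
  have h2 : ∀ c : ℂ, (∑ y : ℤˣ, if y = -1 then c else 0) = c := fun c => by simp
  simp only [MonoidHom.coe_snd, Prod.fst_mul] at h1
  erw [Finset.sum_congr rfl fun x _ => h2 (χ (x * x))] at h1
  rcases hχ.frobeniusSchur with ⟨⟨g, hg⟩, -⟩ | ⟨-, h | h⟩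
  · exact absurd (real_of_isConj hχ hr g) hg
  · exact h
  · exact absurd h h1

theorem fs_one_ker [Fintype Y] [Fintype s.ker] (ho : Out s)
    (hY : ∀ χ, IsIrrCharacter Y χ → (Nat.card Y : ℂ)⁻¹ * ∑ g, χ (g * g) = 1)
    (hr : ∀ g : s.ker, IsConj g g⁻¹) {α : s.ker → ℂ} (hα : IsIrrCharacter s.ker α) :
    (Nat.card s.ker : ℂ)⁻¹ * ∑ g, α (g * g) = 1 := by
  obtain ⟨ψ, rfl⟩ := exists_r0 s α
  have hψ : Irr0 s ψ := hα
  have h1 := nu_ind0 hψ.gch ho
  have h2 : nu0 s ψ = (Nat.card s.ker : ℂ)⁻¹ * ∑ g, r0 s ψ (g * g) := by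
    rw [nu0, finsum_eq_sum_of_fintype, ← sum_ker (fun y => ψ (y * y))]; rfl
  obtain ⟨n, hn⟩ := (isCharacter_indFun s.ker hα.isCharacter).exists_eq_sum_nat
  have h3 : (Nat.card Y : ℂ)⁻¹ * ∑ g, indFun s.ker (r0 s ψ) (g * g) = ((∑ κ, n κ : ℕ) : ℂ) := by
    rw [hn]
    simp only [Finset.sum_apply, Pi.smul_apply, smul_eq_mul]
    rw [Finset.sum_comm, Finset.mul_sum]
    push_cast
    refine Finset.sum_congr rfl fun κ _ => ?_
    rw [← Finset.mul_sum, mul_left_comm, hY _ κ.2, mul_one]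
  have h4 : ∑ κ, n κ ≠ 0 := fun h0 => by
    refine indFun_ne_zero s.ker hα.apply_one_ne_zero (hn.trans (Finset.sum_eq_zero fun κ _ => ?_))
    rw [Finset.sum_eq_zero_iff.1 h0 κ (Finset.mem_univ _)]; simp
  rcases hα.frobeniusSchur with ⟨⟨g, hg⟩, -⟩ | ⟨-, h | h⟩
  · exact absurd (real_of_isConj hα hr g) hg
  · exact h
  · rw [h3, h2, h] at h1
    generalize ∑ κ, n κ = N at h1 h4
    exfalso
    rcases hψ.eps_mem with e | e | e <;> rw [e] at h1 <;> norm_cast at h1 <;> omega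

end Cfsg.Lib.FS2
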