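import Cfsg.Agent.Lib.FS2.Cl
import Cfsg.Agent.Lib.Clifford.Extension
import Cfsg.Agent.Lib.CharDeg.CosetSum

/-! Extending an invariant character by normalising determinants on the eigenspaces of a central
element of a complement. -/

namespace Cfsg.Lib.FS2

open Cfsg.Lib.Char Cfsg.Lib.Induce Cfsg.Lib.Clifford Module
open scoped ComplexConjugate

section Prj
variable {A V : Type*} [Group A] [Fintype A] [AddCommGroup V] [Module ℂ V]
  (b : Representation ℂ A V) (ξ : A →* ℂˣ)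

/-- projection onto a weight space -/
noncomputable def prj : V →ₗ[ℂ] V := (Nat.card A : ℂ)⁻¹ • ∑ u, (ξ u⁻¹ : ℂ) • b u

theorem mul_prj (v : A) : b v * prj b ξ = (ξ v : ℂ) • prj b ξ := by
  rw [prj, mul_smul_comm, smul_comm]
  congr 1
  rw [Finset.mul_sum, Finset.smul_sum,
    ← Equiv.sum_comp (Equiv.mulLeft v) (fun u => (ξ v : ℂ) • (ξ u⁻¹ : ℂ) • b u)]
  refine Finset.sum_congr rfl fun u _ => ?_
  simp [smul_smul, mul_left_comm (ξ v : ℂ)]

theorem prj_mul_prj : prj b ξ * prj b ξ = prj b ξ := by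
  conv_lhs => lhs; rw [prj]
  rw [smul_mul_assoc, Finset.sum_mul]
  simp only [smul_mul_assoc, mul_prj, smul_smul, ← Units.val_mul, ← map_mul, inv_mul_cancel,
    map_one, Units.val_one, one_smul, Finset.sum_const, Finset.card_univ,
    ← Nat.card_eq_fintype_card, ← Nat.cast_smul_eq_nsmul ℂ]
  rw [inv_mul_cancel₀ (card_ne_zero_complex A), one_smul]

theorem prj_comm {C : V →ₗ[ℂ] V} (h : ∀ u, b u * C = C * b u) : prj b ξ * C = C * prj b ξ := by
  simp only [prj, smul_mul_assoc, mul_smul_comm, Finset.sum_mul, Finset.mul_sum, h]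

theorem trace_prj_mul (C : V →ₗ[ℂ] V) : LinearMap.trace ℂ V (prj b ξ * C) =
    (Nat.card A : ℂ)⁻¹ * ∑ u, (ξ u⁻¹ : ℂ) * LinearMap.trace ℂ V (b u * C) := by
  simp [prj, Finset.sum_mul]

theorem exists_prj [IsMulCommutative A] [FiniteDimensional ℂ V] {u : A}
    (hu : ‖b.character u‖ = 1) {p : ℕ} (hp : p.Prime) :
    ∃ (ξ : A →* ℂˣ) (d : ℕ), ¬ p ∣ d ∧ LinearMap.trace ℂ V (prj b ξ) = d := by
  by_contra hn
  have hb := isCharacter_character b
  have h1 : ∀ κ : IrrCharacter A, ∃ k : ℕ, classInner b.character κ = p * k := fun κ => by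
    obtain ⟨ξ, hξ⟩ := κ.2.exists_hom_of_comm
    obtain ⟨d, hd⟩ := hb.exists_inner_eq_nat κ.2.isCharacter
    have h2 : LinearMap.trace ℂ V (prj b ξ) = d := by
      rw [← hd, ← mul_one (prj b ξ), trace_prj_mul, classInner_def, hξ]
      simp only [conj_hom_apply, mul_one, mul_comm (b.character _)]; rfl
    obtain ⟨k, rfl⟩ : p ∣ d := by
      by_contra h3
      exact hn ⟨ξ, d, h3, h2⟩
    exact ⟨k, by rw [hd]; simp⟩
  choose k hk using h1
  have h2 := hb.isClassFunction.apply_eq_sum_irr u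
  simp only [hk, mul_assoc, ← Finset.mul_sum] at h2
  have h3 : IsIntegral ℤ (∑ κ : IrrCharacter A, (k κ : ℂ) * (κ : A → ℂ) u) :=
    IsIntegral.sum _ fun κ _ => (isIntegral_natCast _).mul (κ.2.isIntegral u)
  generalize ∑ κ : IrrCharacter A, (k κ : ℂ) * (κ : A → ℂ) u = z at h2 h3
  have h4 : b.character u * conj (b.character u) = 1 := by
    rw [Complex.mul_conj, Complex.normSq_eq_norm_sq, hu]; simp
  have h0 : (p : ℂ) ≠ 0 := by exact_mod_cast hp.ne_zero
  have h5 : z * conj z = ((1 : ℕ) : ℂ) / ((p * p : ℕ) : ℂ) := by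
    rw [h2, map_mul, map_natCast] at h4
    push_cast
    field_simp
    linear_combination h4
  have h6 := nat_dvd_of_isIntegral_div (mul_ne_zero hp.ne_zero hp.ne_zero)
    (h5 ▸ h3.mul (isIntegral_conj h3))
  exact hp.one_lt.ne' (Nat.eq_one_of_mul_eq_one_left (Nat.dvd_one.1 h6))

end Prj

variable {G : Type*} [Group G] [Finite G] (N : Subgroup G) [hN : N.Normal]

theorem norm_eq_one_of_coset {η : G → ℂ} (hη : IsCharacter G η)
    (hηN : IsIrrCharacter N (fun n : N => η n)) {t : G}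
    (h : ∀ n ∈ N, ∃ x z, ‖η z‖ = ‖η 1‖ ∧ n * t = x * (z * t) * x⁻¹) : ‖η t‖ = 1 := by
  have := Fintype.ofFinite N
  have h1 := CharDeg.sum_coset_mul_conj_self N hη hηN t
  have h2 : ∀ n : N, η (n * t) * conj (η (n * t)) = ((‖η t‖ ^ 2 : ℝ) : ℂ) := fun n => by
    obtain ⟨x, z, hz, e⟩ := h n n.2
    obtain ⟨ω, hω, hω'⟩ := mem_charCenter.1 (hη.mem_charCenter_iff.2 hz)
    rw [e, hη.isClassFunction.conj_apply, Complex.mul_conj, Complex.normSq_eq_norm_sq, hω',
      norm_mul, hω, one_mul]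
  simp only [h2, Finset.sum_const, Finset.card_univ, ← Nat.card_eq_fintype_card,
    nsmul_eq_mul] at h1
  have h3 := mul_left_cancel₀ (card_ne_zero_complex N) (h1.trans (mul_one _).symm)
  have h4 : ‖η t‖ ^ 2 = 1 := by exact_mod_cast h3
  exact (pow_eq_one_iff_of_nonneg (norm_nonneg _) two_ne_zero).1 h4

theorem exists_ext_of_central {θ : N → ℂ} (hθ : IsIrrCharacter N θ)
    (hinv : ∀ (g : G) (n : N), θ ⟨g * n * g⁻¹, hN.conj_mem (n : G) n.2 g⟩ = θ n)
    (e : G →* G) (he : ∀ n ∈ N, e n = 1) (he' : ∀ g, g * (e g)⁻¹ ∈ N) {t : G}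
    (ht : ∀ g, e g * t = t * e g)
    (h : ∀ n ∈ N, ∃ x z : N, ‖θ z‖ = ‖θ 1‖ ∧ n * t = x * (z * t) * (x : G)⁻¹) :
    ∃ χ : G → ℂ, IsIrrCharacter G χ ∧ ∀ n : N, χ n = θ n := by
  classical
  obtain ⟨k, ρ, hρ, rfl⟩ := id hθ
  have hs := coverFst_surjective N ρ hinv
  set T := N ⊔ Subgroup.zpowers t
  have hNT : N ≤ T := le_sup_left
  have htT : Subgroup.zpowers t ≤ T := le_sup_right
  obtain ⟨η, hη, hηN⟩ := exists_extension_le_of_isCyclic N hNT hθ
    (by rw [(inertia_eq_top_iff N).2 hinv]; exact le_top)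
    (isCyclic_quotient_subgroupOf_of_map N (by
      rw [Subgroup.map_sup, MonoidHom.map_zpowers, (Subgroup.map_eq_bot_iff _).2 (by simp),
        bot_sup_eq]
      infer_instance))
  obtain ⟨σ, hσ, hσN⟩ := exists_rep_extension_of_character N ρ (Subgroup.inclusion hNT)
    hη.isCharacter hηN
  let t' : T := ⟨t, htT (Subgroup.mem_zpowers t)⟩
  have hηt : ‖η t'‖ = 1 := by
    refine norm_eq_one_of_coset (N.subgroupOf T) hη.isCharacter
      ((isIrrCharacter_res_subgroupOf_iff hNT).2 (by simpa only [hηN] using hθ)) fun n hn => ?_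
    obtain ⟨x, z, hz, e⟩ := h n hn
    exact ⟨⟨x, hNT x.2⟩, ⟨z, hNT z.2⟩, by rw [hηN z, hz, ← hηN 1]; rfl, Subtype.ext e⟩
  let B : cover N ρ := ⟨(t, σ.asGroupHom t'), fun n => by
    rw [← hσN, ← hσN, Representation.asGroupHom_apply, ← map_mul, ← map_mul]
    congr 1; ext; simp [t']⟩
  have hB : coverRep N ρ B = σ t' := rfl
  have hk : ∀ x : cover N ρ, coverFst N ρ x * (e (coverFst N ρ x))⁻¹ ∈ N := fun x => he' _
  let y : cover N ρ →* cover N ρ := MonoidHom.mk' (fun x => (coverInl N ρ ⟨_, hk x⟩)⁻¹ * x)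
    fun x x' => by
      have h1 := conj_coverInl N ρ x ⟨_, hk x'⟩
      have h2 : coverInl N ρ ⟨_, hk (x * x')⟩ = x * coverInl N ρ ⟨_, hk x'⟩ * x⁻¹ *
          coverInl N ρ ⟨_, hk x⟩ := by
        rw [h1, ← map_mul]; congr 1; ext; simp [mul_assoc]
      rw [h2]; group
  have hy1 : ∀ x, coverFst N ρ (y x) = e (coverFst N ρ x) := fun x => by simp [y]
  have hy2 : ∀ n, y (coverInl N ρ n) = 1 := fun n => by
    simp only [y, MonoidHom.mk'_apply, inv_mul_eq_one]
    congr 1; ext; simp [he n n.2]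
  have hy3 : ∀ c, y (coverScalar N ρ c) = coverScalar N ρ c := fun c => by
    simp only [y, MonoidHom.mk'_apply, mul_eq_right, inv_eq_one]
    rw [← map_one (coverInl N ρ)]; congr 1; ext; simp
  have hyB : ∀ x, y x * B = B * y x := fun x => by
    obtain ⟨c, hc⟩ := exists_scalar_of_fst_eq_one N ρ (x := y x * B * (y x)⁻¹ * B⁻¹) (by
      have : coverFst N ρ B = t := rfl
      simp [hy1, this, ht])
    have h1 : y x * B * (y x)⁻¹ = coverScalar N ρ c * B := by rw [← hc]; group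
    have h2 := congrArg (coverRep N ρ).character h1
    rw [Representation.char_conj, Representation.character, Representation.character, map_mul,
      coverRep_scalar, smul_mul_assoc, one_mul, map_smul, hB] at h2
    have h3 : LinearMap.trace ℂ _ (σ t') ≠ 0 := fun h0 => by
      rw [← hσ, Representation.character, h0] at hηt; simp at hηt
    have h4 : c = 1 := Units.ext (mul_right_cancel₀ h3 (h2.symm.trans (one_mul _).symm))
    rw [h4, map_one, one_mul] at h1
    exact mul_inv_eq_iff_eq_mul.1 h1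
  refine exists_extension_of_hasExp N ρ hinv (holds_one_of_gcd (P := HasExp N ρ)
    (fun _ _ => HasExp.gcd) Subgroup.index_ne_zero_of_finite (hasExp_index hs) fun p hp _ => ?_)
  have := Fintype.ofFinite (Subgroup.zpowers t)
  let b : Representation ℂ (Subgroup.zpowers t) _ := σ.comp (Subgroup.inclusion htT)
  obtain ⟨ξ, d, hd, hd'⟩ := exists_prj b (u := ⟨t, Subgroup.mem_zpowers t⟩)
    (by rw [← hηt, ← hσ]; rfl) hp
  let τ : Representation ℂ (cover N ρ) _ := (coverRep N ρ).comp y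
  have hc : ∀ x, prj b ξ * τ x = τ x * prj b ξ := fun x => prj_comm b ξ <| by
    rintro ⟨_, i, rfl⟩
    have h1 : b ⟨t ^ i, i, rfl⟩ = coverRep N ρ (B ^ i) := by
      change (σ.asGroupHom (t' ^ i)).val = (coverSnd N ρ (B ^ i)).val
      rw [map_zpow, map_zpow]; rfl
    rw [h1]
    change _ * coverRep N ρ (y x) = coverRep N ρ (y x) * _
    rw [← map_mul, ← map_mul, (Commute.zpow_right (hyB x) i).eq]
  have hdim : finrank ℂ (LinearMap.range (prj b ξ)) = d := by
    have h1 := character_rangeRep τ _ hc (prj_mul_prj b ξ) 1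
    rw [Representation.char_one, map_one, mul_one, hd'] at h1
    exact_mod_cast h1
  refine ⟨d, hd, detHomRep (rangeRep τ _ hc), fun n => ?_, fun c => ?_⟩
  · have h1 : rangeRep τ _ hc (coverInl N ρ n) = 1 := by
      ext1 v
      refine Subtype.ext ?_
      change τ _ v = v
      simp [τ, hy2]
    exact Units.ext (by rw [detHomRep_apply, h1]; simp)
  · have h1 : rangeRep τ _ hc (coverScalar N ρ c) = (c : ℂ) • LinearMap.id := by
      ext1 v
      refine Subtype.ext ?_
      change τ _ v = (c : ℂ) • (v : _)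
      simp [τ, hy3]
    exact Units.ext (by rw [detHomRep_apply, h1, LinearMap.det_smul, hdim]; simp)

omit hN in
/-- normalisation of an extension -/
theorem exists_hom_norm {L : Type*} [Group L] [Finite L] (j : L →* G) (c : L →* L) (cG : G → G)
    {ω : G → ℂ} (hω : IsCharacter G ω) (β : G →* ℂˣ) (hβ : ∀ g, conj (ω (cG g)) = β g * ω g)
    {t : G} (ht : ∀ l, j l * t = t * j l) (ht1 : ‖ω t‖ = 1)
    (hc : ∀ (i : ℤ) l, cG (t ^ i * j l) = t ^ (-i) * j (c l)) :
    ∃ δ : L →* ℂˣ, ∀ l, (δ (c l))⁻¹ = β (j l) * δ l := by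
  classical
  have hβt : β t = 1 := by
    have h1 := hβ (t ^ (1 : ℤ) * j 1)
    rw [hc] at h1
    simp only [map_one, mul_one, zpow_neg, zpow_one, hω.apply_inv, Complex.conj_conj] at h1
    have h0 : ω t ≠ 0 := fun h0 => by simp [h0] at ht1
    exact Units.ext (mul_right_cancel₀ h0 (h1.symm.trans (one_mul _).symm))
  let I : AddSubgroup ℤ :=
    { carrier := {k | ∃ δ : L →* ℂˣ, ∀ l, (δ (c l))⁻¹ = β (j l) ^ k * δ l}
      zero_mem' := ⟨1, by simp⟩
      add_mem' := fun ⟨a, ha⟩ ⟨b, hb⟩ => ⟨a * b, fun l => by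
        simp only [MonoidHom.mul_apply, mul_inv, ha, hb, zpow_add, mul_mul_mul_comm]⟩
      neg_mem' := fun ⟨a, ha⟩ => ⟨a⁻¹, fun l => by
        simp only [MonoidHom.inv_apply, ha, zpow_neg, mul_inv]⟩ }
  suffices h : (1 : ℤ) ∈ I by simpa [I] using h
  refine one_mem_of_forall_prime I fun p hp => ?_
  obtain ⟨k, σ, rfl⟩ := hω
  have := Fintype.ofFinite (Subgroup.zpowers t)
  let b : Representation ℂ (Subgroup.zpowers t) _ := σ.comp (Subgroup.zpowers t).subtype
  obtain ⟨ξ, d, hd, hd'⟩ := exists_prj b (u := ⟨t, Subgroup.mem_zpowers t⟩) ht1 hp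
  refine ⟨d, ?_, by exact_mod_cast hd⟩
  let τ : Representation ℂ L _ := σ.comp j
  have hcm : ∀ x, prj b ξ * τ x = τ x * prj b ξ := fun x => prj_comm b ξ <| by
    rintro ⟨_, i, rfl⟩
    change σ (t ^ i) * σ (j x) = σ (j x) * σ (t ^ i)
    rw [← map_mul, ← map_mul, (Commute.zpow_right (ht x) i).eq]
  have hχ := isCharacter_trace_mul τ _ hcm (prj_mul_prj b ξ)
  set χ := fun l => LinearMap.trace ℂ _ (prj b ξ * τ l)
  have hχ1 : χ 1 = d := by simp [χ, hd']
  have hχe : ∀ l, χ l = (Nat.card (Subgroup.zpowers t) : ℂ)⁻¹ *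
      ∑ u : Subgroup.zpowers t, (ξ u⁻¹ : ℂ) * σ.character (u * j l) := fun l => by
    simp only [χ, trace_prj_mul, Representation.character, map_mul]; rfl
  have key : (fun l => conj (χ (c l))) = fun l => ((β.comp j) l : ℂ) * χ l := by
    funext l
    rw [hχe, hχe, map_mul, map_inv₀, map_natCast, map_sum, mul_left_comm]
    congr 1
    rw [Finset.mul_sum, ← Equiv.sum_comp (Equiv.inv (Subgroup.zpowers t))]
    refine Finset.sum_congr rfl ?_
    rintro ⟨_, i, rfl⟩ -
    have h1 := hβ (t ^ i * j l)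
    rw [hc, zpow_neg, map_mul β, map_zpow, hβt, one_zpow, one_mul] at h1
    simp only [Equiv.inv_apply, map_mul, conj_hom_apply, inv_inv, Subgroup.coe_inv, h1,
      MonoidHom.comp_apply]
    ring
  refine ⟨detHom χ, fun l => Units.ext ?_⟩
  have h1 := congrFun (detChar_hom_mul hχ hχ1 (β.comp j)) l
  rw [← key, detChar_conj (hχ.comp c), detChar_comp hχ c] at h1
  rw [← map_inv, ← conj_hom_apply, detHom_apply]
  simpa using h1

end Cfsg.Lib.FS2
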