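import Cfsg.Agent.Lib.FS2.Weil

/-! Ring-valued hermitian forms on finite modules and their extended unitary groups. -/

namespace Cfsg.Lib.FS2

universe u

/-- permutations with a sign -/
abbrev PG (V : Type*) := Equiv.Perm V × ℤˣ

abbrev sn (V : Type*) : PG V →* ℤˣ := MonoidHom.snd _ _

abbrev PosS {V : Type*} (K : Subgroup (PG V)) : Prop := Pos ((sn V).comp K.subtype)

theorem app_inv {V : Type*} (g : Equiv.Perm V) (x : V) : g (g⁻¹ x) = x := g.apply_symm_apply x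
theorem inv_app {V : Type*} (g : Equiv.Perm V) (x : V) : g⁻¹ (g x) = x := g.symm_apply_apply x

/-- stabiliser of a point -/
def fixS {V : Type*} (v : V) : Subgroup (PG V) :=
  (MulAction.stabilizer (Equiv.Perm V) v).comap (MonoidHom.fst _ _)

theorem mem_fixS {V : Type*} {v : V} {g : PG V} : g ∈ fixS v ↔ g.1 v = v := Iff.rfl

/-- stabiliser of a function -/
def presQ {V T : Type*} (Q : V → T) : Subgroup (PG V) where
  carrier := {g | ∀ x, Q (g.1 x) = Q x}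
  one_mem' _ := rfl
  mul_mem' {a b} ha hb x := (ha (b.1 x)).trans (hb x)
  inv_mem' {a} ha x := (ha _).symm.trans (congrArg Q (a.1.apply_symm_apply x))

theorem mem_presQ {V T : Type*} {Q : V → T} {g : PG V} : g ∈ presQ Q ↔ ∀ x, Q (g.1 x) = Q x :=
  Iff.rfl

theorem posS_congr {V : Type*} {K K' : Subgroup (PG V)} (e : K = K') (h : PosS K) : PosS K' := e ▸ h

theorem posS_of_subsingleton {V : Type*} [Subsingleton V] (K : Subgroup (PG V)) : PosS K :=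
  pos_of_sq fun _ _ => Subtype.ext (Prod.ext (Subsingleton.elim _ _) (Int.units_mul_self _))

theorem pos_split {V V₁ V₂ : Type*} [Finite V] [Finite V₁] [Finite V₂] (e : V₁ × V₂ ≃ V)
    {K : Subgroup (PG V)} {S₁ : Subgroup (PG V₁)} {S₂ : Subgroup (PG V₂)}
    (ha : ∀ g ∈ K, ∃ g₁ ∈ S₁, ∃ g₂ ∈ S₂, g₁.2 = g.2 ∧ g₂.2 = g.2 ∧
      ∀ a b, g.1 (e (a, b)) = e (g₁.1 a, g₂.1 b))
    (hb : ∀ g₁ ∈ S₁, ∀ g₂ ∈ S₂, ∀ g : PG V, g₁.2 = g.2 → g₂.2 = g.2 →
      (∀ a b, g.1 (e (a, b)) = e (g₁.1 a, g₂.1 b)) → g ∈ K)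
    (h₁ : PosS S₁) (h₂ : PosS S₂) : PosS K := by
  let F : FP ((sn V₁).comp S₁.subtype) ((sn V₂).comp S₂.subtype) →* K := MonoidHom.mk'
    (fun p => ⟨(e.permCongr (p.1.1.1.1.prodCongr p.1.2.1.1), p.1.1.1.2),
      hb _ p.1.1.2 _ p.1.2.2 _ rfl (mem_FP.1 p.2).symm fun a b => by simp⟩)
    fun p q => Subtype.ext (Prod.ext (Equiv.ext fun x => by
      obtain ⟨⟨a, b⟩, rfl⟩ := e.surjective x
      simp) rfl)
  refine (h₁.fp h₂).of_surj F (fun _ => rfl) fun g => ?_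
  obtain ⟨g₁, a₁, g₂, a₂, b₁, b₂, c⟩ := ha g g.2
  refine ⟨⟨(⟨g₁, a₁⟩, ⟨g₂, a₂⟩), b₁.trans b₂.symm⟩, Subtype.ext (Prod.ext (Equiv.ext fun x => ?_) b₁)⟩
  obtain ⟨⟨a, b⟩, rfl⟩ := e.surjective x
  rw [c]; simp [F]

theorem exists_fixed_ne {V : Type*} [Finite V] (P : Subgroup (PG V)) (hP : IsPGroup 2 P)
    (h2 : 2 ∣ Nat.card V) {v : V} (hv : P ≤ fixS v) : ∃ w, w ≠ v ∧ P ≤ fixS w := by
  let _ : MulAction P V := MulAction.compHom V ((MonoidHom.fst _ _).comp P.subtype)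
  obtain ⟨w, hw, hw'⟩ := hP.exists_fixed_point_of_prime_dvd_card_of_fixed_point V h2 (a := v)
    fun g => hv g.2
  exact ⟨w, hw'.symm, fun g hg => hw ⟨g, hg⟩⟩

variable {R : Type*} [CommRing R] {σ : R →+* R} {V : Type*} [AddCommGroup V] [Module R V]
  {h : V → V → R}

/-- the involution to the power of a sign -/
def sg (σ : R →+* R) (ε : ℤˣ) : R →+* R := if ε = 1 then RingHom.id R else σ

@[simp] theorem sg_one (r : R) : sg σ 1 r = r := by simp [sg]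
@[simp] theorem sg_neg (r : R) : sg σ (-1) r = σ r := by simp [sg]
theorem sg_of_fix {r : R} (hr : σ r = r) (ε : ℤˣ) : sg σ ε r = r := by
  rcases sgn_cases ε with rfl | rfl <;> simp [hr]
theorem sg_comm (ε : ℤˣ) (r : R) : sg σ ε (σ r) = σ (sg σ ε r) := by
  rcases sgn_cases ε with rfl | rfl <;> simp

variable (σ h) in
structure Herm : Prop where
  inv : ∀ r, σ (σ r) = r
  add : ∀ x y z, h (x + y) z = h x z + h y z
  smul : ∀ r x y, h (r • x) y = r * h x y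
  symm : ∀ x y, σ (h x y) = h y x
  nd : ∀ x, (∀ y, h x y = 0) → x = 0

namespace Herm

variable (H : Herm σ h)
include H

theorem sg_mul (a b : ℤˣ) (r : R) : sg σ (a * b) r = sg σ a (sg σ b r) := by
  rcases sgn_cases a with rfl | rfl <;> rcases sgn_cases b with rfl | rfl <;> simp [H.inv]

theorem sg_sg (a : ℤˣ) (r : R) : sg σ a (sg σ a r) = r := by
  rw [← H.sg_mul, Int.units_mul_self, sg_one]

theorem add' (x y z : V) : h x (y + z) = h x y + h x z := by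
  rw [← H.symm, H.add, map_add, H.symm, H.symm]

theorem smul' (r : R) (x y : V) : h x (r • y) = σ r * h x y := by
  rw [← H.symm, H.smul, map_mul, H.symm]

theorem zero (y : V) : h 0 y = 0 := by simpa using H.smul 0 0 y
theorem zero' (x : V) : h x 0 = 0 := by simpa using H.smul' 0 x 0
theorem neg (x y : V) : h (-x) y = -h x y := by simpa using H.smul (-1) x y
theorem neg' (x y : V) : h x (-y) = -h x y := by simpa using H.smul' (-1) x y
theorem sub (x y z : V) : h (x - y) z = h x z - h y z := by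
  rw [sub_eq_add_neg, H.add, H.neg, sub_eq_add_neg]
theorem sub' (x y z : V) : h x (y - z) = h x y - h x z := by
  rw [sub_eq_add_neg, H.add', H.neg', sub_eq_add_neg]

theorem ext {x y : V} (e : ∀ z, h x z = h y z) : x = y :=
  sub_eq_zero.1 (H.nd _ fun z => by rw [H.sub, e, sub_self])

theorem eq_zero_comm {x y : V} (e : h x y = 0) : h y x = 0 := by rw [← H.symm, e, map_zero]

/-- the extended unitary group -/
def UG : Subgroup (PG V) where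
  carrier := {g | ∀ x y, h (g.1 x) (g.1 y) = sg σ g.2 (h x y)}
  one_mem' x y := by simp
  mul_mem' {a b} ha hb x y := by
    rw [Prod.fst_mul, Equiv.Perm.mul_apply, Equiv.Perm.mul_apply, ha, hb, Prod.snd_mul, H.sg_mul]
  inv_mem' {a} ha x y := by
    have := ha (a.1⁻¹ x) (a.1⁻¹ y)
    rw [app_inv, app_inv] at this
    rw [this, Prod.snd_inv, Int.units_inv_eq_self, H.sg_sg]; rfl

theorem mem_UG {g : PG V} : g ∈ H.UG ↔ ∀ x y, h (g.1 x) (g.1 y) = sg σ g.2 (h x y) := Iff.rfl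

variable {g : PG V} (hg : g ∈ H.UG)
include hg

theorem map_add (x y : V) : g.1 (x + y) = g.1 x + g.1 y := H.ext fun z => by
  obtain ⟨z, rfl⟩ := g.1.surjective z
  rw [H.add, hg, hg, hg, H.add, _root_.map_add]

theorem map_smul (r : R) (x : V) : g.1 (r • x) = sg σ g.2 r • g.1 x := H.ext fun z => by
  obtain ⟨z, rfl⟩ := g.1.surjective z
  rw [H.smul, hg, hg, H.smul, map_mul]

theorem map_zero : g.1 0 = 0 := by simpa using H.map_smul hg 0 0

theorem map_neg (x : V) : g.1 (-x) = -g.1 x := by simpa using H.map_smul hg (-1) x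

theorem map_sub (x y : V) : g.1 (x - y) = g.1 x - g.1 y := by
  rw [sub_eq_add_neg, H.map_add hg, H.map_neg hg, sub_eq_add_neg]

theorem left (x y : V) : h (g.1 x) y = sg σ g.2 (h x (g.1⁻¹ y)) := by
  rw [← hg, app_inv]

/-- the additive map underlying an element -/
def toAdd : V →+ V := AddMonoidHom.mk' g.1 (H.map_add hg)

omit hg

theorem le_fixS_zero : H.UG ≤ fixS 0 := fun _ hg => H.map_zero hg

theorem inj {f : V → V} {ε : ℤˣ} (hf : ∀ x y, h (f x) (f y) = sg σ ε (h x y)) :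
    Function.Injective f := fun x y e => H.ext fun z => by
  rw [← H.sg_sg ε (h x z), ← hf, e, hf, H.sg_sg]

/-- an element from a form-preserving function -/
noncomputable def mk' [Finite V] (f : V → V) (ε : ℤˣ)
    (hf : ∀ x y, h (f x) (f y) = sg σ ε (h x y)) : PG V :=
  (Equiv.ofBijective f (Finite.injective_iff_bijective.1 (H.inj hf)), ε)

theorem mk'_mem [Finite V] (f : V → V) (ε : ℤˣ) (hf : ∀ x y, h (f x) (f y) = sg σ ε (h x y)) :
    H.mk' f ε hf ∈ H.UG := hf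

@[simp] theorem mk'_fst [Finite V] (f : V → V) (ε : ℤˣ)
    (hf : ∀ x y, h (f x) (f y) = sg σ ε (h x y)) (x : V) : (H.mk' f ε hf).1 x = f x := rfl

@[simp] theorem mk'_snd [Finite V] (f : V → V) (ε : ℤˣ)
    (hf : ∀ x y, h (f x) (f y) = sg σ ε (h x y)) : (H.mk' f ε hf).2 = ε := rfl

theorem res (W : Submodule R V) (hW : ∀ x ∈ W, (∀ y ∈ W, h x y = 0) → x = 0) :
    Herm σ (fun x y : W => h x y) where
  inv := H.inv
  add x y z := H.add x y z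
  smul r x y := H.smul r x y
  symm x y := H.symm x y
  nd x hx := Subtype.ext (hW x x.2 fun y hy => hx ⟨y, hy⟩)

section Orth
variable {W₁ W₂ : Submodule R V} (hc : IsCompl W₁ W₂) (ho : ∀ x ∈ W₁, ∀ y ∈ W₂, h x y = 0)
include hc ho

theorem res₁ : Herm σ (fun x y : W₁ => h x y) := H.res W₁ fun x hx h0 => H.nd x fun y => by
  obtain ⟨a, ha, b, hb, rfl⟩ := Submodule.mem_sup.1 (hc.sup_eq_top ▸ Submodule.mem_top (x := y))
  rw [H.add', h0 a ha, ho x hx b hb, add_zero]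

theorem res₂ : Herm σ (fun x y : W₂ => h x y) :=
  H.res₁ hc.symm fun x hx y hy => H.eq_zero_comm (ho y hy x hx)

theorem pos_orth [Finite V] {K : Subgroup (PG V)} {S₁ : Subgroup (PG W₁)} {S₂ : Subgroup (PG W₂)}
    (hK : K ≤ H.UG) (hS₁ : S₁ ≤ (H.res₁ hc ho).UG) (hS₂ : S₂ ≤ (H.res₂ hc ho).UG)
    (p₁ : ∀ g ∈ K, ∀ x ∈ W₁, g.1 x ∈ W₁) (p₂ : ∀ g ∈ K, ∀ x ∈ W₂, g.1 x ∈ W₂)
    (a₁ : ∀ g ∈ K, ∀ g₁ ∈ (H.res₁ hc ho).UG, g₁.2 = g.2 → (∀ a, (g₁.1 a : V) = g.1 a) → g₁ ∈ S₁)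
    (a₂ : ∀ g ∈ K, ∀ g₂ ∈ (H.res₂ hc ho).UG, g₂.2 = g.2 → (∀ a, (g₂.1 a : V) = g.1 a) → g₂ ∈ S₂)
    (hb : ∀ g ∈ H.UG, ∀ g₁ ∈ S₁, ∀ g₂ ∈ S₂, g₁.2 = g.2 → g₂.2 = g.2 →
      (∀ a, (g₁.1 a : V) = g.1 a) → (∀ a, (g₂.1 a : V) = g.1 a) → g ∈ K)
    (h₁ : PosS S₁) (h₂ : PosS S₂) : PosS K := by
  refine pos_split (Submodule.prodEquivOfIsCompl W₁ W₂ hc).toEquiv (fun g hg => ?_)
    (fun g₁ m₁ g₂ m₂ g e₁ e₂ e => ?_) h₁ h₂
  · let g₁ := (H.res₁ hc ho).mk' (fun a => ⟨g.1 a, p₁ g hg a a.2⟩) g.2 fun x y => hK hg x y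
    let g₂ := (H.res₂ hc ho).mk' (fun a => ⟨g.1 a, p₂ g hg a a.2⟩) g.2 fun x y => hK hg x y
    exact ⟨g₁, a₁ g hg g₁ (mk'_mem _ _ _ _) rfl fun _ => rfl, g₂,
      a₂ g hg g₂ (mk'_mem _ _ _ _) rfl fun _ => rfl, rfl, rfl,
      fun a b => H.map_add (hK hg) a b⟩
  · have e' : ∀ (a : W₁) (b : W₂), g.1 (a + b) = g₁.1 a + g₂.1 b := e
    have z₁ := (H.res₁ hc ho).map_zero (hS₁ m₁)
    have z₂ := (H.res₂ hc ho).map_zero (hS₂ m₂)
    refine hb g (fun x y => ?_) g₁ m₁ g₂ m₂ e₁ e₂ (fun a => by simpa [z₂] using (e' a 0).symm)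
      fun b => by simpa [z₁] using (e' 0 b).symm
    obtain ⟨a, ha, b, hb, rfl⟩ := Submodule.mem_sup.1 (hc.sup_eq_top ▸ Submodule.mem_top (x := x))
    obtain ⟨c, hc', d, hd, rfl⟩ := Submodule.mem_sup.1 (hc.sup_eq_top ▸ Submodule.mem_top (x := y))
    have f₁ := hS₁ m₁ ⟨a, ha⟩ ⟨c, hc'⟩
    have f₂ := hS₂ m₂ ⟨b, hb⟩ ⟨d, hd⟩
    rw [e' ⟨a, ha⟩ ⟨b, hb⟩, e' ⟨c, hc'⟩ ⟨d, hd⟩]
    simp only [H.add, H.add', ho _ (g₁.1 _).2 _ (g₂.1 _).2, ho a ha d hd,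
      H.eq_zero_comm (ho _ (g₁.1 _).2 _ (g₂.1 _).2), H.eq_zero_comm (ho c hc' b hb), f₁, f₂, e₁,
      e₂, add_zero, zero_add, _root_.map_add]

end Orth

end Herm

end Cfsg.Lib.FS2
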