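import Cfsg.Agent.Lib.FS2.Adj

/-! The stabiliser of an isotropic vector. -/

namespace Cfsg.Lib.FS2

open Cfsg.Lib.Char

variable {R : Type*} [CommRing R] {σ : R →+* R} {V : Type*} [AddCommGroup V] [Module R V]
  {h : V → V → R}

/-- a hyperbolic pair -/
structure Hyp (σ : R →+* R) (h : V → V → R) (v w : V) : Prop where
  H : Herm σ h
  vv : h v v = 0
  ww : h w w = 0
  vw : ∀ x : V, h v w • x = x

/-- Siegel-type transformations -/
def Tf (h : V → V → R) (v a : V) (c : R) (x : V) : V := x + h x v • a - h x a • v + (h x v * c) • v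

namespace Hyp

variable {v w : V} (P : Hyp σ h v w)
include P

theorem e_mul (x y : V) : h v w * h x y = h x y := by rw [← P.H.smul, P.vw]

theorem wv : h w v = h v w := by
  have h1 : σ (h v w) • v = v := P.H.ext fun z => by rw [P.H.smul, ← P.H.smul', P.vw]
  have h2 := P.H.smul (σ (h v w)) v w
  rw [h1, P.H.symm, mul_comm, P.e_mul] at h2
  exact h2.symm

theorem sig_e : σ (h v w) = h v w := (P.H.symm v w).trans P.wv

theorem sg_mul_e (ε : ℤˣ) (x y : V) : sg σ ε (h x y) * h v w = sg σ ε (h x y) := by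
  rw [← sg_of_fix P.sig_e ε, ← map_mul, mul_comm, P.e_mul]

/-- the orthogonal complement of the pair -/
def W : Submodule R V where
  carrier := {x | h x v = 0 ∧ h x w = 0}
  zero_mem' := ⟨P.H.zero v, P.H.zero w⟩
  add_mem' ha hb := ⟨by rw [P.H.add, ha.1, hb.1, add_zero], by rw [P.H.add, ha.2, hb.2, add_zero]⟩
  smul_mem' r _ ha := ⟨by rw [P.H.smul, ha.1, mul_zero], by rw [P.H.smul, ha.2, mul_zero]⟩

theorem av (a : P.W) : h a v = 0 := a.2.1
theorem aw (a : P.W) : h a w = 0 := a.2.2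
theorem va (a : P.W) : h v a = 0 := P.H.eq_zero_comm a.2.1
theorem wa (a : P.W) : h w a = 0 := P.H.eq_zero_comm a.2.2

/-- projection to the complement -/
def pr : V →ₗ[R] P.W where
  toFun x := ⟨x - h x w • v - h x v • w, by
    constructor <;> simp [P.H.sub, P.H.smul, P.vv, P.ww, P.wv, mul_comm _ (h v w), P.e_mul]⟩
  map_add' x y := Subtype.ext (by simp only [P.H.add, Submodule.coe_add]; module)
  map_smul' r x := Subtype.ext (by
    simp only [P.H.smul, Submodule.coe_smul, RingHom.id_apply]; module)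

theorem coe_pr (x : V) : (P.pr x : V) = x - h x w • v - h x v • w := rfl

theorem decomp (x : V) : x = P.pr x + h x w • v + h x v • w := by rw [coe_pr]; abel

@[simp] theorem pr_coe (a : P.W) : P.pr a = a := Subtype.ext (by simp [coe_pr, P.av, P.aw])
@[simp] theorem pr_v : P.pr v = 0 := Subtype.ext (by simp [coe_pr, P.vv, P.vw])
@[simp] theorem pr_w : P.pr w = 0 := Subtype.ext (by simp [coe_pr, P.ww, P.wv, P.vw])

theorem form (a b : P.W) (r s r' s' : R) : h (a + r • v + s • w) (b + r' • v + s' • w) =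
    h a b + r * σ s' * h v w + s * σ r' * h v w := by
  simp only [P.H.add, P.H.add', P.H.smul, P.H.smul', P.av, P.aw, P.va, P.wa, P.vv, P.ww, P.wv]
  ring

theorem h_pr (x : V) (a : P.W) : h (P.pr x) a = h x a := by
  simp [coe_pr, P.H.sub, P.H.smul, P.va, P.wa]

theorem HW : Herm σ (fun x y : P.W => h x y) := P.H.res _ fun x hx h0 => P.H.nd x fun y => by
  rw [← P.H.symm, ← P.h_pr y ⟨x, hx⟩, P.H.symm]
  exact h0 _ (P.pr y).2

/-- the stabiliser of the isotropic vector -/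
abbrev St : Subgroup (PG V) := P.H.UG ⊓ fixS v

theorem h_gv {g : PG V} (hg : g ∈ P.St) (x : V) : h (g.1 x) v = sg σ g.2 (h x v) := by
  rw [← hg.1, mem_fixS.1 hg.2]

theorem coe_pr_g {g : PG V} (hg : g ∈ P.St) (a : P.W) :
    (P.pr (g.1 a) : V) = g.1 a - h (g.1 a) w • v := by
  rw [coe_pr, P.h_gv hg, P.av, map_zero, zero_smul, sub_zero]

theorem pi_form {g : PG V} (hg : g ∈ P.St) (a b : P.W) :
    h (P.pr (g.1 a)) (P.pr (g.1 b)) = sg σ g.2 (h a b) := by
  have h1 : ∀ a : P.W, h (g.1 a) v = 0 := fun a => by rw [P.h_gv hg, P.av, map_zero]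
  simp [P.coe_pr_g hg, P.H.sub, P.H.sub', P.H.smul, P.H.smul', h1, P.H.eq_zero_comm (h1 b), P.vv,
    hg.1 a b]

theorem card_lt [Finite V] (hv : v ≠ 0) : Nat.card P.W < Nat.card V := by
  refine Finite.card_subtype_lt (x := v) fun hx => hv ?_
  rw [← P.vw v, hx.2, zero_smul]

variable [Finite V]

/-- the action on the complement -/
noncomputable def pi : P.St →* PG P.W := MonoidHom.mk'
  (fun g => P.HW.mk' (fun a => P.pr (g.1.1 a)) g.1.2 (P.pi_form g.2))
  fun g g' => Prod.ext (Equiv.ext fun a => by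
    change P.pr (g.1.1 (g'.1.1 a)) = P.pr (g.1.1 (P.pr (g'.1.1 a)))
    rw [P.coe_pr_g g'.2, P.H.map_sub g.2.1, P.H.map_smul g.2.1, mem_fixS.1 g.2.2]
    simp) rfl

theorem pi_fst (g : P.St) (a : P.W) : (P.pi g).1 a = P.pr (g.1.1 a) := rfl
theorem pi_snd (g : P.St) : (P.pi g).2 = g.1.2 := rfl
theorem pi_mem (g : P.St) : P.pi g ∈ P.HW.UG := P.pi_form g.2

/-- the extension of an element of the complement -/
def jf (g : PG P.W) (x : V) : V :=
  g.1 (P.pr x) + sg σ g.2 (h x w) • v + sg σ g.2 (h x v) • w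

omit [Finite V] in
theorem pr_jf (g : PG P.W) (x : V) : P.pr (P.jf g x) = g.1 (P.pr x) := by simp [jf]

omit [Finite V] in
theorem jf_w (g : PG P.W) (x : V) : h (P.jf g x) w = sg σ g.2 (h x w) := by
  simp [jf, P.H.add, P.H.smul, P.aw, P.ww, P.sg_mul_e]

omit [Finite V] in
theorem jf_v (g : PG P.W) (x : V) : h (P.jf g x) v = sg σ g.2 (h x v) := by
  simp [jf, P.H.add, P.H.smul, P.av, P.vv, P.wv, P.sg_mul_e]

omit [Finite V] in
theorem jf_form {g : PG P.W} (hg : g ∈ P.HW.UG) (x y : V) :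
    h (P.jf g x) (P.jf g y) = sg σ g.2 (h x y) := by
  conv_rhs => rw [P.decomp x, P.decomp y, P.form]
  have : h (g.1 (P.pr x)) (g.1 (P.pr y)) = _ := hg (P.pr x) (P.pr y)
  rw [jf, jf, P.form, this]
  simp [sg_comm, sg_of_fix P.sig_e]

noncomputable def jj : P.HW.UG →* PG V := MonoidHom.mk'
  (fun g => P.H.mk' (P.jf g) g.1.2 (P.jf_form g.2))
  fun g g' => Prod.ext (Equiv.ext fun x => by
    change P.jf (g.1 * g'.1) x = P.jf g (P.jf g' x)
    rw [jf, jf, P.pr_jf, P.jf_w, P.jf_v, Prod.snd_mul, P.H.sg_mul, P.H.sg_mul]; rfl) rfl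

theorem jj_fst (g : P.HW.UG) (x : V) : (P.jj g).1 x = P.jf g x := rfl
theorem jj_snd (g : P.HW.UG) : (P.jj g).2 = g.1.2 := rfl

theorem jj_mem (g : P.HW.UG) : P.jj g ∈ P.St := ⟨P.jf_form g.2, by
  simp [mem_fixS, jj_fst, jf, P.HW.map_zero g.2, P.vv, sg_of_fix P.sig_e, P.vw]⟩

theorem jj_w (g : P.HW.UG) : (P.jj g).1 w = w := by
  simp [jj_fst, jf, P.HW.map_zero g.2, P.ww, P.wv, sg_of_fix P.sig_e, P.vw]

theorem jj_coe (g : P.HW.UG) (a : P.W) : (P.jj g).1 a = g.1.1 a := by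
  simp [jj_fst, jf, P.av, P.aw]

theorem pi_jj (g : P.HW.UG) : P.pi ⟨P.jj g, P.jj_mem g⟩ = g :=
  Prod.ext (Equiv.ext fun a => by rw [pi_fst, jj_coe, pr_coe]) rfl

/-- the vector attached to an element -/
def aa (g : PG V) : P.W := P.pr (g.1 w)

omit [Finite V] in
theorem Tf_v (a : P.W) (c : R) (x : V) : h (Tf h v a c x) v = h x v := by
  simp [Tf, P.H.add, P.H.sub, P.H.smul, P.av, P.vv]

omit [Finite V] in
theorem Tf_a (a b : P.W) (c : R) (x : V) : h (Tf h v a c x) b = h x b + h x v * h a b := by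
  simp [Tf, P.H.add, P.H.sub, P.H.smul, P.va]

section Ker
variable {n : P.St} (hn : P.pi n = 1)
include hn

theorem ker_snd : n.1.2 = 1 := congrArg Prod.snd hn

theorem ker_pr (a : P.W) : P.pr (n.1.1 a) = a := congrArg (fun p : PG P.W => p.1 a) hn

theorem ker_w : n.1.1 w = P.aa n + h (n.1.1 w) w • v + w := by
  conv_lhs => rw [P.decomp (n.1.1 w), P.h_gv n.2, P.ker_snd hn, sg_one, P.wv, P.vw]
  rfl

theorem ker_c : h (n.1.1 w) w + σ (h (n.1.1 w) w) + h (P.aa n) (P.aa n) = 0 := by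
  have h1 := n.2.1 w w
  have h2 := P.form (P.aa n) (P.aa n) (h (n.1.1 w) w) 1 (h (n.1.1 w) w) 1
  rw [one_smul, ← P.ker_w hn, h1, P.ww, map_zero, map_one, P.H.symm, mul_one, one_mul,
    mul_comm _ (h v w), mul_comm _ (h v w), P.e_mul, P.e_mul] at h2
  rw [P.H.symm, h2]; ring

theorem ker_eq (x : V) : n.1.1 x = Tf h v (P.aa n) (h (n.1.1 w) w) x := by
  have h1 : ∀ a : P.W, n.1.1 a = a - h a (P.aa n) • v := fun a => by
    have h2 := P.coe_pr_g n.2 a
    have h3 := n.2.1 a w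
    have h4 := P.h_gv n.2 a
    rw [P.av, map_zero] at h4
    rw [P.ker_w hn, P.aw, map_zero, P.H.add', P.H.add', P.H.smul', h4, ← P.h_pr, P.ker_pr hn] at h3
    rw [P.ker_pr hn] at h2
    rw [show h a (P.aa n) = -h (n.1.1 a) w by linear_combination h3]
    linear_combination (norm := module) -h2
  conv_lhs => rw [P.decomp x, P.H.map_add n.2.1, P.H.map_add n.2.1, P.H.map_smul n.2.1,
    P.H.map_smul n.2.1, mem_fixS.1 n.2.2, P.ker_snd hn, sg_one, sg_one, h1, P.ker_w hn, P.h_pr,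
    coe_pr]
  rw [Tf]; module

theorem aa_mul {n' : P.St} (hn' : P.pi n' = 1) : P.aa (n.1 * n'.1) = P.aa n + P.aa n' := by
  change P.pr (n.1.1 (n'.1.1 w)) = _
  rw [P.ker_w hn', P.H.map_add n.2.1, P.H.map_add n.2.1, P.H.map_smul n.2.1, mem_fixS.1 n.2.2]
  simp [P.ker_pr hn, add_comm, aa]

omit hn in
theorem aa_conj (g : P.HW.UG) : P.aa (P.jj g * n.1 * (P.jj g)⁻¹) = g.1.1 (P.aa n) := by
  have h1 : (P.jj g).1⁻¹ w = w := by rw [Equiv.Perm.inv_eq_iff_eq, P.jj_w]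
  change P.pr ((P.jj g).1 (n.1.1 ((P.jj g).1⁻¹ w))) = _
  rw [h1, jj_fst, pr_jf]; rfl

theorem cent (h2 : (2 : R) = 0) (h0 : P.aa n = 0) (m : P.St) : m * n = n * m := by
  have h1 := P.ker_c hn
  rw [h0, Submodule.coe_zero, P.H.zero, add_zero] at h1
  have h3 : σ (h (n.1.1 w) w) = h (n.1.1 w) w := by linear_combination h1 - h (n.1.1 w) w * h2
  refine Subtype.ext (Prod.ext (Equiv.ext fun x => ?_) (mul_comm _ _))
  change m.1.1 (n.1.1 x) = n.1.1 (m.1.1 x)
  rw [P.ker_eq hn, P.ker_eq hn (m.1.1 x), h0]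
  simp [Tf, P.H.zero', P.H.map_add m.2.1, P.H.map_smul m.2.1, mem_fixS.1 m.2.2, P.h_gv m.2,
    sg_of_fix h3]

theorem mul_apply {n' : P.St} (hn' : P.pi n' = 1) (x : V) : (n * n').1.1 x =
    Tf h v (P.aa n + P.aa n') (h (n.1.1 w) w + h (n'.1.1 w) w - h (P.aa n') (P.aa n)) x := by
  change n.1.1 (n'.1.1 x) = _
  rw [P.ker_eq hn, P.ker_eq hn' x, Tf, P.Tf_v, P.Tf_a]
  simp only [Tf, P.H.add']
  module

end Ker

/-- the Siegel-type element -/
noncomputable def T (a : P.W) (c : R) (hc : c + σ c + h a a = 0) : P.St :=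
  ⟨P.H.mk' (Tf h v a c) 1 fun x y => by
    simp only [Tf, P.H.add, P.H.sub, P.H.smul, P.H.add', P.H.sub', P.H.smul', P.av, P.va, P.vv,
      map_mul, P.H.symm, sg_one]
    linear_combination (h x v * h v y) * hc,
  P.H.mk'_mem _ _ _, by simp [mem_fixS, Tf, P.vv, P.va]⟩

theorem T_fst (a : P.W) (c : R) (hc : c + σ c + h a a = 0) (x : V) :
    (P.T a c hc).1.1 x = Tf h v a c x := rfl

theorem pi_T (a : P.W) (c : R) (hc : c + σ c + h a a = 0) : P.pi (P.T a c hc) = 1 :=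
  Prod.ext (Equiv.ext fun b => by simp [pi_fst, T_fst, Tf, P.av]) rfl

theorem aa_T (a : P.W) (c : R) (hc : c + σ c + h a a = 0) : P.aa (P.T a c hc) = a := by
  simp only [aa, T_fst, Tf, P.wv, P.vw, P.wa]; simp

end Hyp

theorem exists_dual {W : Type*} [AddCommGroup W] [Finite W] (β : W → Multiplicative W →* ℂˣ)
    (hβ : Function.Injective β) (χ : Multiplicative W →* ℂˣ) : ∃ w, β w = χ := by
  have h1 : Nat.card (Multiplicative W →* ℂˣ) = Nat.card W := by
    rw [card_hom_units, commutator_eq_bot, Subgroup.index_bot]; rfl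
  have : Finite (Multiplicative W →* ℂˣ) := Nat.finite_of_card_ne_zero (h1 ▸ Nat.card_pos.ne')
  exact (hβ.bijective_of_nat_card_le h1.le).2 χ

namespace Hyp

variable {v w : V} (P : Hyp σ h v w) [Finite V]

/-- compatible subgroups of the stabiliser and of the group of the complement -/
structure Sub (M : Subgroup (PG V)) (L : Subgroup (PG P.W)) : Prop where
  hM : M ≤ P.St
  hL : L ≤ P.HW.UG
  hπ : ∀ g : M, P.pi ⟨g, hM g.2⟩ ∈ L
  hj : ∀ l : L, P.jj ⟨l, hL l.2⟩ ∈ M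

variable {P} {M : Subgroup (PG V)} {L : Subgroup (PG P.W)} (S : P.Sub M L)

noncomputable def Sub.π : M →* L := (P.pi.comp (Subgroup.inclusion S.hM)).codRestrict L S.hπ
noncomputable def Sub.j : L →* M := (P.jj.comp (Subgroup.inclusion S.hL)).codRestrict M S.hj

theorem Sub.πj (l : L) : S.π (S.j l) = l := Subtype.ext (P.pi_jj ⟨l, S.hL l.2⟩)

theorem Sub.ker {n : M} (hn : S.π n = 1) : P.pi ⟨n, S.hM n.2⟩ = 1 := congrArg Subtype.val hn

theorem Sub.eps_ne (two : ∀ a : P.W, a + a = 0) (hs : ∀ a, ∃ n : M, S.π n = 1 ∧ P.aa n = a)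
    (ψ : Multiplicative R →* ℂˣ) (hψ : ∀ r, ψ (.ofAdd (σ r)) = ψ (.ofAdd r))
    (hψ' : ∀ a : P.W, (∀ b : P.W, ψ (.ofAdd (h b a)) = 1) → a = 0)
    (hp : ∀ a, PosS (L ⊓ fixS a)) {φ : M → ℂ} (hφ : Irr0 ((sn V).comp M.subtype) φ)
    (hz : ∀ n, S.π n = 1 → P.aa n = 0 → φ n = φ 1) : eps ((sn V).comp M.subtype) φ ≠ -1 := by
  have := Fintype.ofFinite S.π.ker
  let aH : S.π.ker →* Multiplicative P.W := MonoidHom.mk' (fun n => .ofAdd (P.aa n.1)) fun n n' =>
    congrArg Multiplicative.ofAdd (P.aa_mul (S.ker n.2) (S.ker n'.2))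
  have hsurj : Function.Surjective aH := fun a =>
    let ⟨n, h1, h2⟩ := hs a.toAdd; ⟨⟨n, h1⟩, congrArg Multiplicative.ofAdd h2⟩
  have hle : S.π.ker ≤ ((sn V).comp M.subtype).ker := fun n hn => P.ker_snd (S.ker hn)
  have hφN : IsCharacter S.π.ker (fun n : S.π.ker => φ n) :=
    Induce.isCharacter_res_le hle hφ.irr.isCharacter
  obtain ⟨ρ, hρ, hρ'⟩ := hφN.isClassFunction.exists_irr_inner_ne_zero
    fun h0 => hφ.irr.apply_one_ne_zero (congrFun h0 1)
  obtain ⟨χ, hχ, e⟩ := hρ.exists_eq_comp_of_surjective aH hsurj fun n hn =>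
    hφN.apply_eq_of_constituent hρ hρ' (hz n n.2 (congrArg Multiplicative.toAdd hn))
  obtain ⟨χ, rfl⟩ := hχ.exists_hom_of_comm
  let β : P.W → Multiplicative P.W →* ℂˣ := fun a => ψ.comp (AddMonoidHom.toMultiplicative
    (AddMonoidHom.mk' (fun b : P.W => h b a) fun b c => P.H.add b c a))
  have hβ' : ∀ a a' : P.W, (∀ b : P.W, ψ (.ofAdd (h b a)) = ψ (.ofAdd (h b a'))) → a = a' :=
    fun a a' e => sub_eq_zero.1 (hψ' _ fun b => by
      rw [Submodule.coe_sub, P.H.sub', ofAdd_sub, map_div, e, div_self'])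
  obtain ⟨a, rfl⟩ := exists_dual β (fun a a' e => hβ' a a' fun b => DFunLike.congr_fun e (.ofAdd b)) χ
  refine eps_ne_of_lin (sL := (sn _).comp L.subtype) S.π S.j S.πj (fun _ => rfl) hφ
    ((β a).comp aH) (fun n => ?_) (by rwa [← funext e] at hρ') ((L ⊓ fixS a).subgroupOf L)
    (fun l => ?_) (posS_subgroupOf inf_le_left (hp a))
  · rw [MonoidHom.comp_apply, ← map_mul]
    exact (congrArg (β a) (congrArg Multiplicative.ofAdd (two _))).trans (map_one _)
  · have h1 : ∀ n : S.π.ker, ((β a).comp aH) ⟨S.j l * n * (S.j l)⁻¹,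
        (MonoidHom.normal_ker S.π).conj_mem _ n.2 _⟩ = ψ (.ofAdd (h (P.aa n.1) (l.1.1⁻¹ a))) := by
      intro n
      have h2 := P.aa_conj (n := ⟨n.1, S.hM n.1.2⟩) ⟨l, S.hL l.2⟩
      have h3 := P.HW.left (S.hL l.2) (P.aa n.1) a
      change ψ (.ofAdd (h (P.aa (P.jj ⟨l, S.hL l.2⟩ * n.1.1 * (P.jj ⟨l, S.hL l.2⟩)⁻¹)) a)) = _
      rw [h2]
      erw [h3]
      rcases sgn_cases l.1.2 with e | e <;> simp [e, hψ]
    simp only [h1, Subgroup.mem_subgroupOf, Subgroup.mem_inf, l.2, true_and, mem_fixS]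
    rw [eq_comm, ← Equiv.Perm.inv_eq_iff_eq]
    refine ⟨fun e n => by rw [e]; rfl, fun e => hβ' _ _ fun b => ?_⟩
    obtain ⟨n, hn, rfl⟩ := hs b
    exact e ⟨n, hn⟩

end Hyp

end Cfsg.Lib.FS2
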