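import Cfsg.Agent.Lib.FS2.Real2

/-! Reality of isometries in characteristic two. -/

namespace Cfsg.Lib.FS2

open Cfsg.Lib.Orth QuadraticMap Module Polynomial

universe u

variable {F V R : Type*} [Field F] [AddCommGroup V] [Module F V] {Q : QuadraticForm F V}

section
variable [CommRing R] [Algebra F R] [Module R V] [IsScalarTower F R V]
  {σ : R →ₐ[F] R} {T : Rˣ} (D : RD Q σ T) {N z : R} (hN : N = T + 1) (hz : z = T + ↑T⁻¹)
include D hz

omit [IsScalarTower F R V] in
theorem RD.sym (r : R) : ∃ p : F[X], r + σ r = aeval z p := by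
  let P : Submodule F R :=
    { carrier := {r | ∃ p : F[X], r + σ r = aeval z p}
      zero_mem' := ⟨0, by simp⟩
      add_mem' := fun ⟨p, hp⟩ ⟨q, hq⟩ => ⟨p + q, by rw [map_add, map_add, ← hp, ← hq]; ring⟩
      smul_mem' := fun c r ⟨p, hp⟩ => ⟨c • p, by rw [map_smul, map_smul, ← hp, smul_add]⟩ }
  refine D.gen P (fun i => ⟨Polynomial.dickson 1 1 i.natAbs, ?_⟩) r
  rw [aeval_def, ← eval_map, map_dickson, map_one, hz, dickson_one_one_eval_add_inv _ _ T.mul_inv,
    D.sT]
  obtain ⟨n, rfl | rfl⟩ := i.eq_nat_or_neg <;> simp [add_comm]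

omit [IsScalarTower F R V] in
theorem RD.s_aeval (p : F[X]) : σ (aeval z p) = aeval z p := by
  have h1 := D.sT 1
  have h2 := D.sT (-1)
  simp only [zpow_one, zpow_neg, inv_inv] at h1 h2
  rw [← aeval_algHom_apply, hz, map_add, h1, h2, add_comm]

include hN

theorem RD.exists_cyc [FiniteDimensional F V] (hQ : ND Q) (hn : ∀ k : ℕ, ∃ v : V, N ^ k • v ≠ 0) :
    ∃ x : V, x ≠ 0 ∧ (∀ c : R, (∀ s : R, polar Q (c • x) (s • x) = 0) → c • x = 0) ∧
      ∀ c : R, N • c • x = 0 → c • x = 0 := by
  have hzN : T * z = N * N := by rw [hz, hN]; linear_combination T.mul_inv - T * D.two'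
  let f := minpoly F (Algebra.lsmul F F V z)
  have hf : ∀ p, f ∣ p ↔ ∀ v : V, aeval z p • v = 0 := fun p => by
    rw [minpoly.dvd_iff, aeval_algHom_apply, LinearMap.ext_iff]; rfl
  have f0 : f ≠ 0 := minpoly.ne_zero (LinearMap.isIntegral _)
  obtain ⟨j, f₁, h1, h2⟩ := WfDvdMonoid.max_power_factor f0 irreducible_X
  obtain ⟨p, hp, h3⟩ := WfDvdMonoid.exists_irreducible_factor (a := f₁) (fun hu => by
    obtain ⟨v, hv⟩ := hn (2 * j)
    have := (hf (X ^ j)).1 (h2 ▸ hu.mul_right_dvd.2 dvd_rfl) v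
    rw [map_pow, aeval_X] at this
    rw [pow_mul, pow_two, ← hzN, mul_pow, mul_smul, this, smul_zero] at hv
    exact hv rfl) (right_ne_zero_of_mul (h2 ▸ f0))
  have h4 : ¬ p ∣ X := fun h => h1 ((hp.dvd_symm irreducible_X h).trans h3)
  obtain ⟨m, q, h5, h6⟩ := WfDvdMonoid.max_power_factor f0 hp
  obtain ⟨m, rfl⟩ := Nat.exists_eq_add_one_of_ne_zero (n := m) (by
    rintro rfl
    exact h5 (by rw [← one_mul q, ← pow_zero p, ← h6, h2]; exact h3.mul_left _))
  obtain ⟨x₀, hx₀⟩ : ∃ x₀ : V, polar Q ((T * aeval z (p ^ m * q * q)) • x₀) x₀ ≠ 0 := by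
    by_contra h7
    push Not at h7
    have h8 : f ∣ p ^ m * q * q * X := (hf _).2 fun v => hQ.eq_zero fun u => by
      have h9 := h7 (v + u)
      have h10 := D.sT 1
      simp only [zpow_one, zpow_neg] at h10
      rw [smul_add, polar_add_left, polar_add_right, polar_add_right, h7, h7, D.adj _ u,
        polar_comm Q u, map_mul σ, D.s_aeval hz, h10, zero_add, add_zero, ← polar_add_left,
        ← add_smul, ← add_mul, ← hz] at h9
      rwa [map_mul _ _ X, aeval_X, mul_comm]
    rw [h6, show p ^ (m + 1) * q = p ^ m * q * p by ring, mul_assoc _ q X, mul_dvd_mul_iff_left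
      (mul_ne_zero (pow_ne_zero _ hp.ne_zero) (right_ne_zero_of_mul (h6 ▸ f0)))] at h8
    exact (hp.prime.dvd_or_dvd h8).elim h5 h4
  set x := aeval z q • x₀ with hx
  have k1 : aeval z (p ^ (m + 1)) • x = 0 := by
    rw [hx, smul_smul, ← map_mul]
    exact (hf _).1 (h6 ▸ dvd_rfl) _
  have k2 : polar Q ((T * aeval z (p ^ m)) • x) x ≠ 0 := by
    rw [hx, D.adj', D.s_aeval hz, smul_smul, smul_smul]
    convert hx₀ using 3
    simp only [map_mul]; ring
  clear_value x
  have key : ∀ r : F[X], (∀ s : R, polar Q ((aeval z r * s) • x) x = 0) → aeval z r • x = 0 := by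
    intro r hr
    by_cases h0 : r = 0
    · simp [h0]
    obtain ⟨i, r, h7, rfl⟩ := WfDvdMonoid.max_power_factor h0 hp
    rcases lt_or_ge m i with hi | hi
    · obtain ⟨i, rfl⟩ := Nat.exists_eq_add_of_lt hi
      rw [show p ^ (m + i + 1) * r = p ^ i * r * p ^ (m + 1) by ring, map_mul, mul_smul, k1,
        smul_zero]
    obtain ⟨i', rfl⟩ := Nat.exists_eq_add_of_le hi
    obtain ⟨a, b, hab⟩ := ((hp.coprime_iff_not_dvd.2 h7).pow_left (m := i + i' + 1))
    refine absurd ?_ k2
    rw [← hr (T * aeval z (b * p ^ i')), ← mul_one (p ^ (i + i')), ← hab]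
    congr 1
    simp only [map_mul, map_add, map_pow] at k1 ⊢
    linear_combination (norm := module) (T * aeval z p ^ (i + i') * aeval z a) • k1
  have zinv : ∀ c : R, z • c • x = 0 → c • x = 0 := fun c hc => by
    obtain ⟨a, b, hab⟩ := ((hp.coprime_iff_not_dvd.2 h4).pow_left (m := m + 1))
    have := congrArg (aeval z) hab
    simp only [map_mul, map_add, aeval_X, map_one] at this
    linear_combination (norm := module) (c * aeval z a) • k1 + aeval z b • hc - (c * this) • x
  refine ⟨x, fun h => k2 (by rw [h, polar_zero_right]), fun c hc => zinv c ?_, fun c hc => zinv c ?_⟩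
  · have k3 : ∀ c' : R, (c' * c + σ (c' * c)) • x = 0 := fun c' => by
      obtain ⟨r, hr⟩ := D.sym hz (c' * c)
      rw [hr]
      refine key r fun s => ?_
      have e1 := hc (σ (c' * s))
      have e2 := hc (σ c' * s)
      rw [D.adj', D.inv, smul_smul, mul_right_comm] at e1
      rw [D.adj, smul_smul, polar_comm, ← mul_assoc, ← map_mul, mul_comm c] at e2
      rw [← hr, add_mul, add_smul, polar_add_left, e1, e2, add_zero]
    have h10 := D.sT 1
    have e1 := k3 1
    have e2 := k3 T
    simp only [zpow_one, zpow_neg] at h10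
    rw [one_mul] at e1
    rw [map_mul, h10] at e2
    rw [hz]
    linear_combination (norm := module) e2 + ((T⁻¹ :) : R) • e1 - (↑T⁻¹ * σ c * D.two') • x
  · linear_combination (norm := module) (↑T⁻¹ * N) • hc + (c * ↑T⁻¹ * hzN) • x -
      (c * z * T.inv_mul) • x

theorem RD.block [FiniteDimensional F V] [Nontrivial V] (hQ : ND Q) {g : O Q}
    (hg : ∀ v, g.1 v = (T : R) • v) : Block g := by
  by_cases hn : ∀ k : ℕ, ∃ v : V, N ^ k • v ≠ 0
  · obtain ⟨x, h0, h1, h2⟩ := D.exists_cyc hN hz hQ hn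
    have nd : ND (Q.restrict (LinearMap.range (RD.sp2 F R x x))) := nd_restrict_iff.2 <| by
      rintro _ ⟨m, rfl⟩ h
      refine Eq.trans (add_smul _ _ _).symm (h1 (m.1 + m.2) fun r => ?_)
      simpa [RD.sp2, add_smul] using h _ ⟨(r, 0), rfl⟩
    obtain ⟨t, h3, ht, -⟩ := D.exists_swap hg (fun _ => rfl) rfl nd
    have h6 : x ∈ LinearMap.range (RD.sp2 F R x x) := ⟨(1, 0), by simp [RD.sp2]⟩
    refine ⟨_, fun h => h0 ((Submodule.eq_bot_iff _).1 h x h6), nd, _,
      good_of_fix nd D.two h3 ht ?_⟩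
    rintro ⟨_, m, rfl⟩ h4
    have h5 : g.1 (m.1 • x + m.2 • x) = m.1 • x + m.2 • x := congrArg Subtype.val h4
    rw [← add_smul, hg, ← sub_eq_zero, ← D.N_smul hN] at h5
    exact Subtype.ext ((add_smul _ _ _).symm.trans (h2 _ h5))
  classical
  push Not at hn
  obtain ⟨k, hk⟩ := Nat.exists_eq_add_one_of_ne_zero (n := Nat.find hn) fun h => by
    obtain ⟨v, hv⟩ := exists_ne (0 : V)
    exact hv (by simpa [h] using Nat.find_spec hn v)
  have h1 := hk ▸ Nat.find_spec hn
  have h2 := Nat.find_min hn (m := k) (by omega)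
  push Not at h2
  obtain ⟨x, hx⟩ := h2
  obtain ⟨y, hy⟩ := hQ.exists_polar_ne hx
  by_cases alt : ∀ a : V, polar Q (N ^ k • a) a = 0
  · exact D.block_bi hN h1 hg alt hy
  · push Not at alt
    exact D.block_cyc hN h1 hg alt.choose_spec

end

theorem block_of_two [FiniteDimensional F V] [Nontrivial V] (hQ : ND Q) (two : (2 : F) = 0)
    (g : O Q) : Block g := by
  let β : O Q →* Module.End F V := LinearEquiv.automorphismGroup.toLinearMapMonoidHom.comp (O Q).subtype
  let φ := MonoidAlgebra.lift F _ (Multiplicative ℤ) (β.comp (zpowersHom _ g))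
  let _ : Module (MonoidAlgebra F (Multiplicative ℤ)) V := Module.compHom V φ.toRingHom
  have hs : ∀ (a : Multiplicative ℤ) (r : F) (v : V), MonoidAlgebra.single a r • v = r • (g ^ a.toAdd).1 v :=
    fun a r v => by
      change φ (.single a r) v = _
      rw [MonoidAlgebra.lift_single]; rfl
  have : IsScalarTower F (MonoidAlgebra F (Multiplicative ℤ)) V := ⟨fun c r v => by
    change φ (c • r) v = c • φ r v
    rw [map_smul]; rfl⟩
  let T := (MonoidAlgebra.of F (Multiplicative ℤ)).toHomUnits (.ofAdd 1)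
  have hT : ∀ i : ℤ, ((T ^ i :) : MonoidAlgebra F (Multiplicative ℤ)) = .single (.ofAdd i) 1 :=
    fun i => by rw [← map_zpow, ← ofAdd_zsmul, smul_eq_mul, mul_one]; rfl
  have D : RD Q (MonoidAlgebra.mapDomainAlgHom F F invMonoidHom) T :=
    { two := two
      inv := fun r => by
        induction r using MonoidAlgebra.induction_linear with
        | zero => simp
        | add a b ha hb => rw [map_add, map_add, ha, hb]
        | single a r => simp
      sT := fun i => by simp [hT, -zpow_neg]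
      gen := fun p hp r => by
        induction r using MonoidAlgebra.induction_linear with
        | zero => exact p.zero_mem
        | add a b ha hb => exact p.add_mem ha hb
        | single a r => simpa [hT] using p.smul_mem r (hp a.toAdd)
      mapQ := fun i v => by rw [hT, hs, one_smul, O.map_Q] }
  exact D.block rfl rfl hQ fun v => by simpa [hs] using congrArg (· • v) (hT 1).symm

theorem good_aux (two : (2 : F) = 0) (n : ℕ) : ∀ (V : Type u) [AddCommGroup V] [Module F V]
    [FiniteDimensional F V] (Q : QuadraticForm F V) (hQ : ND Q) (g : O Q), finrank F V = n →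
    Good hQ g := by
  induction n using Nat.strong_induction_on with
  | _ n ih =>
  intro V _ _ _ Q hQ g hn
  subst hn
  rcases subsingleton_or_nontrivial V with hV | hV
  · exact ⟨1, O.ext fun _ => Subsingleton.elim _ _, by simp [finrank_zero_of_subsingleton]⟩
  obtain ⟨W, h0, nd, hW, t, h1, h2⟩ := block_of_two hQ two g
  have S := isOSum_perp nd
  have h3 := S.finrank_add
  have h4 := Submodule.one_le_finrank_iff.2 h0
  obtain ⟨t', h5, h6⟩ := ih _ (by omega) _ _ (S.nd_right hQ)
    (res Q _ ⟨g, stab_le_stab_perp W hW⟩) rfl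
  obtain ⟨a, ha⟩ := Symp.even_finrank (isAlt_polar two _) nd
  refine ⟨S.sumMap (t, t'), ?_, ?_⟩
  · rw [← S.sumMap_res hW (stab_le_stab_perp W hW), ← map_inv, ← map_inv, ← map_mul, ← map_mul]
    exact congrArg _ (Prod.ext h1 h5)
  · rw [S.dickson_sumMap hQ, h2, h6, ← pow_add]
    congr 1
    omega

theorem good_of_two [FiniteDimensional F V] (hQ : ND Q) (two : (2 : F) = 0) (g : O Q) : Good hQ g :=
  good_aux two _ V Q hQ g rfl

theorem isConj_inv_O [FiniteDimensional F V] (hQ : ND Q) (two : (2 : F) = 0) (g : O Q) :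
    IsConj g g⁻¹ :=
  let ⟨t, ht, _⟩ := good_of_two hQ two g; isConj_iff.2 ⟨t, ht⟩

theorem isConj_inv_Om [FiniteDimensional F V] (hQ : ND Q) (two : (2 : F) = 0)
    (h4 : 4 ∣ finrank F V) (g : (dickson hQ).ker) : IsConj g g⁻¹ := by
  obtain ⟨t, ht, h⟩ := good_of_two hQ two g.1
  exact isConj_iff.2 ⟨⟨t, h.trans (Even.neg_one_pow (even_iff_two_dvd.2 (by omega)))⟩,
    Subtype.ext ht⟩

theorem isConj_inv_Sp [Finite F] [FiniteDimensional F V] (hQ : ND Q) (two : (2 : F) = 0)
    (g : Symp.isom (polarBilin Q)) : IsConj g g⁻¹ := by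
  have hg : ∀ u v, polar Q (g.1 u) (g.1 v) = polar Q u v := g.2
  obtain ⟨w, hw⟩ := exists_eq_add_polar_sq hQ two (Q' := Q.comp g.1.toLinearMap) fun u v => by
    rw [← hg]; simp [polar]
  let X := g.1.symm.toLinearMap - LinearMap.id
  have h1 : perp Q (LinearMap.range X) ≤ perp Q (F ∙ w) := fun v hv => by
    have h2 : g.1 v = v := hQ.ext fun u => by
      have h3 : polar Q (g.1.symm u - u) v = 0 := mem_perp.1 hv _ ⟨u, rfl⟩
      rw [polar_sub_left, ← hg, g.1.apply_symm_apply, sub_eq_zero] at h3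
      rw [polar_comm, h3, polar_comm]
    have h3 : Q (g.1 v) = _ := hw v
    rw [h2, left_eq_add] at h3
    exact mem_perp_singleton.2 (pow_eq_zero_iff two_ne_zero |>.1 h3)
  obtain ⟨w', hw' : g.1.symm w' - w' = w⟩ : w ∈ LinearMap.range X :=
    perp_perp hQ (LinearMap.range X) ▸ le_perp_comm.1 h1 (Submodule.mem_span_singleton_self w)
  obtain ⟨t, ht⟩ := isConj_iff.1 (isConj_inv_O (nd_translate hQ two w') two ⟨g.1, fun v => by
    have h3 : Q (g.1 v) = _ := hw v
    have h4 := hg (g.1.symm w') v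
    rw [g.1.apply_symm_apply] at h4
    rw [Orth.translate_apply, Orth.translate_apply, h3, h4, ← hw', polar_sub_left]
    linear_combination (polar Q (g.1.symm w') v ^ 2 - polar Q (g.1.symm w') v * polar Q w' v) * two⟩)
  exact isConj_iff.2 ⟨⟨t.1, fun u v => by
    simpa only [polarBilin_apply_apply, polar_translate two] using O.map_polar t u v⟩,
    Subtype.ext (congrArg Subtype.val ht :)⟩

end Cfsg.Lib.FS2
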