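import Cfsg.Agent.Lib.FS2.SpO
import Cfsg.Agent.Lib.FS2.Real3

/-! Frobenius-Schur indicators of symplectic and orthogonal groups in characteristic two. -/

namespace Cfsg.Lib.FS2

open Cfsg.Lib.Char Cfsg.Lib.Orth QuadraticMap Module

universe u

/-- all indicators are one -/
def AllFS (G : Type*) [Group G] : Prop :=
  ∀ χ : IrrCharacter G, (Nat.card G : ℂ)⁻¹ * ∑ᶠ s : G, (χ : G → ℂ) (s * s) = 1

theorem AllFS.congr {G H : Type*} [Group G] [Group H] (e : H ≃* G) (h : AllFS H) : AllFS G :=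
  fun χ => by
    rw [← h ⟨_, χ.2.comp_equiv e⟩, Nat.card_congr e.toEquiv, ← finsum_comp_equiv e.toEquiv]
    simp

theorem allFS_iff {G : Type*} [Group G] [Fintype G] : AllFS G ↔
    ∀ χ, IsIrrCharacter G χ → (Nat.card G : ℂ)⁻¹ * ∑ g, χ (g * g) = 1 := by
  simp only [AllFS, finsum_eq_sum_of_fintype]
  exact ⟨fun h χ hχ => h ⟨χ, hχ⟩, fun h χ => h χ χ.2⟩

variable {F : Type u} [Field F] [Finite F] {V : Type u} [AddCommGroup V] [Module F V] [Finite V]
  {Q : QuadraticForm F V}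

theorem allFS_O (hQ : ND Q) (two : (2 : F) = 0) : AllFS (O Q) :=
  have := Fintype.ofFinite (O Q)
  allFS_iff.2 fun _ => fs_one (pos_O hQ two) (isConj_inv_O hQ two)

theorem allFS_Sp (hQ : ND Q) (two : (2 : F) = 0) : AllFS (Symp.isom (polarBilin Q)) :=
  have : Finite (V ≃ₗ[F] V) := DFunLike.finite _
  have := Fintype.ofFinite (Symp.isom (polarBilin Q))
  allFS_iff.2 fun _ => fs_one (pos_Sp hQ two) (isConj_inv_Sp hQ two)

theorem allFS_Om (hQ : ND Q) (two : (2 : F) = 0) (h4 : 4 ∣ finrank F V) (h5 : 5 ≤ finrank F V) :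
    AllFS (commutator (O Q)) := by
  have := Fintype.ofFinite (O Q)
  have := Fintype.ofFinite (dickson hQ).ker
  have : Nontrivial V := Module.nontrivial_of_finrank_pos (R := F) (by omega)
  obtain ⟨v, hv⟩ := hQ.exists_Q_ne
  rw [commutator_eq_ker_dickson hQ (not_exc_of_five_le h5) two]
  exact allFS_iff.2 fun _ => fs_one_ker ⟨_, dickson_refl hQ hv⟩ (allFS_iff.1 (allFS_O hQ two))
    (isConj_inv_Om hQ two h4)

variable {ι : Type} [Fintype ι] [DecidableEq ι] {Q : QuadraticForm F (ι → F)}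

theorem allFS_isometryGroup (hQ : ND Q) (two : (2 : F) = 0) : AllFS (isometryGroup F Q) :=
  (allFS_O hQ two).congr (isoEquiv Q).symm

theorem allFS_Omega (hQ : ND Q) (two : (2 : F) = 0) (h4 : 4 ∣ Fintype.card ι)
    (h5 : 5 ≤ Fintype.card ι) : AllFS (Omega F Q) :=
  (allFS_Om hQ two (by simpa) (by simpa)).congr (commutatorCongr (isoEquiv Q)).symm

theorem allFS_symplecticGroup (two : (2 : F) = 0) (n : ℕ) :
    AllFS (Matrix.symplecticGroup (Fin n) F) :=
  let ⟨e⟩ := Symp.nonempty_isom_equiv (l := Fin n) (isAlt_polar two (qPlus n F)) (nd_qPlus n)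
    (by simp [two_mul])
  (allFS_Sp (nd_qPlus n) two).congr e

end Cfsg.Lib.FS2
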