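import Cfsg.Agent.Lib.FS2.SpSt

/-! Vector stabilisers in orthogonal groups of characteristic two. -/

namespace Cfsg.Lib.FS2

open Cfsg.Lib.Char Cfsg.Lib.Orth QuadraticMap

variable {F : Type*} [Field F] {V : Type*} [AddCommGroup V] [Module F V] {h : V → V → F}
  {c : F} {Q : V → F}

variable (h c Q) in
/-- symplectic or orthogonal data in characteristic two -/
structure QD : Prop where
  H : Herm (RingHom.id F) h
  two : (2 : F) = 0
  alt : ∀ x, h x x = 0
  add : ∀ a b, Q (a + b) = Q a + Q b + c * h a b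
  smul : ∀ (r : F) a, Q (r • a) = r * r * Q a
  cs : (c = 0 ∧ ∀ a, Q a = 0) ∨ c = 1

namespace QD

/-- the extended isometry group -/
abbrev Y (D : QD h c Q) : Subgroup (PG V) := D.H.UG ⊓ presQ Q

theorem sub (D : QD h c Q) {W : Submodule F V} (HW : Herm (RingHom.id F) (fun x y : W => h x y)) :
    QD (fun x y : W => h x y) c (fun a => Q a) :=
  ⟨HW, D.two, fun x => D.alt x, fun a b => D.add a b, fun r a => D.smul r a,
    D.cs.imp_left fun h => ⟨h.1, fun a => h.2 a⟩⟩

theorem sp (H : Herm (RingHom.id F) h) (two : (2 : F) = 0) (alt : ∀ x, h x x = 0) :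
    QD h 0 (fun _ => 0) := ⟨H, two, alt, by simp, by simp, .inl ⟨rfl, fun _ => rfl⟩⟩

theorem Y_eq (D : QD h c Q) (h0 : ∀ a, Q a = 0) : D.Y = D.H.UG :=
  inf_eq_left.2 fun _ _ x => (h0 _).trans (h0 x).symm

theorem Q_sub (D : QD h c Q) (a b : V) : Q (a - b) = Q a + Q b + c * h a b := by
  rw [sub_eq_add_neg, neg_eq_of_two D.two, D.add]

theorem exists_qf (D : QD h 1 Q) : ∃ Q' : QuadraticForm F V, Q = Q' ∧ h = polar Q' :=
  ⟨⟨Q, fun r a => by rw [D.smul, smul_eq_mul], LinearMap.mk₂ F h D.H.add D.H.smul D.H.add' D.H.smul',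
    fun a b => by rw [D.add, one_mul]; rfl⟩, rfl, funext₂ fun a b => by
      change _ = Q (a + b) - Q a - Q b
      rw [D.add]; ring⟩

theorem of_qf {Q : QuadraticForm F V} (hQ : ND Q) (two : (2 : F) = 0) : QD (polar Q) 1 Q :=
  ⟨⟨fun _ => rfl, polar_add_left Q, polar_smul_left' Q, polar_comm Q, fun _ => hQ.eq_zero⟩, two,
    polar_self_of_two two, fun a b => by rw [Q_add, one_mul], fun r a => by rw [Q_smul, pow_two],
    .inr rfl⟩

variable {v w : V}

theorem Q_comb (D : QD h 1 Q) (P : Hyp (RingHom.id F) h v w) (hv : v ≠ 0) (a : P.W) (r s : F) :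
    Q (a + r • v + s • w) = Q a + r * r * Q v + s * s * Q w + r * s := by
  simp only [D.add, D.smul, D.H.add, D.H.smul, D.H.smul', P.av, P.aw, P.vw_one hv, RingHom.id_apply]
  ring

theorem Q_Tf (D : QD h 1 Q) (P : Hyp (RingHom.id F) h v w) (a : P.W) (c : F) (x : V) :
    Q (Tf h v a c x) = Q x + h x v * h x v * (Q a + c) + (h x v * c - h x a) ^ 2 * Q v := by
  rw [show Tf h v a c x = x + h x v • a + (h x v * c - h x a) • v by rw [Tf]; module]
  simp only [D.add, D.smul, D.H.add, D.H.smul, D.H.smul', P.av, RingHom.id_apply]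
  ring

theorem pos_sing [Finite F] [Finite V] (D : QD h 1 Q) (P : Hyp (RingHom.id F) h v w) (hv : v ≠ 0)
    (Qv : Q v = 0) (ih : ∀ a, PosS ((D.sub P.HW).Y ⊓ fixS a)) :
    PosS (D.Y ⊓ fixS v) := by
  intro φ hφ
  have hM : D.Y ⊓ fixS v ≤ P.St := inf_le_inf_right _ inf_le_left
  have S : P.Sub (D.Y ⊓ fixS v) (D.sub P.HW).Y :=
    { hM := hM
      hL := inf_le_left
      hπ := fun g => ⟨P.pi_mem _, fun a => by
        change Q (P.pr (g.1.1 a)) = Q a
        rw [P.coe_pr_g (hM g.2), D.Q_sub, D.smul, Qv, g.2.1.2, D.H.smul', P.h_gv (hM g.2), P.av]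
        simp⟩
      hj := fun l => ⟨⟨(P.jj_mem _).1, fun x => by
        have : Q (l.1.1 (P.pr x)) = Q (P.pr x) := l.2.2 (P.pr x)
        conv_rhs => rw [P.decomp x]
        rw [P.jj_fst, Hyp.jf, D.Q_comb P hv, D.Q_comb P hv, this, sg_id, sg_id]⟩, (P.jj_mem _).2⟩ }
  obtain ⟨ψ, hψ⟩ := P.HW.exists_psi
  refine S.eps_ne (add_self_mod D.two) (fun a => ?_) ψ (fun _ => rfl) hψ ih hφ fun n h1 h2 => ?_
  · have hT : Q a + RingHom.id F (Q a) + h a a = 0 := by
      rw [D.alt, RingHom.id_apply]; linear_combination Q a * D.two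
    refine ⟨⟨P.T a _ hT, ⟨(P.T a _ hT).2.1, fun x => ?_⟩, (P.T a _ hT).2.2⟩,
      Subtype.ext (P.pi_T _ _ hT), P.aa_T _ _ hT⟩
    rw [P.T_fst, D.Q_Tf P, Qv]
    linear_combination h x v * h x v * Q a * D.two
  · have h3 := P.ker_eq (S.ker h1)
    have h4 := n.2.1.2 w
    simp only [h2] at h3
    rw [h3, D.Q_Tf P, Qv, P.wv, P.vw_one hv, Submodule.coe_zero, ← zero_smul F (0 : V), D.smul] at h4
    congr 1
    refine Subtype.ext (Prod.ext (Equiv.ext fun x => (h3 x).trans ?_) (P.ker_snd (S.ker h1)))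
    rw [show h (n.1.1 w) w = 0 by linear_combination h4]
    simp [Tf, D.H.zero']

section
variable {Q : QuadraticForm F V} (D : QD (polar Q) 1 Q)

/-- the isometry underlying an element -/
def toO : D.Y →* O Q :=
  (D.H.toLE.comp (Subgroup.inclusion inf_le_left)).codRestrict _ fun g => g.2.2

/-- the element attached to an isometry and a sign -/
def ofO (g : O Q) (ε : ℤˣ) : D.Y := ⟨(g.1.toEquiv, ε), fun x y => by simp, g.2⟩

theorem toO_ofO (g : O Q) (ε : ℤˣ) : D.toO (D.ofO g ε) = g := O.ext fun _ => rfl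

include D in
theorem nd : ND Q := (nd_iff Q).2 D.H.nd

theorem pos_ns [Finite F] [Finite V] (P : Hyp (RingHom.id F) (polar Q) v w) (hv : v ≠ 0)
    (Qv : Q v ≠ 0) (ih : PosS P.HW.UG) : PosS (D.Y ⊓ fixS v) := by
  have hM : D.Y ⊓ fixS v ≤ P.St := inf_le_inf_right _ inf_le_left
  let π := (P.pi.comp (Subgroup.inclusion hM)).codRestrict _ fun g => P.pi_mem _
  let δ := (dickson D.nd).comp (D.toO.comp (Subgroup.inclusion (inf_le_left (b := fixS v))))
  have hr : ∀ x, Tf (polar Q) v 0 (-(Q v)⁻¹) x = (refl Q v).1 x := fun x => by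
    rw [refl_apply, Tf, polar_comm Q x v, polar_zero_right]; module
  refine (pos_prod_sign ih).of_bij (π.prod δ) (fun _ => rfl)
    ⟨(injective_iff_map_eq_one _).2 fun n hn => ?_, fun ⟨l, ε⟩ => ?_⟩
  · have h1 : P.pi ⟨n, hM n.2⟩ = 1 := congrArg (fun p : P.HW.UG × ℤˣ => p.1.1) hn
    have h3 := P.ker_eq h1
    have h2 : P.aa n = 0 := P.HW.nd _ fun b => by
      have h4 := n.2.1.2 b
      rw [h3, D.Q_Tf P, P.av] at h4
      rw [P.H.comm]
      simpa [Qv] using h4
    simp only [h2] at h3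
    have h4 := n.2.1.2 w
    rw [h3, D.Q_Tf P, P.wv, P.vw_one hv, Submodule.coe_zero, map_zero, polar_zero_right] at h4
    generalize polar Q (n.1.1 w) w = c at h3 h4
    have h5 : c * (c - -(Q v)⁻¹) = 0 := by
      field_simp
      linear_combination h4
    rcases mul_eq_zero.1 h5 with rfl | h5
    · exact Subtype.ext (Prod.ext (Equiv.ext fun x => (h3 x).trans (by simp [Tf])) (P.ker_snd h1))
    · have h6 : D.toO (Subgroup.inclusion inf_le_left n) = refl Q v :=
        O.ext fun x => (h3 x).trans (sub_eq_zero.1 h5 ▸ hr x)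
      have h7 : dickson D.nd (D.toO (Subgroup.inclusion inf_le_left n)) = 1 := congrArg Prod.snd hn
      rw [h6, dickson_refl _ Qv] at h7
      exact absurd h7 neg_one_ne
  obtain ⟨μ, hμ⟩ := exists_dual_sq (V := P.W) D.two (φ := fun b => (Q (l.1.1 b) + Q b) / Q v)
    (fun a b => by
      have : polar Q (l.1.1 a : V) (l.1.1 b) = _ := l.2 a b
      simp only [P.HW.map_add l.2, Submodule.coe_add, Q_add, this, sg_id]
      linear_combination polar Q a b / Q v * D.two)
    fun r a => by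
      simp only [P.HW.map_smul l.2, Submodule.coe_smul, Q_smul, sg_id]
      ring
  let f : V →ₗ[F] V := (P.H.toLE ⟨_, (P.jj_mem l).1⟩).toLinearMap + (μ ∘ₗ P.pr).smulRight v
  have hf : ∀ x, polar Q v x = 0 →
      f x = l.1.1 (P.pr x) + (polar Q x w + μ (P.pr x)) • v + (0 : F) • w := fun x hx => by
    change P.jf l x + μ (P.pr x) • v = _
    rw [Hyp.jf, polar_comm Q x v, hx, sg_id, sg_id]; module
  obtain ⟨g, hg⟩ := witt_map D.nd (X := LinearMap.ker (polarBilin Q v)) f
    (fun x (hx : polar Q v x = 0) => by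
      have := hμ (P.pr x)
      conv_rhs => rw [P.decomp x]
      rw [hf x hx, D.Q_comb P hv, D.Q_comb P hv, polar_comm Q x v, hx]
      field_simp at this
      linear_combination this + (μ (P.pr x) ^ 2 * Q v + polar Q x w * μ (P.pr x) * Q v - Q (P.pr x)) *
        D.two)
    fun x (hx : polar Q v x = 0) h0 => by
      have h1 := congrArg P.pr h0
      rw [hf x hx] at h0 h1
      simp only [map_add, map_smul, P.pr_coe, P.pr_v, P.pr_w, smul_zero, add_zero, map_zero] at h1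
      have h2 : P.pr x = 0 := l.1.1.injective (h1.trans (P.HW.map_zero l.2).symm)
      rw [P.decomp x, polar_comm Q x v, hx, h2]
      simpa [h2, P.HW.map_zero l.2] using h0
  have gv : g.1 v = v := by
    rw [hg v P.vv, hf v P.vv]
    simp [P.HW.map_zero l.2, P.vw_one hv]
  let g₀ : (D.Y ⊓ fixS v :) := ⟨D.ofO g l.1.2, (D.ofO g l.1.2).2, gv⟩
  let r : (D.Y ⊓ fixS v :) := ⟨D.ofO (refl Q v) 1, (D.ofO _ 1).2, refl_apply_of_perp P.vv⟩
  have h1 : π g₀ = l := Subtype.ext (Prod.ext (Equiv.ext fun a => by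
    change P.pr (g.1 a) = _
    rw [hg a (P.va a), hf a (P.va a)]
    simp) rfl)
  have h2 : π r = 1 := Subtype.ext (Prod.ext (Equiv.ext fun a => by
    change P.pr ((refl Q v).1 a) = _
    rw [refl_apply_of_perp (P.va a), P.pr_coe]; rfl) rfl)
  have h3 : δ r = -1 := (congrArg (dickson D.nd) (D.toO_ofO _ _)).trans (dickson_refl _ Qv)
  by_cases h4 : δ g₀ = ε
  · exact ⟨g₀, Prod.ext h1 h4⟩
  · refine ⟨g₀ * r, Prod.ext ((map_mul π _ _).trans ?_) ((map_mul δ _ _).trans ?_)⟩
    · rw [h1, h2, mul_one]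
    · rw [h3, Int.units_ne_iff_eq_neg.1 h4]; simp

end

end QD

end Cfsg.Lib.FS2
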