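import Cfsg.Agent.Lib.FS2.Trick

/-! Twisted-real constituents of odd multiplicity and the twisted Clifford correspondence. -/

namespace Cfsg.Lib.FS2

open Cfsg.Lib.Char Cfsg.Lib.Induce Cfsg.Lib.Clifford
open scoped ComplexConjugate

variable {Y H : Type*} [Group Y] [Group H] {s : Y →* ℤˣ} {sH : H →* ℤˣ} {φ ψ : Y → ℂ}

theorem exists_tr_odd [Finite Y] [Finite H] {χ : Y → ℂ} (hχ : GCh0 s χ) (ht : TR s χ)
    (f : H →* Y) (hf : ∀ h, s (f h) = sH h) (hH : Out sH) {η : H → ℂ} (hη : GCh0 sH η)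
    (htη : TR sH η) (ho : OddC (ip sH (fun x => χ (f x)) η)) :
    ∃ κ, Irr0 s κ ∧ TR s κ ∧ OddC (ip s χ κ) ∧ OddC (ip sH (fun x => κ (f x)) η) := by
  classical
  have := Fintype.ofFinite s.ker
  have := Fintype.ofFinite sH.ker
  obtain ⟨e, he⟩ := hH
  have hy : s (f e) = -1 := (hf e).trans he
  choose ext hext using exists_r0 s
  have hirr : ∀ κ : IrrCharacter s.ker, Irr0 s (ext κ) := fun κ => by
    unfold Irr0; rw [hext]; exact κ.2
  choose n hn using fun κ : IrrCharacter s.ker => hχ.exists_ip (hirr κ).gch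
  choose m hm using fun κ : IrrCharacter s.ker => ((hirr κ).gch.comp f hf).exists_ip hη
  let σ : IrrCharacter s.ker → IrrCharacter s.ker := fun κ => ⟨_, ((hirr κ).st (f e)).irr⟩
  have hσ : ∀ κ g, s g = 1 → ext (σ κ) g = st (f e) (ext κ) g := fun κ g hg =>
    congrFun (hext (σ κ)) ⟨g, hg⟩
  have hσσ : ∀ κ, σ (σ κ) = κ := fun κ => by
    refine Subtype.ext (funext fun g => ?_)
    change st (f e) (ext (σ κ)) g = _
    rw [← congrFun (hext κ) g, r0, ← st_st (hirr κ).gch (f e) g.2]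
    simp only [st]
    rw [hσ _ _ (by rw [sgn_conj]; exact g.2)]; rfl
  have hnσ : ∀ κ, n (σ κ) = n κ := fun κ => by
    have h1 := hn (σ κ)
    rw [ip_congr (fun g hg => (ht.st hy hg).symm) (hσ κ), ip_st, hn, map_intCast] at h1
    exact_mod_cast h1.symm
  have hmσ : ∀ κ, m (σ κ) = m κ := fun κ => by
    have h1 := hm (σ κ)
    rw [ip_congr (φ' := st e (fun x => ext κ (f x))) (fun g hg => by
      rw [hσ κ _ ((hf g).trans hg)]; simp [st]) (fun g hg => (htη.st he hg).symm), ip_st, hm,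
      map_intCast] at h1
    exact_mod_cast h1.symm
  have hsum : ip sH (fun x => χ (f x)) η = ((∑ κ, n κ * m κ : ℤ) : ℂ) := by
    have h1 := hχ.gen.isClassFunction.eq_sum_irr
    have h2 : r0 sH (fun x => χ (f x)) =
        ∑ κ : IrrCharacter s.ker, (n κ : ℂ) • r0 sH (fun x => ext κ (f x)) := by
      funext x
      have h3 := congrFun h1 (kerMap f hf x)
      simp only [Finset.sum_apply, Pi.smul_apply, smul_eq_mul] at h3 ⊢
      refine h3.trans (Finset.sum_congr rfl fun κ _ => ?_)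
      rw [← hn, ip_eq, hext]
      congr 1
      exact (congrFun (hext κ) (kerMap f hf x)).symm
    rw [ip_eq, h2, classInner_sum_left]
    push_cast
    refine Finset.sum_congr rfl fun κ _ => ?_
    rw [classInner_smul_left, ← ip_eq, hm]
  by_contra hcon
  obtain ⟨N, hN, hN'⟩ := ho
  have h1 : N = ∑ κ, n κ * m κ := by exact_mod_cast hN'.symm.trans hsum
  have h2 : ∑ κ, ((n κ * m κ : ℤ) : ZMod 2) = 0 := by
    refine Finset.sum_involution (fun κ _ => σ κ) (fun κ _ => ?_) (fun κ _ h0 h => ?_)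
      (fun _ _ => Finset.mem_univ _) (fun κ _ => hσσ κ)
    · rw [hnσ, hmσ, CharTwo.add_self_eq_zero]
    · have h3 : Odd (n κ * m κ) := by
        rwa [← Int.not_even_iff_odd, even_iff_two_dvd, ← Nat.cast_ofNat,
          ← ZMod.intCast_zmod_eq_zero_iff_dvd]
      rw [Int.odd_mul] at h3
      refine hcon ⟨ext κ, hirr κ, tr_of_st (hirr κ).gch hy fun g hg => ?_, ⟨_, h3.1, hn κ⟩,
        ⟨_, h3.2, hm κ⟩⟩
      rw [← hσ κ g hg, h]
  rw [← Int.cast_sum, ← h1, ZMod.intCast_zmod_eq_zero_iff_dvd] at h2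
  exact (Int.not_even_iff_odd.2 hN) (even_iff_two_dvd.2 (by exact_mod_cast h2))

theorem exists_tr_odd' [Finite Y] {χ η : Y → ℂ} (hχ : GCh0 s χ) (ht : TR s χ) (hs : Out s)
    (hη : GCh0 s η) (htη : TR s η) (ho : OddC (ip s χ η)) :
    ∃ κ, Irr0 s κ ∧ TR s κ ∧ OddC (ip s χ κ) :=
  let ⟨κ, a, b, c, _⟩ := exists_tr_odd hχ ht (MonoidHom.id Y) (fun _ => rfl) hs hη htη ho
  ⟨κ, a, b, c⟩

/-- complex conjugation to the power of a sign -/
noncomputable def cj (a : ℤˣ) (z : ℂ) : ℂ := if a = 1 then z else conj z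

theorem cj_one (z : ℂ) : cj 1 z = z := if_pos rfl
theorem cj_neg (z : ℂ) : cj (-1) z = conj z := if_neg neg_one_ne
theorem cj_mul (a b : ℤˣ) (z : ℂ) : cj (a * b) z = cj b (cj a z) := by
  rcases sgn_cases a with rfl | rfl <;> rcases sgn_cases b with rfl | rfl <;>
    simp [cj_one, cj_neg]
theorem cj_cj (a : ℤˣ) (z : ℂ) : cj a (cj a z) = z := by
  rw [← cj_mul, Int.units_mul_self, cj_one]

/-- the twisted inertia group -/
def tin (s : Y →* ℤˣ) (N : Subgroup Y) [hN : N.Normal] (ν : N → ℂ) : Subgroup Y where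
  carrier := {y | ∀ n : N, ν ⟨y * n * y⁻¹, hN.conj_mem _ n.2 y⟩ = cj (s y) (ν n)}
  one_mem' n := by simp [cj_one]
  mul_mem' {a b} ha hb n := by
    rw [map_mul, mul_comm (s a), cj_mul, ← hb n, ← ha]
    congr 2; group
  inv_mem' {a} ha n := by
    have := ha ⟨a⁻¹ * n * a⁻¹⁻¹, hN.conj_mem _ n.2 _⟩
    rw [sgn_inv, ← cj_cj (s a) (ν ⟨a⁻¹ * n * a⁻¹⁻¹, _⟩), ← this]
    congr 3; group

theorem mem_tin {N : Subgroup Y} [hN : N.Normal] {ν : N → ℂ} {y : Y} :
    y ∈ tin s N ν ↔ ∀ n : N, ν ⟨y * n * y⁻¹, hN.conj_mem _ n.2 y⟩ = cj (s y) (ν n) := Iff.rfl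

theorem le_tin {N : Subgroup Y} [N.Normal] (hN : N ≤ s.ker) {ν : N → ℂ}
    (hν : IsClassFunction N ν) : N ≤ tin s N ν := fun y hy n => by
  rw [show s y = 1 from hN hy, cj_one]
  exact hν n ⟨y, hy⟩

theorem classInner_st {N : Subgroup Y} [hN : N.Normal] [Fintype N] (y : Y) (φ : Y → ℂ)
    (ν : N → ℂ) : classInner (fun n : N => st y φ n) (fun n => conj (conjChar N y ν n)) =
      conj (classInner (fun n : N => φ n) ν) := by
  rw [← classInner_conjChar N y (fun n : N => φ n) ν, conj_classInner,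
    ← classInner_conj_conj (conjChar N y _)]; rfl

/-- twisted Clifford correspondence -/
theorem exists_clifford [Finite Y] (N : Subgroup Y) [hN : N.Normal] [Fintype N] (hle : N ≤ s.ker)
    (h : Irr0 s φ) (ht : TR s φ) (hs : Out s) {ν : N → ℂ} (hν : IsIrrCharacter N ν)
    (hc : classInner (fun n : N => φ n) ν ≠ 0) :
    Out (s.comp (tin s N ν).subtype) ∧ ∃ η : tin s N ν → ℂ, Irr0 (s.comp (tin s N ν).subtype) η ∧
      TR (s.comp (tin s N ν).subtype) η ∧
      classInner (fun n : N => η ⟨n, le_tin hle hν.isClassFunction n.2⟩) ν ≠ 0 ∧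
      ∀ θ, GCh0 s θ → ip (s.comp (tin s N ν).subtype) (fun x => θ x) η = ip s θ φ := by
  classical
  have := Fintype.ofFinite Y
  have hout : Out (s.comp (tin s N ν).subtype) := by
    obtain ⟨y, hy⟩ := hs
    have h1 : classInner (fun n : N => φ n) (fun n => conj (conjChar N y ν n)) ≠ 0 := by
      have h2 := classInner_st y φ ν
      have h3 : (fun n : N => st y φ n) = fun n : N => φ n := funext fun n => ht.st hy (hle n.2)
      rw [h3] at h2
      rw [h2]; simpa using hc
    obtain ⟨t, ht', e⟩ := exists_conjChar_eq_of_constituents_le N hle h.irr hν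
      (isIrrCharacter_conjChar N hν y).conj hc h1
    have h4 : s (y * t⁻¹) = -1 := by rw [map_mul, sgn_inv, hy, show s t = 1 from ht', mul_one]
    refine ⟨⟨y * t⁻¹, fun n => ?_⟩, h4⟩
    have h5 := congrFun e ⟨t⁻¹ * n * t⁻¹⁻¹, hN.conj_mem _ n.2 _⟩
    simp only [conjChar_apply] at h5
    rw [h4, cj_neg]
    have h6 : ν n = _ := (congrArg ν (Subtype.ext (by simp [mul_assoc]))).trans h5
    rw [h6, Complex.conj_conj]
    congr 2; group
  refine ⟨hout, ?_⟩
  set N' := N.subgroupOf s.ker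
  let ν' : N' → ℂ := fun x => ν ⟨(x : s.ker), Subgroup.mem_subgroupOf.mp x.2⟩
  have hν' : IsIrrCharacter N' ν' := (isIrrCharacter_subgroupOf_iff hle).2 hν
  set T := inertia N' ν'
  have hNT : N' ≤ T := le_inertia N' hν'.isClassFunction
  have hc' : classInner (fun n : N' => r0 s φ n) ν' ≠ 0 := by
    rw [classInner_res_subgroupOf hle (r0 s φ) ν]; exact hc
  obtain ⟨ψ, hψ, hind, hmul⟩ := exists_indFun_eq_of_over N' hNT hν' le_rfl h.irr hc'
  let sT := s.comp (tin s N ν).subtype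
  let e : T ≃* sT.ker :=
    { toFun := fun t => ⟨⟨t.1.1, fun n => by
        rw [show s t.1.1 = 1 from t.1.2, cj_one]
        exact (mem_inertia_iff N').1 t.2 ⟨⟨n, hle n.2⟩, n.2⟩⟩, t.1.2⟩
      invFun := fun k => ⟨⟨k.1.1, k.2⟩, (mem_inertia_iff N').2 fun n => by
        have := k.1.2 ⟨n.1.1, n.2⟩
        rwa [show s k.1.1 = 1 from k.2, cj_one] at this⟩
      left_inv := fun _ => rfl
      right_inv := fun _ => rfl
      map_mul' := fun _ _ => rfl }
  obtain ⟨η, hη⟩ := exists_r0 sT (fun k => ψ (e.symm k))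
  have hηe : ∀ t : T, η (e t).1 = ψ t := fun t => congrFun hη (e t)
  have hirr : Irr0 sT η := by unfold Irr0; rw [hη]; exact hψ.comp_equiv e.symm
  have hip : ∀ θ, GCh0 s θ → ip sT (fun x => θ x) η = ip s θ φ := fun θ hθ => by
    rw [ip_eq, ip_eq, ← hind, frobenius_reciprocity' T ψ hθ.gen.isClassFunction,
      ← classInner_comp_equiv e]
    simp only [r0, hηe]; rfl
  have hover : ∀ η' : tin s N ν → ℂ, classInner (fun n : N' => η' (e ⟨n, hNT n.2⟩).1) ν' =
      classInner (fun n : N => η' ⟨n, le_tin hle hν.isClassFunction n.2⟩) ν := fun η' =>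
    classInner_subgroupOf hle (fun n : N => η' ⟨n, le_tin hle hν.isClassFunction n.2⟩) ν
  have hov : classInner (fun n : N => η ⟨n, le_tin hle hν.isClassFunction n.2⟩) ν ≠ 0 := by
    rw [← hover]; simp only [hηe]; rw [hmul]; exact hc'
  refine ⟨η, hirr, ?_, hov, hip⟩
  obtain ⟨y, hy⟩ := hout
  have hy' : s y = -1 := hy
  refine tr_of_st hirr.gch hy fun g hg => ?_
  have key : ψ = fun t => st y η (e t).1 := by
    refine eq_of_constituent_res_indFun_of_over N' hNT hν' le_rfl hψ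
      ((hirr.st y).irr.comp_equiv e) (by rw [hmul]; exact hc') ?_ ?_
    · rw [hover (st y η)]
      have h1 : ν = fun n => conj (conjChar N y ν n) := funext fun n => by
        rw [conjChar_apply, y.2 n, hy', cj_neg, Complex.conj_conj]
      have h2 : classInner (fun n : N => st y η ⟨n, le_tin hle hν.isClassFunction n.2⟩)
          (fun n => conj (conjChar N y ν n)) =
          conj (classInner (fun n : N => η ⟨n, le_tin hle hν.isClassFunction n.2⟩) ν) := by
        rw [← classInner_conjChar N y _ ν, conj_classInner,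
          ← classInner_conj_conj (conjChar N y _)]; rfl
      rw [← h1] at h2
      rw [h2]; simpa using hov
    · have h1 := ip_st (s := sT) y (fun x => φ x) η
      rw [hip φ h.gch, h.ip_self, map_one,
        ip_congr (φ := st y fun x => φ x) (φ' := fun x => φ x)
          (fun g hg => (ht.comp (sH := sT) (tin s N ν).subtype (fun _ => rfl)).st hy hg)
          (fun _ _ => rfl), ip_eq, ← classInner_comp_equiv e] at h1
      rw [hind]
      exact fun h0 => one_ne_zero (h1.symm.trans h0)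
  have := congrFun key (e.symm ⟨g, hg⟩)
  rw [← hηe, e.apply_symm_apply] at this
  exact this.symm

end Cfsg.Lib.FS2
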