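import Cfsg.Agent.Lib.Orth.CharTwo
import Cfsg.Agent.Lib.Orth.Sum

/-! Reality of isometries in characteristic two: the building blocks. -/

namespace Cfsg.Lib.FS2

open Cfsg.Lib.Orth QuadraticMap Module

variable {F V R : Type*} [Field F] [AddCommGroup V] [Module F V] {Q : QuadraticForm F V}

theorem exists_O_of_swap [FiniteDimensional F V] {M : Type*} [AddCommGroup M] [Module F M]
    (e : M →ₗ[F] V) (s : M →ₗ[F] M) (hs : ∀ m, s (s m) = m) (hQ : ∀ m, Q (e (s m)) = Q (e m))
    (nd : ND (Q.restrict (LinearMap.range e))) :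
    ∃ t : O (Q.restrict (LinearMap.range e)), ∀ m,
      t.1 (e.rangeRestrict m) = e.rangeRestrict (s m) := by
  obtain ⟨ρ, hρ⟩ := e.rangeRestrict.exists_rightInverse_of_surjective e.range_rangeRestrict
  have h1 : ∀ w, e (ρ w) = w := fun w => congrArg Subtype.val (LinearMap.congr_fun hρ w)
  have h2 : ∀ m m', polar Q (e (s m)) (e (s m')) = polar Q (e m) (e m') := fun m m' => by
    simp only [polar, ← map_add, hQ]
  refine ⟨O.ofLinear nd (e.rangeRestrict ∘ₗ s ∘ₗ ρ) fun w => (hQ _).trans (congrArg Q (h1 w)),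
    fun m => nd.ext ?_⟩
  rintro ⟨_, m', rfl⟩
  change polar Q (e (s (ρ _))) (e m') = polar Q (e (s m)) (e m')
  rw [← hs m', h2, h2, h1]; rfl

theorem two_mul_rank [FiniteDimensional F V] (h2 : (2 : F) = 0) {t : O Q} (ht : t * t = 1)
    (U : Submodule F V) (hU : O.fix t ⊓ U = ⊥) (hn : finrank F V ≤ 2 * finrank F U) :
    finrank F (O.comm t) = finrank F V / 2 := by
  have h1 := O.finrank_comm_add_finrank_fix t
  have h3 := Submodule.finrank_mono (comm_le_fix h2 ht)
  have h4 := Submodule.finrank_sup_add_finrank_inf_eq (O.fix t) U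
  have h5 := (O.fix t ⊔ U).finrank_le
  rw [hU, finrank_bot] at h4
  omega

/-- an inverting element of the right Dickson invariant -/
def Good [FiniteDimensional F V] (hQ : ND Q) (g : O Q) : Prop :=
  ∃ t : O Q, t * g * t⁻¹ = g⁻¹ ∧ dickson hQ t = (-1) ^ (finrank F V / 2)

theorem good_of_fix [FiniteDimensional F V] (hQ : ND Q) (h2 : (2 : F) = 0) {g t : O Q}
    (ht : t * t = 1) (htg : t * g * t⁻¹ = g⁻¹) (hg : ∀ v, g.1 v = v → v = 0) : Good hQ g := by
  have h1 : t * g * (t * g) = 1 := by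
    rw [← mul_assoc, ← eq_inv_of_mul_eq_one_left ht] at *
    rw [htg, inv_mul_cancel]
  refine ⟨t, htg, congrArg ((-1 : ℤˣ) ^ ·)
    (two_mul_rank h2 ht (O.fix (t * g)) (eq_bot_iff.2 fun v hv => hg v ?_) ?_)⟩
  · have h3 := O.mem_fix.1 hv.2
    rw [O.mul_apply] at h3
    exact t.1.injective (h3.trans (O.mem_fix.1 hv.1).symm)
  · have h3 := O.finrank_comm_add_finrank_fix (t * g)
    have h4 := Submodule.finrank_mono (comm_le_fix h2 h1)
    omega

theorem good_of_neg [FiniteDimensional F V] (hQ : ND Q) {g t : O Q}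
    (htg : t * g * t⁻¹ = g⁻¹) (hg : dickson hQ g = -1) : Good hQ g := by
  by_cases h : dickson hQ t = (-1) ^ (finrank F V / 2)
  · exact ⟨t, htg, h⟩
  · exact ⟨t * g, by rw [← htg]; group, by rw [map_mul, hg, Int.units_ne_iff_eq_neg.1 h]; simp⟩

variable [CommRing R] [Algebra F R] [Module R V] [IsScalarTower F R V]

variable (Q) in
/-- a commutative ring with involution generated by an isometry -/
structure RD (σ : R →ₐ[F] R) (T : Rˣ) : Prop where
  two : (2 : F) = 0
  inv : ∀ r, σ (σ r) = r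
  sT : ∀ i : ℤ, σ (T ^ i :) = (T ^ (-i) :)
  gen : ∀ p : Submodule F R, (∀ i : ℤ, ((T ^ i :) : R) ∈ p) → ∀ r, r ∈ p
  mapQ : ∀ (i : ℤ) (v : V), Q (((T ^ i :) : R) • v) = Q v

namespace RD

variable {σ : R →ₐ[F] R} {T : Rˣ} (D : RD Q σ T)
include D

theorem two' : (2 : R) = 0 := by rw [← map_ofNat (algebraMap F R) 2, D.two, map_zero]

theorem adj (r : R) (a b : V) : polar Q (r • a) b = polar Q a (σ r • b) := by
  let p : Submodule F R :=
    { carrier := {r | polar Q (r • a) b = polar Q a (σ r • b)}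
      zero_mem' := by simp
      add_mem' := fun h1 h2 => by
        simp only [Set.mem_setOf_eq, map_add, add_smul, polar_add_left, polar_add_right] at *
        rw [h1, h2]
      smul_mem' := fun c r h => by
        simp only [Set.mem_setOf_eq, map_smul, smul_assoc, polar_smul_left', polar_smul_right'] at *
        rw [h] }
  refine D.gen p (fun i => ?_) r
  change polar Q _ b = polar Q a _
  rw [D.sT, polar, polar, ← D.mapQ (-i), smul_add, smul_smul, ← Units.val_mul, ← zpow_add,
    D.mapQ, D.mapQ, neg_add_cancel, zpow_zero, Units.val_one, one_smul]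

theorem adj' (r : R) (a b : V) : polar Q a (r • b) = polar Q (σ r • a) b := by
  rw [D.adj, D.inv]

theorem Q_swap {x y : V} (h : ∀ r : R, polar Q (r • x) x = polar Q (r • y) y) (hq : Q x = Q y)
    (r : R) : Q (σ r • y) = Q (r • x) := by
  let p : Submodule F R :=
    { carrier := {r | Q (σ r • y) = Q (r • x)}
      zero_mem' := by simp
      add_mem' := fun {a b} h1 h2 => by
        simp only [Set.mem_setOf_eq, map_add, add_smul, Q_add] at *
        rw [h1, h2, D.adj', D.inv, smul_smul, ← h, polar_comm Q (a • x), D.adj' a, smul_smul,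
          mul_comm]
      smul_mem' := fun c r h => by
        simp only [Set.mem_setOf_eq, map_smul, smul_assoc, Q_smul] at *
        rw [h] }
  refine D.gen p (fun i => ?_) r
  change Q _ = Q _
  rw [D.sT, D.mapQ, D.mapQ, hq]

omit D in
variable (F R) in
/-- the span of two vectors -/
def sp2 (x y : V) : R × R →ₗ[F] V where
  toFun m := m.1 • x + m.2 • y
  map_add' m m' := by simp only [Prod.fst_add, Prod.snd_add]; module
  map_smul' c m := by simp [smul_assoc]

variable [FiniteDimensional F V] {g : O Q} (hg : ∀ v, g.1 v = (T : R) • v)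
include hg

omit D in
theorem mem_stab_sp2 (x y : V) : g ∈ stab Q (LinearMap.range (sp2 F R x y)) :=
  mem_stab_iff_mapsTo.2 <| by
    rintro _ ⟨m, rfl⟩
    exact ⟨(T : R) • m, by simp [sp2, hg, mul_smul]⟩

theorem exists_swap {x y : V} (h : ∀ r : R, polar Q (r • x) x = polar Q (r • y) y) (hq : Q x = Q y)
    (nd : ND (Q.restrict (LinearMap.range (sp2 F R x y)))) :
    ∃ t : O (Q.restrict (LinearMap.range (sp2 F R x y))), t * t = 1 ∧
      t * res Q _ ⟨g, mem_stab_sp2 hg x y⟩ * t⁻¹ = (res Q _ ⟨g, mem_stab_sp2 hg x y⟩)⁻¹ ∧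
      ∀ m : R × R, t.1 ((sp2 F R x y).rangeRestrict m) = (sp2 F R x y).rangeRestrict (σ m.2, σ m.1) := by
  obtain ⟨t, ht⟩ := exists_O_of_swap (sp2 F R x y)
    ((σ.toLinearMap ∘ₗ LinearMap.snd F R R).prod (σ.toLinearMap ∘ₗ LinearMap.fst F R R))
    (fun m => by simp [D.inv]) (fun m => by
      change Q (σ m.2 • x + σ m.1 • y) = Q (m.1 • x + m.2 • y)
      rw [Q_add, Q_add, D.Q_swap h hq, D.Q_swap (fun r => (h r).symm) hq.symm, add_comm (Q _),
        D.adj, D.inv, D.adj m.1, smul_smul, smul_smul, mul_comm]) nd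
  replace ht : ∀ m : R × R, t.1 ((sp2 F R x y).rangeRestrict m) =
    (sp2 F R x y).rangeRestrict (σ m.2, σ m.1) := ht
  have h1 : ∀ m, (res Q _ ⟨g, mem_stab_sp2 hg x y⟩).1 ((sp2 F R x y).rangeRestrict m) =
      (sp2 F R x y).rangeRestrict ((T : R) • m) := fun m =>
    Subtype.ext ((hg _).trans (by
      change (T : R) • (m.1 • x + m.2 • y) = ((T : R) * m.1) • x + ((T : R) * m.2) • y
      module))
  have h2 := D.sT 1
  refine ⟨t, O.ext fun w => ?_, mul_inv_eq_iff_eq_mul.2 (eq_inv_mul_iff_mul_eq.2 (O.ext fun w => ?_)),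
    ht⟩ <;> obtain ⟨m, rfl⟩ := (sp2 F R x y).surjective_rangeRestrict w
  · rw [O.mul_apply, ht, ht, D.inv, D.inv]; rfl
  · rw [O.mul_apply, O.mul_apply, h1, ht, h1, ht]
    simp only [zpow_one, zpow_neg] at h2
    simp [h2]

end RD

end Cfsg.Lib.FS2
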