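import Cfsg.Agent.Lib.FS2.Real1

/-! Reality of isometries in characteristic two: unipotent blocks. -/

namespace Cfsg.Lib.FS2

open Cfsg.Lib.Orth QuadraticMap Module

variable {F V R : Type*} [Field F] [AddCommGroup V] [Module F V] {Q : QuadraticForm F V}

/-- a nondegenerate invariant subspace on which the element is suitably inverted -/
def Block [FiniteDimensional F V] (g : O Q) : Prop :=
  ∃ W : Submodule F V, W ≠ ⊥ ∧ ∃ (nd : ND (Q.restrict W)) (hW : g ∈ stab Q W),
    Good nd (res Q W ⟨g, hW⟩)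

variable [CommRing R] [Algebra F R] [Module R V] [IsScalarTower F R V]

namespace RD

variable {σ : R →ₐ[F] R} {T : Rˣ} (D : RD Q σ T) {N : R} (hN : N = T + 1)
include D hN

theorem augT (i : ℤ) : ∃ r, ((T ^ i :) : R) = 1 + N * r := by
  refine zpow_induction_left (g := T) (P := fun a => ∃ r, (a : R) = 1 + N * r) ⟨0, by simp⟩ ?_ ?_ i
  · rintro a ⟨r, hr⟩
    exact ⟨1 + T * r, by rw [Units.val_mul, hr, hN]; linear_combination -D.two'⟩
  · rintro a ⟨r, hr⟩
    exact ⟨↑T⁻¹ + ↑T⁻¹ * r, by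
      rw [Units.val_mul, hr, hN]; linear_combination -T.mul_inv - D.two'⟩

theorem aug (r : R) : ∃ (c : F) (r' : R), r = algebraMap F R c + N * r' := by
  let p : Submodule F R :=
    { carrier := {r | ∃ (c : F) (r' : R), r = algebraMap F R c + N * r'}
      zero_mem' := ⟨0, 0, by simp⟩
      add_mem' := by
        rintro _ _ ⟨c, r, rfl⟩ ⟨c', r', rfl⟩
        exact ⟨c + c', r + r', by rw [map_add]; ring⟩
      smul_mem' := by
        rintro a _ ⟨c, r, rfl⟩
        exact ⟨a * c, a • r, by simp only [map_mul, Algebra.smul_def]; ring⟩ }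
  exact D.gen p (fun i => let ⟨r, hr⟩ := D.augT hN i; ⟨1, r, by rw [hr, map_one]⟩) r

theorem N_smul (w : V) : N • w = (T : R) • w - w := by
  rw [hN, sub_eq_add_neg, neg_eq_of_two D.two, add_smul, one_smul]

theorem QT (w : V) : Q ((T : R) • w) = Q w := by simpa using D.mapQ 1 w

theorem QN (w : V) : Q (N • w) = polar Q (N • w) w := by
  rw [D.N_smul hN, Q_sub, D.QT hN, polar_sub_left, polar_self_of_two D.two]
  linear_combination (Q w - polar Q ((T : R) • w) w) * D.two

theorem NN (a b : V) : polar Q (N • a) (N • b) = polar Q (N • a) b + polar Q a (N • b) := by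
  have : polar Q ((T : R) • a) ((T : R) • b) = polar Q a b := by
    rw [polar, ← smul_add, D.QT hN, D.QT hN, D.QT hN, polar]
  simp only [D.N_smul hN, polar_sub_left, polar_sub_right, this]
  linear_combination (2 * polar Q a b - polar Q ((T : R) • a) b - polar Q a ((T : R) • b)) * D.two

omit [IsScalarTower F R V] in
theorem sN : σ N = (T ^ (-1 : ℤ) :) * N := by
  have := D.sT 1
  rw [zpow_one] at this
  rw [hN, map_add, map_one, this, mul_add, add_comm]
  simp

theorem pol_congr {x y : V} (h : ∀ i, Q (N ^ i • x) = Q (N ^ i • y)) (d : ℕ) : ∀ i,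
    polar Q (N ^ (i + d) • x) (N ^ i • x) = polar Q (N ^ (i + d) • y) (N ^ i • y) := by
  induction d using Nat.twoStepInduction with
  | zero => simp [polar_self_of_two D.two]
  | one => intro i; rw [pow_succ', mul_smul, mul_smul, ← D.QN hN, ← D.QN hN, ← mul_smul, ← mul_smul,
      ← pow_succ', h]
  | more d h0 h1 =>
    intro i
    have e : ∀ x : V, polar Q (N ^ (i + (d + 2)) • x) (N ^ i • x) =
        polar Q (N ^ (i + 1 + (d + 1)) • x) (N ^ (i + 1) • x) -
          polar Q (N ^ (i + 1 + d) • x) (N ^ (i + 1) • x) := fun x => by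
      have := D.NN hN (N ^ (i + 1 + d) • x) (N ^ i • x)
      simp only [smul_smul, ← pow_succ'] at this
      rw [show i + (d + 2) = i + 1 + d + 1 by ring, ← add_assoc, this]; ring
    rw [e, e, h0, h1]

variable {k : ℕ} (hk : ∀ v : V, N ^ (k + 1) • v = 0)
include hk

omit D hN [IsScalarTower F R V] in
theorem pow_smul_zero {i : ℕ} (h : k < i) (v : V) : N ^ i • v = 0 := by
  obtain ⟨j, rfl⟩ := Nat.exists_eq_add_of_lt h
  rw [show k + j + 1 = k + 1 + j by ring, pow_add, mul_smul, hk]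

theorem polN {i j : ℕ} (h : k ≤ i + j) (a b : V) :
    polar Q (N ^ i • a) (N ^ j • b) = polar Q (N ^ (i + j) • a) b := by
  obtain ⟨r, hr⟩ := D.augT hN (-1 * j)
  rw [zpow_mul, zpow_natCast, Units.val_pow_eq_pow_val] at hr
  rw [D.adj', map_pow, D.sN hN, mul_pow, hr, smul_smul,
    show (1 + N * r) * N ^ j * N ^ i = N ^ (i + j) + r * N ^ (i + j + 1) by ring, add_smul,
    mul_smul, pow_smul_zero hk (Nat.lt_succ_of_le h), smul_zero, add_zero]

theorem polN_eq {i j : ℕ} (h : i + j = k) (a b : V) :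
    polar Q (N ^ i • a) (N ^ j • b) = polar Q (N ^ k • a) b := by rw [D.polN hN hk h.ge, h]

theorem polN_zero {i j : ℕ} (h : k < i + j) (a b : V) : polar Q (N ^ i • a) (N ^ j • b) = 0 := by
  rw [D.polN hN hk h.le, pow_smul_zero hk h, polar_zero_left]

theorem beta_comm (a b : V) : polar Q (N ^ k • a) b = polar Q (N ^ k • b) a := by
  rw [← D.polN_eq hN hk (zero_add k), pow_zero, one_smul, polar_comm]

theorem ell_congr {x y : V} (h : ∀ i, Q (N ^ i • x) = Q (N ^ i • y)) (r : R) :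
    polar Q (r • x) x = polar Q (r • y) y := by
  have := Nat.decreasingInduction (n := k + 1)
    (motive := fun j _ => ∀ r : R, polar Q ((N ^ j * r) • x) x = polar Q ((N ^ j * r) • y) y)
    (fun j _ ih r => ?_) (fun r => by simp [mul_smul, hk]) (Nat.zero_le _) r
  · simpa using this
  obtain ⟨c, r, rfl⟩ := D.aug hN r
  have h1 := D.pol_congr hN h j 0
  simp only [zero_add, pow_zero, one_smul] at h1
  rw [mul_add, ← mul_assoc, ← pow_succ, add_smul, add_smul, polar_add_left, polar_add_left, ih,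
    mul_comm (N ^ j), mul_smul, mul_smul _ (N ^ j) y, algebraMap_smul, algebraMap_smul, polar_smul_left',
    polar_smul_left', h1]

theorem free {x y : V} (hd : ∀ c d : F, c * polar Q (N ^ k • x) x + d * polar Q (N ^ k • y) x = 0 →
      c * polar Q (N ^ k • x) y + d * polar Q (N ^ k • y) y = 0 → c • x = 0 ∧ d • y = 0) {p q : R}
    (h1 : ∀ r : R, polar Q (p • x + q • y) (r • x) = 0)
    (h2 : ∀ r : R, polar Q (p • x + q • y) (r • y) = 0) : p • x = 0 ∧ q • y = 0 := by
  have key : ∀ i ≤ k + 1, ∃ p' q' : R, p • x = N ^ i • p' • x ∧ q • y = N ^ i • q' • y := by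
    intro i
    induction i with
    | zero => exact fun _ => ⟨p, q, by simp⟩
    | succ i ih =>
      intro hi
      obtain ⟨p', q', e1, e2⟩ := ih (by omega)
      obtain ⟨c, p', rfl⟩ := D.aug hN p'
      obtain ⟨d, q', rfl⟩ := D.aug hN q'
      have h3 : ∀ z : V, polar Q (p • x + q • y) (N ^ (k - i) • z) =
          c * polar Q (N ^ k • x) z + d * polar Q (N ^ k • y) z := fun z => by
        rw [e1, e2, polar_add_left, D.polN_eq hN hk (by omega), D.polN_eq hN hk (by omega)]
        simp [add_smul, mul_smul, smul_add, ← mul_smul (N ^ k) N, ← pow_succ, hk,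
          smul_comm (N ^ k) c, smul_comm (N ^ k) d]
      obtain ⟨h4, h5⟩ := hd c d ((h3 x).symm.trans (h1 _)) ((h3 y).symm.trans (h2 _))
      exact ⟨p', q', by rw [e1, add_smul, algebraMap_smul, h4, zero_add, pow_succ, mul_smul, mul_smul],
        by rw [e2, add_smul, algebraMap_smul, h5, zero_add, pow_succ, mul_smul, mul_smul]⟩
  obtain ⟨p', q', e1, e2⟩ := key _ le_rfl
  exact ⟨e1.trans (hk _), e2.trans (hk _)⟩

theorem exists_pair (alt : ∀ a : V, polar Q (N ^ k • a) a = 0) {x y : V}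
    (hxy : polar Q (N ^ k • x) y ≠ 0) :
    ∃ x y : V, polar Q (N ^ k • x) y ≠ 0 ∧ ∀ i, Q (N ^ i • x) = Q (N ^ i • y) := by
  have Qz : ∀ m (a : V), k < 2 * m → Q (N ^ m • a) = 0 := fun m a hm => by
    obtain ⟨m, rfl⟩ := Nat.exists_eq_add_one_of_ne_zero (show m ≠ 0 by omega)
    rw [pow_succ', mul_smul, D.QN hN, smul_smul, ← pow_succ']
    rcases (show k ≤ m + 1 + m by omega).eq_or_lt with e | e
    · rw [D.polN_eq hN hk e.symm, alt]
    · exact D.polN_zero hN hk e _ _
  have hc : ∀ (i : ℕ) (c : F) (a : V), N ^ i • c • a = c • N ^ i • a := fun i c a => smul_comm _ _ _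
  have := Nat.decreasingInduction (n := k + 1) (motive := fun j _ => ∃ x y : V,
      polar Q (N ^ k • x) y ≠ 0 ∧ ∀ i, j ≤ i → Q (N ^ i • x) = Q (N ^ i • y)) ?_
    ⟨x, y, hxy, fun i hi => by rw [Qz i x (by omega), Qz i y (by omega)]⟩ (Nat.zero_le _)
  · obtain ⟨x, y, h1, h2⟩ := this
    exact ⟨x, y, h1, fun i => h2 i i.zero_le⟩
  rintro j - ⟨x, y, h1, h2⟩
  have h3 : ∀ x y : V, Q (N ^ j • x) = Q (N ^ j • y) → k ≤ 2 * j →
      ∀ i, j ≤ i → Q (N ^ i • x) = Q (N ^ i • y) := fun x y e hj i hi => by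
    rcases hi.eq_or_lt with rfl | hi
    · exact e
    · rw [Qz i x (by omega), Qz i y (by omega)]
  rcases lt_trichotomy k (2 * j) with hj | hj | hj
  · exact ⟨x, y, h1, h3 x y (by rw [Qz j x hj, Qz j y hj]) hj.le⟩
  · by_cases hy : Q (N ^ j • y) = 0
    · refine ⟨x + (-Q (N ^ j • x) / polar Q (N ^ k • x) y) • y, y, ?_, h3 _ _ ?_ hj.le⟩
      · rwa [smul_add, hc, polar_add_left, polar_smul_left', alt, mul_zero, add_zero]
      · rw [smul_add, hc, Q_add, Q_smul, hy, polar_smul_right', D.polN_eq hN hk (by omega)]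
        field_simp
        ring
    · refine ⟨x, x + (-polar Q (N ^ k • x) y / Q (N ^ j • y)) • y, ?_, h3 _ _ ?_ hj.le⟩
      · rw [polar_add_right, alt, zero_add, polar_smul_right']
        exact mul_ne_zero (div_ne_zero (neg_ne_zero.2 h1) hy) h1
      · rw [smul_add, hc, Q_add, Q_smul, polar_smul_right', D.polN_eq hN hk (by omega)]
        field_simp
        ring
  · obtain ⟨r, hr⟩ : ∃ r, k = 2 * j + r + 1 := Nat.exists_eq_add_of_lt hj
    refine ⟨x, y + ((Q (N ^ j • x) - Q (N ^ j • y)) / polar Q (N ^ k • x) y) • N ^ (r + 1) • x, ?_,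
      fun i hi => ?_⟩
    · rwa [polar_add_right, polar_smul_right', D.polN_zero hN hk (by omega), mul_zero, add_zero]
    rw [smul_add, hc, smul_smul (N ^ i), ← pow_add, Q_add, Q_smul, Qz (i + _) x (by omega),
      polar_smul_right', polar_comm Q (N ^ i • y)]
    rcases hi.eq_or_lt with rfl | hi
    · rw [D.polN_eq hN hk (by omega)]
      field_simp
      ring
    · rw [D.polN_zero hN hk (by omega), h2 i hi]; ring

variable [FiniteDimensional F V] {g : O Q} (hg : ∀ v, g.1 v = (T : R) • v)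
include hg

theorem block_cyc {x : V} (hx : polar Q (N ^ k • x) x ≠ 0) : Block g := by
  have nd : ND (Q.restrict (LinearMap.range (sp2 F R x x))) := nd_restrict_iff.2 <| by
    rintro _ ⟨m, rfl⟩ h
    refine Eq.trans ?_ (D.free hN hk (x := x) (y := 0) (p := m.1 + m.2) (q := 0)
      (fun c d h1 _ => ?_) (fun r => ?_) (by simp)).1
    · exact (add_smul _ _ _).symm
    · simp_all
    · simpa [sp2, add_smul] using h _ ⟨(r, 0), rfl⟩
  obtain ⟨t, -, ht, -⟩ := D.exists_swap hg (fun _ => rfl) rfl nd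
  let e := (sp2 F R x x).rangeRestrict
  have h0 : e (N ^ k, 0) ≠ 0 := fun h => hx (by
    have : N ^ k • x + (0 : R) • _ = 0 := congrArg Subtype.val h
    rw [zero_smul, add_zero] at this
    rw [this, polar_zero_left])
  refine ⟨_, Submodule.nontrivial_iff_ne_bot.1 ⟨_, _, h0⟩, nd, _, good_of_neg nd ht ?_⟩
  set g' := res Q _ ⟨g, mem_stab_sp2 hg x x⟩
  have h1 : ∀ r : R, g'.1 (e (r, 0)) - e (r, 0) = e (N * r, 0) := fun r => Subtype.ext <| by
    change g.1 (r • x + (0 : R) • x) - (r • x + (0 : R) • x) = (N * r) • x + (0 : R) • x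
    rw [hg, ← D.N_smul hN]; module
  have h2 := O.finrank_comm_add_finrank_fix g'
  have h3 : 0 < finrank F (O.fix g') := finrank_pos_iff_exists_ne_zero.2
    ⟨⟨e (N ^ k, 0), O.mem_fix.2 (sub_eq_zero.1 ((h1 _).trans (Subtype.ext (by
      change (N * N ^ k) • x + (0 : R) • x = 0
      rw [← pow_succ', hk]; simp))))⟩, fun h => h0 (congrArg Subtype.val h)⟩
  have h4 : (F ∙ e (1, 0)) ⊔ O.comm g' = ⊤ := eq_top_iff.2 fun w _ => by
    obtain ⟨m, rfl⟩ := (sp2 F R x x).surjective_rangeRestrict w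
    obtain ⟨c, r, hr⟩ := D.aug hN (m.1 + m.2)
    refine Submodule.mem_sup.2 ⟨_, Submodule.mem_span_singleton.2 ⟨c, rfl⟩, _, O.sub_mem_comm _ _,
      (congrArg _ (h1 r)).trans (Subtype.ext ?_)⟩
    change c • ((1 : R) • x + (0 : R) • x) + ((N * r) • x + (0 : R) • x) = m.1 • x + m.2 • x
    rw [← add_smul m.1, hr, add_smul, algebraMap_smul]; simp
  have h5 := Submodule.finrank_add_le_finrank_add_finrank (F ∙ e (1, 0)) (O.comm g')
  have h6 := finrank_span_le_card (R := F) {e (1, 0)}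
  obtain ⟨n, hn⟩ := Symp.even_finrank (isAlt_polar D.two _) nd
  rw [h4, finrank_top] at h5
  rw [Set.toFinset_singleton, Finset.card_singleton] at h6
  exact Odd.neg_one_pow ⟨n - 1, by omega⟩

theorem block_bi (alt : ∀ a : V, polar Q (N ^ k • a) a = 0) {x y : V}
    (hxy : polar Q (N ^ k • x) y ≠ 0) : Block g := by
  obtain ⟨x, y, hxy, hQ⟩ := D.exists_pair hN hk alt hxy
  have fr := fun p q => D.free hN hk (x := x) (y := y) (p := p) (q := q) fun c d h1 h2 => by
    rw [alt, ← D.beta_comm hN hk x] at h1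
    rw [alt] at h2
    simp_all
  have nd : ND (Q.restrict (LinearMap.range (sp2 F R x y))) := nd_restrict_iff.2 <| by
    rintro _ ⟨m, rfl⟩ h
    obtain ⟨h1, h2⟩ := fr m.1 m.2 (fun r => by simpa [sp2] using h _ ⟨(r, 0), rfl⟩)
      fun r => by simpa [sp2] using h _ ⟨(0, r), rfl⟩
    simp [sp2, h1, h2]
  obtain ⟨t, h1, ht, h2⟩ := D.exists_swap hg (D.ell_congr hN hk hQ) (by simpa using hQ 0) nd
  let e := (sp2 F R x y).rangeRestrict
  have h0 : e (N ^ k, 0) ≠ 0 := fun h => hxy (by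
    have : N ^ k • x + (0 : R) • _ = 0 := congrArg Subtype.val h
    rw [zero_smul, add_zero] at this
    rw [this, polar_zero_left])
  let U := LinearMap.range (e ∘ₗ LinearMap.inl F R R)
  refine ⟨_, Submodule.nontrivial_iff_ne_bot.1 ⟨_, _, h0⟩, nd, _, t, ht,
    congrArg ((-1 : ℤˣ) ^ ·) (two_mul_rank D.two h1 U (eq_bot_iff.2 ?_) ?_)⟩
  · rintro _ ⟨h3, r, rfl⟩
    have h4 : σ 0 • x + σ r • y = r • x + (0 : R) • y :=
      congrArg Subtype.val ((h2 (r, 0)).symm.trans (O.mem_fix.1 h3))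
    have h5 : r • x + (-σ r) • y = 0 := by
      rw [map_zero] at h4
      linear_combination (norm := module) -h4
    have h6 := (fr r (-σ r) (fun _ => by rw [h5, polar_zero_left])
      fun _ => by rw [h5, polar_zero_left]).1
    exact Subtype.ext (show r • x + (0 : R) • y = 0 by rw [h6, zero_smul, add_zero])
  · have h4 : U ⊔ U.map t.1.toLinearMap = ⊤ := eq_top_iff.2 fun w _ => by
      obtain ⟨m, rfl⟩ := (sp2 F R x y).surjective_rangeRestrict w
      refine Submodule.mem_sup.2 ⟨_, ⟨m.1, rfl⟩, _, ⟨_, ⟨σ m.2, rfl⟩, h2 (σ m.2, 0)⟩, ?_⟩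
      change e (m.1, 0) + e _ = e m
      rw [← map_add, D.inv]; simp
    have h5 := Submodule.finrank_add_le_finrank_add_finrank U (U.map t.1.toLinearMap)
    have h6 := Submodule.finrank_map_le t.1.toLinearMap U
    rw [h4, finrank_top] at h5
    omega

end RD

end Cfsg.Lib.FS2
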