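import Cfsg.Agent.Lib.FS2.OSt

/-! The joint induction for symplectic and orthogonal groups of characteristic two. -/

namespace Cfsg.Lib.FS2

open Cfsg.Lib.Char Cfsg.Lib.Orth QuadraticMap

universe u

variable {F : Type u} [Field F] [Finite F] {V : Type u} [AddCommGroup V] [Module F V] [Finite V]
  {h : V → V → F} {c : F} {Q : V → F}

theorem QD.pos_stab (D : QD h c Q)
    (ih : ∀ W : Submodule F V, Nat.card W < Nat.card V → ∀ c' (Q' : W → F)
      (D' : QD (fun x y : W => h x y) c' Q'), PosS D'.Y ∧ ∀ a, PosS (D'.Y ⊓ fixS a))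
    {v : V} (hv : v ≠ 0) : PosS (D.Y ⊓ fixS v) := by
  obtain ⟨w, hw⟩ := D.H.exists_eq hv 1
  have P : Hyp (RingHom.id F) h v w :=
    ⟨D.H, D.alt v, D.alt w, fun x => by rw [D.H.comm, hw, one_smul]⟩
  have ih := ih P.W (P.card_lt hv)
  have S := QD.sp P.HW D.two (fun x => D.alt x)
  have e := S.Y_eq fun _ => rfl
  rcases D.cs with ⟨-, h0⟩ | rfl
  · rw [D.Y_eq h0]
    exact P.pos_sp D.two D.alt (fun a => e ▸ (ih _ _ S).2 a) fun Q' h1 h2 =>
      (ih 1 Q' ⟨P.HW, D.two, fun x => D.alt x, by simpa using h1, h2, .inr rfl⟩).1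
  by_cases Qv : Q v = 0
  · exact D.pos_sing P hv Qv (ih _ _ (D.sub P.HW)).2
  · obtain ⟨Q', rfl, rfl⟩ := D.exists_qf
    exact D.pos_ns P hv Qv (e ▸ (ih _ _ S).1)

/-- pairs of a permutation and its restriction -/
def resZ {V : Type*} (p : V → Prop) : Subgroup (PG V × PG (Subtype p)) where
  carrier := {g | ∀ a, (g.2.1 a : V) = g.1.1 a}
  one_mem' _ := rfl
  mul_mem' {a b} ha hb x := (ha (b.2.1 x)).trans (congrArg a.1.1 (hb x))
  inv_mem' {a} ha x := a.1.1.injective ((ha _).symm.trans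
    ((congrArg Subtype.val (app_inv a.2.1 x)).trans (app_inv a.1.1 x).symm))

theorem QD.pos_cen (D : QD h c Q) {x : PG V} (hx : x ∈ D.Y) (ho : Odd (orderOf x)) (h1 : x ≠ 1)
    (ih : ∀ W : Submodule F V, Nat.card W < Nat.card V →
      ∀ HW : Herm (RingHom.id F) (fun x y : W => h x y), PosS (D.sub HW).Y) :
    PosS (D.Y ⊓ cen (sn V) x) := by
  have hx1 : x.2 = 1 := sgn_of_odd (sn V) ho
  let X : V →ₗ[F] V := (D.H.toLE ⟨x, hx.1⟩).toLinearMap - LinearMap.id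
  have m₀ : ∀ a, a ∈ LinearMap.ker X ↔ x.1 a = a := fun a => sub_eq_zero
  have m₁ : ∀ a, a ∈ LinearMap.range X ↔ ∃ u, x.1 u - u = a := fun a => Iff.rfl
  have hd : ∀ y, x.1 y = y → y ∈ LinearMap.range X → y = 0 := by
    rintro y h2 ⟨u, hu : x.1 u - u = y⟩
    have h3 : ∀ n : ℕ, (x ^ n).1 u = u + n • y := fun n => by
      induction n with
      | zero => simp
      | succ n ih =>
        have h4 := D.H.map_smul hx.1 (n : F) y
        rw [sg_id, Nat.cast_smul_eq_nsmul, Nat.cast_smul_eq_nsmul, h2] at h4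
        rw [pow_succ', Prod.fst_mul, Equiv.Perm.mul_apply, ih, D.H.map_add hx.1, h4, succ_nsmul,
          ← hu]
        abel
    have h4 := h3 (orderOf x)
    obtain ⟨k, hk⟩ := ho
    rw [pow_orderOf_eq_one, hk, add_nsmul, mul_nsmul, two_nsmul, add_self_mod D.two] at h4
    simpa using h4
  have hc : IsCompl (LinearMap.ker X) (LinearMap.range X) :=
    (Submodule.isCompl_iff_disjoint _ _ (by rw [add_comm, X.finrank_range_add_finrank_ker])).2
      (Submodule.disjoint_def.2 fun y a b => hd y ((m₀ y).1 a) b)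
  have horth : ∀ a ∈ LinearMap.ker X, ∀ b ∈ LinearMap.range X, h a b = 0 := by
    rintro a ha _ ⟨u, rfl⟩
    change h a (x.1 u - u) = 0
    have := hx.1 a u
    rw [(m₀ a).1 ha, sg_id] at this
    rw [D.H.sub', this, sub_self]
  have hcen : ∀ g ∈ cen (sn V) x, ∀ u, g.1 (x.1 u) = (x ^ (g.2 : ℤ)).1 (g.1 u) := fun g hg u =>
    congrArg (fun p : PG V => p.1 u) (mul_inv_eq_iff_eq_mul.1 (mem_cen.1 hg))
  have hfix : ∀ a ∈ LinearMap.ker X, ∀ i : ℤ, (x ^ i).1 a = a := fun a ha i =>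
    (fixS a).zpow_mem ((m₀ a).1 ha) i
  have p₂ : ∀ g ∈ D.Y ⊓ cen (sn V) x, ∀ b ∈ LinearMap.range X, g.1 b ∈ LinearMap.range X := by
    rintro g hg _ ⟨u, rfl⟩
    change g.1 (x.1 u - u) ∈ _
    rw [D.H.map_sub hg.1.1, hcen g hg.2, m₁]
    rcases sgn_cases g.2 with e | e <;> rw [e]
    · exact ⟨g.1 u, by simp⟩
    · exact ⟨-x.1⁻¹ (g.1 u), by simp [D.H.map_neg hx.1, neg_add_eq_sub]⟩
  have H₂ := D.H.res₂ hc horth
  let x₁ := H₂.mk' (fun a => ⟨x.1 a, p₂ x ⟨hx, by simp [mem_cen, hx1]⟩ a a.2⟩) x.2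
    fun a b => hx.1 a b
  have z₁ : (x, x₁) ∈ resZ (· ∈ LinearMap.range X) := fun _ => rfl
  have ho₁ : Odd (orderOf x₁) := ho.of_dvd_nat (orderOf_dvd_of_pow_eq_one
    (Prod.ext (Equiv.ext fun a => Subtype.ext (((resZ _).pow_mem z₁ _ a).trans (by
      rw [Prod.pow_fst, pow_orderOf_eq_one]; rfl))) (by
      change (x ^ orderOf x).2 = 1
      rw [pow_orderOf_eq_one]; rfl)))
  obtain ⟨R', _, _, _, σ', h', H', a1, a2, a3, -, t, b1, b2⟩ := H₂.exists_adjoin D.two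
    (fun r hr => mul_self_eq_zero.1 hr) (H₂.mk'_mem _ _ _) ho₁
  obtain ⟨u, hu⟩ : ∃ u, x.1 u ≠ u := by
    by_contra hn
    push Not at hn
    exact h1 (Prod.ext (Equiv.ext hn) hx1)
  refine D.H.pos_orth hc horth (S₁ := (D.sub (D.H.res₁ hc horth)).Y) (S₂ := H₂.UG ⊓ cen (sn _) x₁)
    (inf_le_left.trans inf_le_left) inf_le_left inf_le_left (fun g hg a ha => ?_) p₂
    (fun g hg g₁ k1 _ k2 => ⟨k1, fun a => (congrArg Q (k2 a)).trans (hg.1.2 a)⟩)
    (fun g hg g₂ k1 k2 k3 => ⟨k1, ?_⟩) (fun g hg g₁ k1 g₂ k2 k3 k4 k5 k6 => ?_)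
    (ih _ (Finite.card_subtype_lt (x := u) fun a => hu ((m₀ u).1 a)) (D.H.res₁ hc horth))
    (posS_congr a3 (UD.pos ⟨H', a1, a2, b1, fun y hy => Subtype.ext
      (hd y (congrArg Subtype.val ((b2 y).symm.trans hy)) y.2)⟩))
  · have := hcen _ ((cen _ x).inv_mem hg.2) (g.1 a)
    rw [Prod.fst_inv, inv_app, hfix a ha, Equiv.Perm.inv_eq_iff_eq] at this
    exact (m₀ _).2 this
  · have z₂ : (g, g₂) ∈ resZ (· ∈ LinearMap.range X) := k3
    refine Prod.ext (Equiv.ext fun a => Subtype.ext ?_) ?_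
    · refine ((resZ _).mul_mem ((resZ _).mul_mem z₂ z₁) ((resZ _).inv_mem z₂) a).trans ?_
      refine Eq.trans ?_ ((resZ _).zpow_mem z₁ g₂.2 a).symm
      rw [k2]
      exact congrArg (fun p : PG V => p.1 a) (mem_cen.1 hg.2)
    · simp [x₁, hx1]
  · have k7 : g ∈ cen (sn V) x := by
      refine mul_inv_eq_iff_eq_mul.2 (Prod.ext (Equiv.ext fun y => ?_) (by simp [hx1]))
      obtain ⟨a, ha, b, hb, rfl⟩ := Submodule.mem_sup.1 (hc.sup_eq_top ▸ Submodule.mem_top (x := y))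
      rw [D.H.map_add (D.H.UG.mul_mem hg hx.1),
        D.H.map_add (D.H.UG.mul_mem (D.H.UG.zpow_mem hx.1 _) hg)]
      congr 1
      · change g.1 (x.1 a) = (x ^ _).1 (g.1 a)
        rw [(m₀ a).1 ha, ← k5 ⟨a, ha⟩, hfix _ (g₁.1 _).2]
      · have z₂ : (g, g₂) ∈ resZ (· ∈ LinearMap.range X) := k6
        refine ((resZ _).mul_mem z₂ z₁ ⟨b, hb⟩).symm.trans (Eq.trans ?_
          ((resZ _).mul_mem ((resZ _).zpow_mem z₁ g.2) z₂ ⟨b, hb⟩))
        rw [← k4]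
        exact congrArg (fun p : PG (LinearMap.range X) => (p.1 ⟨b, hb⟩ : V))
          (mul_inv_eq_iff_eq_mul.1 (mem_cen.1 k2.2))
    refine ⟨⟨hg, fun y => ?_⟩, k7⟩
    obtain ⟨a, ha, _, ⟨u, rfl⟩, rfl⟩ :=
      Submodule.mem_sup.1 (hc.sup_eq_top ▸ Submodule.mem_top (x := y))
    change Q (g.1 (a + (x.1 u - u))) = Q (a + (x.1 u - u))
    have k8 : Q (g₁.1 ⟨a, ha⟩) = Q a := k1.2 ⟨a, ha⟩
    have k9 := (D.Y.zpow_mem hx g.2).2 (g.1 u)
    rw [k5] at k8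
    rw [← hcen g k7] at k9
    rw [D.H.map_add hg, D.add, D.add, hg, k8, D.H.map_sub hg, D.Q_sub, D.Q_sub, hg, k9, hx.2,
      sg_id, sg_id]
    linear_combination (Q (g.1 u) - Q u) * D.two

theorem posQ_aux (n : ℕ) : ∀ (V : Type u) [AddCommGroup V] [Module F V] [Finite V] (h : V → V → F)
    (c : F) (Q : V → F) (D : QD h c Q), Nat.card V = n → PosS D.Y ∧ ∀ v, PosS (D.Y ⊓ fixS v) := by
  induction n using Nat.strong_induction_on with
  | _ n ih =>
  intro V _ _ _ h c Q D hn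
  subst hn
  have h0 : D.Y ≤ fixS 0 := inf_le_left.trans D.H.le_fixS_zero
  have st := fun v hv => D.pos_stab (v := v) (fun W hW c' Q' D' => ih _ hW W _ c' Q' D' rfl) hv
  have key : PosS D.Y := by
    rcases subsingleton_or_nontrivial V with hV | hV
    · exact posS_of_subsingleton _
    refine twb_sub _ fun x hx P hP ho h2 _ hc => ?_
    by_cases h1 : x = 1
    · obtain ⟨v, hv, hv'⟩ := exists_fixed_ne P h2 (two_dvd_card (add_self_mod D.two)) (hP.trans h0)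
      exact ⟨_, inf_le_left, h1 ▸ one_mem _, le_inf hP hv', st v hv⟩
    · exact ⟨_, inf_le_left, ⟨hx, by simp [mem_cen, sgn_of_odd (sn V) ho]⟩, le_inf hP hc,
        D.pos_cen hx ho h1 fun W hW HW => (ih _ hW W _ _ _ (D.sub HW) rfl).1⟩
  refine ⟨key, fun v => ?_⟩
  by_cases hv : v = 0
  · exact posS_congr (hv ▸ (inf_eq_left.2 h0).symm) key
  · exact st v hv

theorem pos_O {Q : QuadraticForm F V} (hQ : ND Q) (two : (2 : F) = 0) :
    Pos (MonoidHom.snd (O Q) ℤˣ) :=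
  have D := QD.of_qf hQ two
  (posQ_aux _ V _ _ _ D rfl).1.of_surj (D.toO.prod ((sn V).comp D.Y.subtype)) (fun _ => rfl)
    fun p => ⟨D.ofO p.1 p.2, Prod.ext (D.toO_ofO _ _) rfl⟩

theorem pos_Sp {Q : QuadraticForm F V} (hQ : ND Q) (two : (2 : F) = 0) :
    Pos (MonoidHom.snd (Symp.isom (polarBilin Q)) ℤˣ) :=
  have D := QD.of_qf hQ two
  have S := QD.sp D.H two D.alt
  have : Finite (V ≃ₗ[F] V) := DFunLike.finite _
  (posS_congr (S.Y_eq fun _ => rfl) (posQ_aux _ V _ _ _ S rfl).1).of_surj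
    ((D.H.toLE.codRestrict (Symp.isom (polarBilin Q)) fun g x y => (g.2 x y).trans (sg_id _ _)).prod
      ((sn V).comp D.H.UG.subtype)) (fun _ => rfl)
    fun p => ⟨⟨(p.1.1.toEquiv, p.2), fun x y => (p.1.2 x y).trans (sg_id _ _).symm⟩,
      Prod.ext (Subtype.ext (LinearEquiv.ext fun _ => rfl)) rfl⟩

end Cfsg.Lib.FS2
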