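import Cfsg.Agent.Lib.FS2.Unit
import Cfsg.Agent.Lib.Orth.CharTwo
import Cfsg.Agent.Lib.Orth.Sum

/-! Vector stabilisers in symplectic and orthogonal groups of characteristic two. -/

namespace Cfsg.Lib.FS2

open Cfsg.Lib.Char Cfsg.Lib.Orth QuadraticMap

variable {F : Type*} [Field F] {V : Type*} [AddCommGroup V] [Module F V] {h : V → V → F}

@[simp] theorem sg_id (ε : ℤˣ) (r : F) : sg (RingHom.id F) ε r = r := sg_of_fix rfl ε

theorem Herm.comm (H : Herm (RingHom.id F) h) (x y : V) : h x y = h y x := H.symm x y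

theorem Herm.exists_eq (H : Herm (RingHom.id F) h) {a : V} (ha : a ≠ 0) (c : F) :
    ∃ b, h b a = c := by
  obtain ⟨b, hb⟩ : ∃ b, h a b ≠ 0 := by
    by_contra hn
    push Not at hn
    exact ha (H.nd a hn)
  exact ⟨(c / h a b) • b, by rw [H.smul, H.comm b, div_mul_cancel₀ _ hb]⟩

theorem Herm.exists_psi [Finite F] (H : Herm (RingHom.id F) h) : ∃ ψ : Multiplicative F →* ℂˣ,
    ∀ a, (∀ b, ψ (.ofAdd (h b a)) = 1) → a = 0 := by
  obtain ⟨ψ, hψ⟩ := CommGroup.exists_apply_ne_one_of_hasEnoughRootsOfUnity (Multiplicative F) ℂ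
    (a := .ofAdd 1) (one_ne_zero (α := F))
  refine ⟨ψ, fun a ha => by_contra fun h0 => ?_⟩
  obtain ⟨b, hb⟩ := H.exists_eq h0 1
  exact hψ (hb ▸ ha b)

theorem exists_mul_self [Finite F] (h2 : (2 : F) = 0) (c : F) : ∃ r : F, r * r = c :=
  Finite.surjective_of_injective (f := fun r : F => r * r)
    (fun a b e => sq_inj_of_two h2 (by rw [pow_two, pow_two]; exact e)) c

/-- the linear map underlying an isometry -/
def Herm.toLE (H : Herm (RingHom.id F) h) : H.UG →* V ≃ₗ[F] V := MonoidHom.mk'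
  (fun g => { g.1.1 with
    map_add' := H.map_add g.2
    map_smul' := fun r x => by simpa using H.map_smul g.2 r x }) fun _ _ => rfl

namespace Hyp

variable {v w : V} (P : Hyp (RingHom.id F) h v w)
include P

theorem vw_one (hv : v ≠ 0) : h v w = 1 := by
  exact smul_left_injective F hv ((P.vw v).trans (one_smul F v).symm)

theorem g_Tf {g : PG V} (hg : g ∈ P.St) (a : V) (c : F) (x : V) :
    g.1 (Tf h v a c x) = Tf h v (g.1 a) c (g.1 x) := by
  simp [Tf, P.H.map_add hg.1, P.H.map_sub hg.1, P.H.map_smul hg.1, mem_fixS.1 hg.2, P.h_gv hg,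
    hg.1 x a]

theorem pos_sp [Finite F] [Finite V] (two : (2 : F) = 0) (alt : ∀ x, h x x = 0)
    (ih0 : ∀ a, PosS (P.HW.UG ⊓ fixS a))
    (ih1 : ∀ Q : P.W → F, (∀ a b, Q (a + b) = Q a + Q b + h a b) →
      (∀ (r : F) a, Q (r • a) = r * r * Q a) → PosS (P.HW.UG ⊓ presQ Q)) : PosS P.St := by
  intro φ hφ
  have S : P.Sub P.St P.HW.UG := ⟨le_rfl, le_rfl, P.pi_mem, P.jj_mem⟩
  have hT : ∀ (a : P.W) (c : F), c + RingHom.id F c + h a a = 0 := fun a c => by
    rw [alt, RingHom.id_apply]; linear_combination c * two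
  let k : P.W → F → S.π.ker := fun a c => ⟨P.T a c (hT a c), Subtype.ext (P.pi_T _ _ _)⟩
  by_cases hz : ∀ n, S.π n = 1 → P.aa n = 0 → φ n = φ 1
  · obtain ⟨ψ, hψ⟩ := P.HW.exists_psi
    exact S.eps_ne (add_self_mod two) (fun a => ⟨k a 0, (k a 0).2, P.aa_T _ _ (hT a 0)⟩) ψ
      (fun _ => rfl) hψ ih0 hφ hz
  push Not at hz
  obtain ⟨z, hz1, hz2, hz3⟩ := hz
  have ext : ∀ {n n' : S.π.ker}, (∀ x, n.1.1.1 x = n'.1.1.1 x) → n = n' := fun {n n'} e =>
    Subtype.ext (Subtype.ext (Prod.ext (Equiv.ext e)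
      ((P.ker_snd (S.ker n.2)).trans (P.ker_snd (S.ker n'.2)).symm)))
  have ksurj : ∀ n : S.π.ker, n = k (P.aa n.1) (h (n.1.1.1 w) w) := fun n =>
    ext fun x => P.ker_eq (S.ker n.2) x
  have kmul : ∀ a c a' c', k a c * k a' c' = k (a + a') (c + c' + h a a') := fun a c a' c' =>
    ext fun x => by
      change Tf h v a c (Tf h v a' c' x) = Tf h v (a + a') _ x
      rw [Tf, P.Tf_v, P.Tf_a]
      simp only [Tf, P.H.add', P.H.comm a']
      linear_combination (norm := module) -add_self_mod two ((h x v * h a a') • v)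
  have kone : k 0 0 = 1 := ext fun x => by simp [k, T_fst, Tf, P.H.zero']
  have kconj : ∀ (l : P.HW.UG) a c, (⟨S.j l * k a c * (S.j l)⁻¹,
      (MonoidHom.normal_ker S.π).conj_mem _ (k a c).2 _⟩ : S.π.ker) = k (l.1.1 a) c :=
    fun l a c => ext fun x => by
      change (P.jj l).1 (Tf h v a c ((P.jj l).1⁻¹ x)) = Tf h v (l.1.1 a) c x
      rw [P.g_Tf (P.jj_mem l), app_inv, P.jj_coe]
  have : IsMulCommutative S.π.ker := ⟨⟨fun n n' => by
    rw [ksurj n, ksurj n', kmul, kmul, add_comm (P.aa _), add_comm (h _ w), P.H.comm (P.aa _)]⟩⟩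
  have := Fintype.ofFinite S.π.ker
  have hle : S.π.ker ≤ ((sn V).comp P.St.subtype).ker := fun n hn => P.ker_snd (S.ker hn)
  have hφN : IsCharacter S.π.ker (fun n : S.π.ker => φ n) :=
    Induce.isCharacter_res_le hle hφ.irr.isCharacter
  obtain ⟨ρ, hρ, hρ1, hρ2⟩ : ∃ ρ, IsIrrCharacter S.π.ker ρ ∧
      classInner (fun n : S.π.ker => φ n) ρ ≠ 0 ∧ ρ ⟨z, hz1⟩ ≠ ρ 1 := by
    by_contra hn
    push Not at hn
    exact hz3 (hφN.apply_eq_of_forall_constituent (g := ⟨z, hz1⟩) hn)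
  obtain ⟨ν, rfl⟩ := hρ.exists_hom_of_comm
  have k0 : ∀ c c', ν (k 0 (c + c')) = ν (k 0 c) * ν (k 0 c') := fun c c' => by
    rw [← map_mul, kmul]; simp [P.H.zero]
  let β : F → Multiplicative F →* ℂˣ := fun q => MonoidHom.mk'
    (fun r => ν (k 0 (r.toAdd * r.toAdd * q))) fun r s => by
      rw [← k0, toAdd_mul]
      congr 2
      linear_combination (r.toAdd * s.toAdd * q) * two
  have hu : ∀ q q', (∀ r, ν (k 0 (r * r * q)) = ν (k 0 (r * r * q'))) → q = q' := fun q q' e => by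
    by_contra hne
    obtain ⟨r, hr⟩ := exists_mul_self two (h (z.1.1 w) w / (q - q'))
    have h1 := k0 (h (z.1.1 w) w) (r * r * q')
    rw [← e r, hr, show h (z.1.1 w) w + h (z.1.1 w) w / (q - q') * q' =
      h (z.1.1 w) w / (q - q') * q by field_simp [sub_ne_zero.2 hne]; ring, right_eq_mul] at h1
    have h2 := ksurj ⟨z, hz1⟩
    rw [hz2] at h2
    exact hρ2 (congrArg Units.val (((congrArg ν h2).trans h1).trans (map_one ν).symm))
  have hQ : ∀ a : P.W, ∃ q, ∀ r : F, ν (k 0 (r * r * q)) = ν (k (r • a) 0) := fun a => by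
    obtain ⟨q, hq⟩ := exists_dual β (fun q q' e => hu q q' fun r => DFunLike.congr_fun e (.ofAdd r))
      (MonoidHom.mk' (fun r => ν (k (r.toAdd • a) 0)) fun r s => by
        rw [← map_mul, kmul, toAdd_mul, add_smul]
        simp [P.H.smul, P.H.smul', alt])
    exact ⟨q, fun r => DFunLike.congr_fun hq (.ofAdd r)⟩
  choose Q hQ using hQ
  refine eps_ne_of_lin (sL := (sn _).comp P.HW.UG.subtype) S.π S.j S.πj (fun _ => rfl) hφ ν
    (fun n => ?_) hρ1 ((P.HW.UG ⊓ presQ Q).subgroupOf _) (fun l => ?_)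
    (posS_subgroupOf inf_le_left (ih1 Q (fun a b => hu _ _ fun r => ?_) fun s a => hu _ _ fun r => ?_))
  · rw [← map_mul, ksurj n, kmul, add_self_mod two, alt, add_zero, add_self_of_two two, kone,
      map_one]
  · simp only [Subgroup.mem_subgroupOf, Subgroup.mem_inf, l.2, true_and, mem_presQ]
    refine ⟨fun e n => ?_, fun e a => hu _ _ fun r => ?_⟩
    · have h1 : ∀ a c, ν (k a c) = ν (k 0 (Q a)) * ν (k 0 c) := fun a c => by
        have := hQ a 1
        rw [one_mul, one_mul, one_smul] at this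
        rw [this, ← map_mul, kmul]; simp [P.H.zero']
      have h2 : ∀ a c, _ := fun a c => (congrArg ν (kconj l a c)).trans
        ((h1 _ _).trans ((congrArg (fun q => ν (k 0 q) * _) (e a)).trans (h1 a c).symm))
      rw [ksurj n]
      exact h2 _ _
    · have h1 := P.HW.map_smul l.2 r a
      rw [sg_id] at h1
      rw [hQ, hQ, ← h1, ← kconj]
      exact e _
  · rw [mul_add, mul_add, k0, k0, hQ, hQ, hQ, ← map_mul, ← map_mul, kmul, kmul, smul_add]
    congr 2
    · simp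
    · simp only [Submodule.coe_smul, P.H.smul, P.H.smul', Submodule.coe_zero, P.H.zero',
        RingHom.id_apply]
      linear_combination -(r * r * h a b) * two
  · rw [hQ, smul_smul, ← hQ]
    congr 2
    ring

end Hyp

end Cfsg.Lib.FS2
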