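import Cfsg.Agent.Lib.FS2.Par
import Cfsg.Agent.Lib.Char.Brauer

/-! The twisted Witt-Berman theorem modulo two. -/

namespace Cfsg.Lib.FS2

open Cfsg.Lib.Char Cfsg.Lib.Induce Cfsg.Lib.Clifford
open scoped ComplexConjugate

universe u

section
variable {Y H : Type*} [Group Y] [Group H] {s : Y →* ℤˣ} {sH : H →* ℤˣ} {φ ψ : Y → ℂ}

/-- the twisted centraliser -/
def cen (s : Y →* ℤˣ) (x : Y) : Subgroup Y where
  carrier := {g | g * x * g⁻¹ = x ^ (s g : ℤ)}
  one_mem' := by simp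
  mul_mem' {a b} ha hb := by
    change a * b * x * (a * b)⁻¹ = _
    have : a * b * x * (a * b)⁻¹ = a * (b * x * b⁻¹) * a⁻¹ := by group
    rw [this, hb, ← conj_zpow, ha, ← zpow_mul, map_mul, Units.val_mul]
  inv_mem' {a} ha := by
    change a⁻¹ * x * a⁻¹⁻¹ = _
    have h1 : x = (a * x * a⁻¹) ^ (s a : ℤ) := by
      rw [ha, ← zpow_mul, ← Units.val_mul, Int.units_mul_self, Units.val_one, zpow_one]
    rw [sgn_inv]
    conv_lhs => rw [h1, conj_zpow]
    group

theorem mem_cen {x g : Y} : g ∈ cen s x ↔ g * x * g⁻¹ = x ^ (s g : ℤ) := Iff.rfl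

theorem res_eq_of_inner_one [Finite Y] (N : Subgroup Y) [N.Normal] [Fintype N] (hle : N ≤ s.ker)
    (h : Irr0 s φ) (hc : classInner (fun n : N => φ n) (fun _ => 1) ≠ 0) {n : Y} (hn : n ∈ N) :
    φ n = φ 1 := by
  have h1 := res_eq_smul_of_le_inertia N hle h.irr isIrrCharacter_one hc fun _ _ => rfl
  exact (congrFun h1 ⟨n, hn⟩).trans (congrFun h1 1).symm

theorem hom_eq_one_of_tin [Finite Y] (C P : Subgroup Y) [hC : C.Normal] (hP : IsPGroup 2 P)
    (hcop : Nat.Coprime (Nat.card C) 2) (lam : C →* ℂˣ)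
    (hinv : ∀ g ∈ P, g ∈ tin s C (fun c => lam c))
    (hker : ∀ c : C, P ≤ cen s c → lam c = 1) (c : C) : lam c = 1 := by
  have hl : ∀ g ∈ P, ∀ d : C, lam (MulAut.conjNormal g d ^ (s g : ℤ)) = lam d := fun g hg d => by
    have h1 : (lam (MulAut.conjNormal g d) : ℂ) = cj (s g) (lam d) := hinv g hg d
    rcases sgn_cases (s g) with h | h <;> rw [h] at h1 ⊢
    · simpa [cj_one, Units.ext_iff] using h1
    · rw [cj_neg, conj_hom_apply, ← Units.ext_iff] at h1
      simp [h1]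
  let _ : MulAction P {d : C // lam d = lam c} :=
    { smul := fun g d => ⟨MulAut.conjNormal (g : Y) d.1 ^ (s g : ℤ), (hl g g.2 d.1).trans d.2⟩
      one_smul := fun d => Subtype.ext (by
        change MulAut.conjNormal ((1 : P) : Y) d.1 ^ (s ((1 : P) : Y) : ℤ) = d.1
        simp)
      mul_smul := fun g h d => Subtype.ext (by
        change MulAut.conjNormal ((g * h : P) : Y) d.1 ^ (s ((g * h : P) : Y) : ℤ) =
          MulAut.conjNormal (g : Y) (MulAut.conjNormal (h : Y) d.1 ^ (s h : ℤ)) ^ (s g : ℤ)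
        simp [← zpow_mul, mul_comm]) }
  have hcard : Nat.card {d : C // lam d = lam c} = Nat.card lam.ker := by
    refine Nat.card_congr ⟨fun d => ⟨c⁻¹ * d.1, by simp [d.2]⟩,
      fun k => ⟨c * k.1, by simp [(MonoidHom.mem_ker).1 k.2]⟩, fun d => by simp, fun k => by simp⟩
  have hnd : ¬ 2 ∣ Nat.card {d : C // lam d = lam c} := by
    rw [hcard]
    exact fun h => (Nat.prime_two.coprime_iff_not_dvd.1 hcop.symm)
      (h.trans (Subgroup.card_subgroup_dvd_card _))
  obtain ⟨d, hd⟩ := hP.nonempty_fixed_point_of_prime_not_dvd_card _ hnd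
  rw [← d.2]
  refine hker _ fun g hg => ?_
  have : (g * (d.1 : Y) * g⁻¹) ^ (s g : ℤ) = d.1 :=
    congrArg (fun x : {d : C // lam d = lam c} => (x.1 : Y)) (hd ⟨g, hg⟩)
  rw [mem_cen]
  conv_rhs => rw [← this, ← zpow_mul, ← Units.val_mul, Int.units_mul_self, Units.val_one, zpow_one]

/-- some twisted-real irreducible character has odd multiplicity -/
def OddIn (s : Y →* ℤˣ) (χ : Y → ℂ) : Prop := ∃ κ, Irr0 s κ ∧ TR s κ ∧ OddC (ip s χ κ)

theorem not_oddIn_of_pos [Finite Y] [Finite H] (h : Irr0 s φ) (he : eps s φ = -1) (f : H →* Y)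
    (hH : Out (s.comp f)) {K : Subgroup Y} (hK : ∀ x, f x ∈ K) (hp : Pos (s.comp K.subtype)) :
    ¬ OddIn (s.comp f) (fun x => φ (f x)) := by
  rintro ⟨κ, h1, h2, h3⟩
  have ho : Out (s.comp K.subtype) := hH.of_comp (f.codRestrict K hK) fun _ => rfl
  obtain ⟨κ', a, b, c, -⟩ := exists_tr_odd (h.gch.comp (sH := s.comp K.subtype) K.subtype
    fun _ => rfl) ((h.tr he).comp K.subtype fun _ => rfl) (f.codRestrict K hK) (fun _ => rfl) hH
    h1.gch h2 h3
  have := eps_eq_of_odd h (h.tr he) a b K.subtype (fun _ => rfl) ho c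
  rw [he, hp.eps_eq a ho b] at this
  norm_num at this

theorem ip_one_one [Finite Y] : ip s (fun _ => 1) (fun _ => 1) = 1 := irr0_one.ip_self

end

theorem not_oddIn_of_qe {Y : Type u} [Group Y] [Finite Y] {s : Y →* ℤˣ}
    (hE : ∀ (x : Y) (P : Subgroup Y), Odd (orderOf x) → IsPGroup 2 P → (∃ g ∈ P, s g = -1) →
      P ≤ cen s x → ∃ K : Subgroup Y, x ∈ K ∧ P ≤ K ∧ Pos (s.comp K.subtype))
    {φ : Y → ℂ} (h : Irr0 s φ) (he : eps s φ = -1) (H : Type u) [Group H] [Finite H] :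
    ∀ f : H →* Y, IsQuasiElementary 2 H → Out (s.comp f) →
      ¬ OddIn (s.comp f) (fun x => φ (f x)) := by
  classical
  refine Cfsg.Lib.Core.induction_on_card (P := fun H _ _ => ∀ f : H →* Y,
    IsQuasiElementary 2 H → Out (s.comp f) → ¬ OddIn (s.comp f) (fun x => φ (f x))) H ?_
  intro H _ _ ih f hG hout
  have := Fintype.ofFinite H
  rintro ⟨κ, hκ, hκt, hκo⟩
  set sH := s.comp f
  obtain ⟨C, hC, hcyc, hcop, k, hk⟩ := id hG
  obtain ⟨P⟩ : Nonempty (Sylow 2 H) := inferInstance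
  have hCP := sup_sylow_eq_top_of_index C hk P
  have hCcomm : ∀ a ∈ C, ∀ b ∈ C, Commute a b := fun a ha b hb =>
    congrArg Subtype.val (mul_comm' (⟨a, ha⟩ : C) ⟨b, hb⟩)
  have hodd : ∀ c ∈ C, Odd (orderOf c) := fun c hc =>
    Nat.coprime_two_right.1 (hcop.coprime_dvd_left (Subgroup.orderOf_dvd_natCard C hc))
  have hCk : C ≤ sH.ker := fun c hc => sgn_of_odd sH (hodd c hc)
  let Z : Subgroup H :=
    { carrier := {c | c ∈ C ∧ ∀ g, g ∈ cen sH c}
      one_mem' := ⟨C.one_mem, fun g => by simp [mem_cen]⟩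
      mul_mem' := fun {a b} ha hb => ⟨C.mul_mem ha.1 hb.1, fun g => by
        rw [mem_cen, (hCcomm a ha.1 b hb.1).mul_zpow, ← ha.2 g, ← hb.2 g]; group⟩
      inv_mem' := fun {a} ha => ⟨C.inv_mem ha.1, fun g => by
        rw [mem_cen, inv_zpow, ← ha.2 g]; group⟩ }
  have hZC : Z ≤ C := fun _ h => h.1
  have : Z.Normal := ⟨fun z hz g => by rw [hz.2 g]; exact Z.zpow_mem hz _⟩
  obtain ⟨g₀, hg₀, hg₁⟩ : ∃ g ∈ (P : Subgroup H), sH g = -1 := by
    by_contra hn
    obtain ⟨y, hy⟩ := hout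
    have : (⊤ : Subgroup H) ≤ sH.ker := by
      rw [← hCP]
      exact sup_le hCk fun g hg => sgn_ne_iff.1 fun h' => hn ⟨g, hg, h'⟩
    exact neg_one_ne (hy.symm.trans (this (Subgroup.mem_top y)))
  set E := Z ⊔ (P : Subgroup H) with hEdef
  have hEo : Out (sH.comp E.subtype) := ⟨⟨g₀, Subgroup.mem_sup_right hg₀⟩, hg₁⟩
  have hEn : ¬ OddIn (sH.comp E.subtype) (fun x => φ (f x)) := by
    obtain ⟨z, hz⟩ := (Subgroup.isCyclic_iff_exists_zpowers_eq_top Z).1
      (Subgroup.isCyclic_of_le hZC)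
    have hzZ : z ∈ Z := hz ▸ Subgroup.mem_zpowers z
    obtain ⟨K, h1, h2, h3⟩ := hE (f z) ((P : Subgroup H).map f)
      ((hodd z hzZ.1).of_dvd_nat (orderOf_map_dvd f z)) (P.isPGroup'.map f)
      ⟨f g₀, ⟨g₀, hg₀, rfl⟩, hg₁⟩ (by
        rintro _ ⟨g, -, rfl⟩
        have := congrArg f (hzZ.2 g)
        rw [map_mul, map_mul, map_inv, map_zpow] at this
        exact this)
    refine not_oddIn_of_pos h he (f.comp E.subtype) hEo (fun x => ?_) h3
    have : E ≤ K.comap f := sup_le (by rw [← hz, Subgroup.zpowers_le]; exact h1)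
      (Subgroup.map_le_iff_le_comap.1 h2)
    exact this x.2
  have hφ : GCh0 sH (fun x => φ (f x)) := h.gch.comp f fun _ => rfl
  have hφt : TR sH (fun x => φ (f x)) := (h.tr he).comp f fun _ => rfl
  set θ : H → ℂ := fun x => φ (f x) * conj (κ x) with hθdef
  have hθ : GCh0 sH θ := hφ.mul hκ.gch.conj
  have hθt : TR sH θ := hφt.mul hκt.conj
  rw [ip_eq_one_right] at hκo
  obtain ⟨m, hm, hm'⟩ := hκo
  obtain ⟨n, hn⟩ := (hθ.comp (sH := sH.comp E.subtype) E.subtype fun _ => rfl).exists_ip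
    irr0_one.gch
  have hne : Even n := by
    by_contra hno
    refine hEn (exists_tr_odd' (η := fun x => κ x) (hφ.comp E.subtype fun _ => rfl)
      (hφt.comp E.subtype fun _ => rfl) hEo (hκ.gch.comp E.subtype fun _ => rfl)
      (hκt.comp E.subtype fun _ => rfl) ⟨n, Int.not_even_iff_odd.1 hno, ?_⟩)
    rw [ip_eq_one_right]; exact hn
  obtain ⟨ξ, hξ, hξt, ho1, ho2⟩ := exists_tr_odd (hθ.sub (gch0_int m)) (hθt.sub (tr_int m))
    E.subtype (sH := sH.comp E.subtype) (fun _ => rfl) hEo irr0_one.gch tr_one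
    ⟨n - m, hne.sub_odd hm, by rw [ip_sub_left, ip_const_left, ip_one_one, hn]; simp⟩
  have hξ1 : ip sH (fun _ => 1) ξ = 0 := by
    rw [ip_eq]
    refine isIrrCharacter_one.inner_eq_zero_of_ne hξ.irr fun e => ho1.ne_zero ?_
    rw [ip_congr (fun _ _ => rfl) (ψ' := fun _ => 1) (fun g hg => (congrFun e ⟨g, hg⟩).symm),
      ip_sub_left, ip_const_left, ip_one_one, hm']; simp
  rw [ip_sub_left, ip_const_left, hξ1, mul_zero, sub_zero] at ho1
  have hξC : IsCharacter C (fun c : C => ξ c) := isCharacter_res_le hCk hξ.irr.isCharacter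
  obtain ⟨ν, hν, hν'⟩ := hξC.isClassFunction.exists_irr_inner_ne_zero
    fun h0 => hξ.irr.apply_one_ne_zero (congrFun h0 1)
  obtain ⟨lam, rfl⟩ := hν.exists_hom_of_comm
  have hcl := exists_clifford C hCk hξ hξt hout hν hν'
  set T := tin sH C (fun c => (lam c : ℂ))
  obtain ⟨hTo, η, hη, hηt, -, hip⟩ := hcl
  by_cases hT : T = ⊤
  · have hZ : ∀ z ∈ Z, ξ z = ξ 1 := fun z hz => by
      refine res_eq_of_inner_one Z (hZC.trans hCk) hξ ?_ hz
      let i : Z →* (sH.comp E.subtype).ker :=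
        (Subgroup.inclusion (le_sup_left : Z ≤ E)).codRestrict _ fun z => hCk (hZC z.2)
      refine inner_comp_ne_zero_of_constituent i (χ := r0 _ fun x : E => ξ x)
        (hξ.irr.isCharacter.comp (kerMap E.subtype fun _ => rfl)) isIrrCharacter_one ?_
        isCharacter_one (by rw [classInner_one_one]; exact one_ne_zero)
      have := ho2.ne_zero
      rwa [ip_eq] at this
    have hl : ∀ c, lam c = 1 := hom_eq_one_of_tin (s := sH) C P P.isPGroup' hcop lam
      (fun g _ => by change g ∈ T; rw [hT]; trivial) fun c hc => by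
        have h1 : (c : H) ∈ Z := ⟨c.2, fun g => by
          have : (⊤ : Subgroup H) ≤ cen sH c := by
            rw [← hCP]
            refine sup_le (fun a ha => ?_) hc
            rw [mem_cen, show sH a = 1 from hCk ha, (hCcomm a ha c c.2).eq]; simp
          exact this (Subgroup.mem_top g)⟩
        have := hξC.apply_eq_of_constituent hν hν' (g := c) (hZ _ h1)
        exact Units.ext (by simpa using this)
    simp only [hl, Units.val_one] at hν'
    let q := QuotientGroup.mk' C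
    let s' : H ⧸ C →* ℤˣ := QuotientGroup.lift C sH hCk
    obtain ⟨ψ, -, hψ⟩ := hξ.exists_comp (s := s') q (fun _ => rfl) (QuotientGroup.mk'_surjective C)
      fun x hx => res_eq_of_inner_one C hCk hξ hν' ((QuotientGroup.eq_one_iff x).1 hx)
    have hsurj : Function.Surjective (q.comp E.subtype) := fun y => by
      obtain ⟨x, rfl⟩ := QuotientGroup.mk'_surjective C y
      have hx : x ∈ C ⊔ (P : Subgroup H) := hCP ▸ Subgroup.mem_top x
      obtain ⟨c, hc, p, hp, rfl⟩ := Subgroup.mem_sup_of_normal_left.1 hx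
      refine ⟨⟨p, Subgroup.mem_sup_right hp⟩, ?_⟩
      rw [map_mul, show QuotientGroup.mk' C c = 1 from (QuotientGroup.eq_one_iff c).2 hc, one_mul]
      rfl
    refine ho2.ne_zero ?_
    have h1 := ip_comp_surj (s := s') (sH := sH.comp E.subtype) ψ (fun _ => 1) _ (fun _ => rfl) hsurj
    have h2 := ip_comp_surj (s := s') (sH := sH) ψ (fun _ => 1) q (fun _ => rfl)
      (QuotientGroup.mk'_surjective C)
    refine (ip_congr (s := sH.comp E.subtype) (fun g hg => hψ _ hg) (fun _ _ => rfl)).trans ?_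
    refine h1.trans (h2.symm.trans ?_)
    rw [← ip_congr hψ (fun _ _ => rfl), ip_eq, classInner_eq_zero_comm, ← hξ1, ip_eq]
  · refine ih T (Cfsg.Lib.Core.card_lt_of_ne_top hT) (f.comp T.subtype)
      (hG.of_injective Nat.prime_two T.subtype T.subtype_injective) hTo ?_
    refine exists_tr_odd' (η := fun x => κ x * η x) (hφ.comp T.subtype fun _ => rfl)
      (hφt.comp T.subtype fun _ => rfl) hTo ((hκ.gch.comp T.subtype fun _ => rfl).mul hη.gch)
      ((hκt.comp T.subtype fun _ => rfl).mul hηt) ?_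
    rw [← ip_mul_conj]
    rw [← hip θ hθ] at ho1
    exact ho1

/-- twisted Witt-Berman -/
theorem twb {Y : Type u} [Group Y] [Finite Y] {s : Y →* ℤˣ}
    (hE : ∀ (x : Y) (P : Subgroup Y), Odd (orderOf x) → IsPGroup 2 P → (∃ g ∈ P, s g = -1) →
      P ≤ cen s x → ∃ K : Subgroup Y, x ∈ K ∧ P ≤ K ∧ Pos (s.comp K.subtype)) : Pos s := by
  classical
  intro φ h he
  have := Fintype.ofFinite Y
  let θ : Y → ℂ := fun g => if s g = 1 then φ g * conj (φ g) else 0
  have hθ : IsClassFunction Y θ := fun g k => by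
    simp only [θ, sgn_conj]
    split_ifs with hg
    · rcases sgn_cases (s k) with hk | hk
      · rw [h.gch.conj_apply hk hg]
      · rw [h.tr he k g hk hg, Complex.conj_conj, mul_comm]
    · rfl
  have key : ∀ (H : Type u) [Group H] [Fintype H] (f : H →* Y),
      (Nat.card H : ℂ) * classInner (fun _ => 1) (fun x => θ (f x)) =
        Nat.card (s.comp f).ker * ip (s.comp f) (fun x => φ (f x)) (fun x => φ (f x)) := by
    intro H _ _ f
    rw [card_mul_classInner, ip_def, mul_inv_cancel_left₀ (card_ne_zero_complex _)]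
    refine Finset.sum_congr rfl fun x _ => ?_
    simp only [θ, MonoidHom.comp_apply]
    split_ifs <;> simp [mul_comm]
  let R : AddSubgroup (Y → ℂ) :=
    { carrier := {F | ∃ n : ℤ, classInner F θ = n}
      zero_mem' := ⟨0, by simp⟩
      add_mem' := fun ⟨a, ha⟩ ⟨b, hb⟩ => ⟨a + b, by rw [classInner_add_left, ha, hb]; simp⟩
      neg_mem' := fun ⟨a, ha⟩ => ⟨-a, by rw [classInner_neg_left, ha]; simp⟩ }
  obtain ⟨m, hm, hmem⟩ := exists_const_mem_permSpan (G := Y) Nat.prime_two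
  have hR : permSpan {H : Subgroup Y | IsQuasiElementary 2 H} ≤ R := by
    refine permSpan_le fun H hH => ?_
    have h1 := key H H.subtype
    have hφ := h.gch.comp (sH := s.comp H.subtype) H.subtype fun _ => rfl
    obtain ⟨n, hn⟩ := hφ.exists_ip hφ
    change ∃ n : ℤ, _ = _
    rw [frobenius_reciprocity H _ hθ]
    rw [hn] at h1
    by_cases ho : Out (s.comp H.subtype)
    · have h2 : Even n := by
        by_contra hno
        have ht := (h.tr he).comp (sH := s.comp H.subtype) H.subtype fun _ => rfl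
        exact not_oddIn_of_qe hE h he H H.subtype hH ho
          (exists_tr_odd' hφ ht ho hφ ht ⟨n, Int.not_even_iff_odd.1 hno, hn⟩)
      obtain ⟨k, rfl⟩ := h2
      rw [card_eq_two_mul ho] at h1
      refine ⟨k, mul_left_cancel₀ (mul_ne_zero two_ne_zero
        (card_ne_zero_complex (s.comp H.subtype).ker)) (h1.trans ?_)⟩
      push_cast; ring
    · have h2 : (s.comp H.subtype).ker = ⊤ :=
        eq_top_iff.2 fun y _ => sgn_ne_iff.1 fun hy => ho ⟨y, hy⟩
      rw [h2, Subgroup.card_top] at h1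
      exact ⟨n, mul_left_cancel₀ (card_ne_zero_complex H) h1⟩
  obtain ⟨n, hn⟩ := hR hmem
  have h1 : (Nat.card Y : ℂ) * classInner (fun _ => 1) θ = Nat.card s.ker * ip s φ φ :=
    key Y (MonoidHom.id Y)
  have h2 : classInner (fun _ => (m : ℂ)) θ = m * classInner (fun _ => 1) θ := by
    rw [← classInner_smul_left]; congr 1; funext _; simp
  rw [h.ip_self, card_eq_two_mul (out_of_eps he)] at h1
  have h3 : (Nat.card s.ker : ℂ) * (m - 2 * n) = 0 := by
    linear_combination -(m : ℂ) * h1 + 2 * (Nat.card s.ker : ℂ) * (hn.symm.trans h2).symm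
  have h4 := (mul_eq_zero.1 h3).resolve_left (card_ne_zero_complex _)
  exact hm ⟨n, by exact_mod_cast sub_eq_zero.1 h4⟩

/-- twisted Witt-Berman for a subgroup -/
theorem twb_sub {X : Type u} [Group X] [Finite X] {s : X →* ℤˣ} (Y : Subgroup X)
    (hE : ∀ x ∈ Y, ∀ P ≤ Y, Odd (orderOf x) → IsPGroup 2 P → (∃ g ∈ P, s g = -1) →
      P ≤ cen s x → ∃ K ≤ Y, x ∈ K ∧ P ≤ K ∧ Pos (s.comp K.subtype)) :
    Pos (s.comp Y.subtype) := by
  refine twb fun x P h1 h2 ⟨g, hg, hg'⟩ h4 => ?_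
  obtain ⟨K, k1, k2, k3, k4⟩ := hE x x.2 (P.map Y.subtype) (Subgroup.map_subtype_le P)
    (by rwa [Subgroup.orderOf_coe]) (h2.map _) ⟨g, ⟨g, hg, rfl⟩, hg'⟩ (by
      rintro _ ⟨a, ha, rfl⟩
      exact congrArg Subtype.val (h4 ha))
  exact ⟨K.subgroupOf Y, k2, Subgroup.map_le_iff_le_comap.1 k3, posS_subgroupOf k1 k4⟩

end Cfsg.Lib.FS2
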