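import Cfsg.Agent.Lib.FS2.Basic
import Cfsg.Agent.Lib.CharDeg.Quatern

/-! Fibre products of pairs, the values of the twisted indicator and the parity lemma. -/

namespace Cfsg.Lib.FS2

open Cfsg.Lib.Char Cfsg.Lib.Induce Cfsg.Lib.Clifford
open scoped ComplexConjugate

section FP
variable {Y₁ Y₂ : Type*} [Group Y₁] [Group Y₂] (s₁ : Y₁ →* ℤˣ) (s₂ : Y₂ →* ℤˣ)

/-- the fibre product of two pairs -/
def FP : Subgroup (Y₁ × Y₂) := (s₁.comp (MonoidHom.fst _ _)).eqLocus (s₂.comp (MonoidHom.snd _ _))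

def fp1 : FP s₁ s₂ →* Y₁ := (MonoidHom.fst _ _).comp (FP s₁ s₂).subtype
def fp2 : FP s₁ s₂ →* Y₂ := (MonoidHom.snd _ _).comp (FP s₁ s₂).subtype
def sFP : FP s₁ s₂ →* ℤˣ := s₁.comp (fp1 s₁ s₂)

variable {s₁ s₂}

theorem mem_FP {p : Y₁ × Y₂} : p ∈ FP s₁ s₂ ↔ s₁ p.1 = s₂ p.2 := Iff.rfl

theorem sFP_1 (p : FP s₁ s₂) : s₁ p.1.1 = sFP s₁ s₂ p := rfl
theorem sFP_2 (p : FP s₁ s₂) : s₂ p.1.2 = sFP s₁ s₂ p := (mem_FP.1 p.2).symm

variable (s₁ s₂) in
def fpKer : s₁.ker × s₂.ker ≃* (sFP s₁ s₂).ker where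
  toFun p := ⟨⟨(p.1, p.2), p.1.2.trans p.2.2.symm⟩, p.1.2⟩
  invFun q := (⟨q.1.1.1, q.2⟩, ⟨q.1.1.2, (sFP_2 q.1).trans q.2⟩)
  left_inv _ := rfl
  right_inv _ := rfl
  map_mul' _ _ := rfl

/-- product of two functions on the fibre product -/
def fpMul (φ₁ : Y₁ → ℂ) (φ₂ : Y₂ → ℂ) : FP s₁ s₂ → ℂ := fun p => φ₁ p.1.1 * φ₂ p.1.2

variable [Finite Y₁] [Finite Y₂] {φ₁ : Y₁ → ℂ} {φ₂ : Y₂ → ℂ}

theorem Irr0.fp (h₁ : Irr0 s₁ φ₁) (h₂ : Irr0 s₂ φ₂) : Irr0 (sFP s₁ s₂) (fpMul φ₁ φ₂) :=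
  (isIrrCharacter_comp_equiv_iff (fpKer s₁ s₂)).1 (h₁.irr.prod h₂.irr)

omit [Finite Y₁] [Finite Y₂] in
theorem TR.fp (h₁ : TR s₁ φ₁) (h₂ : TR s₂ φ₂) : TR (sFP s₁ s₂) (fpMul φ₁ φ₂) :=
  (h₁.comp (fp1 s₁ s₂) sFP_1).mul (h₂.comp (fp2 s₁ s₂) sFP_2)

theorem Irr0.exists_fp {φ : FP s₁ s₂ → ℂ} (h : Irr0 (sFP s₁ s₂) φ) :
    ∃ φ₁ φ₂, Irr0 s₁ φ₁ ∧ Irr0 s₂ φ₂ ∧ ∀ p, sFP s₁ s₂ p = 1 → φ p = fpMul φ₁ φ₂ p := by
  obtain ⟨a, b, ha, hb, e⟩ := (h.irr.comp_equiv (fpKer s₁ s₂)).exists_eq_prod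
  obtain ⟨φ₁, rfl⟩ := exists_r0 s₁ a
  obtain ⟨φ₂, rfl⟩ := exists_r0 s₂ b
  exact ⟨φ₁, φ₂, ha, hb, fun p hp => congrFun e ((fpKer s₁ s₂).symm ⟨p, hp⟩)⟩

omit [Finite Y₁] [Finite Y₂] in
theorem sum_fp [Fintype Y₁] [Fintype Y₂] [Fintype (FP s₁ s₂)] (a : ℤˣ) (F₁ : Y₁ → ℂ)
    (F₂ : Y₂ → ℂ) : (∑ p : FP s₁ s₂, if sFP s₁ s₂ p = a then F₁ p.1.1 * F₂ p.1.2 else 0) =
      (∑ x, if s₁ x = a then F₁ x else 0) * ∑ y, if s₂ y = a then F₂ y else 0 := by
  classical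
  rw [Finset.sum_mul_sum, ← Finset.sum_product', Finset.univ_product_univ]
  have := Finset.sum_subtype (p := (· ∈ FP s₁ s₂)) (F := ‹_›) (Finset.univ.filter (· ∈ FP s₁ s₂))
    (by simp) (fun p : Y₁ × Y₂ => if s₁ p.1 = a then F₁ p.1 * F₂ p.2 else 0)
  refine Eq.trans this.symm ?_
  rw [Finset.sum_filter]
  refine Finset.sum_congr rfl fun p _ => ?_
  simp only [mem_FP]
  by_cases h1 : s₁ p.1 = a <;> by_cases h2 : s₂ p.2 = a <;> simp [h1, h2, eq_comm (a := a)]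

theorem eps_fp (φ₁ : Y₁ → ℂ) (φ₂ : Y₂ → ℂ) :
    eps (sFP s₁ s₂) (fpMul φ₁ φ₂) = eps s₁ φ₁ * eps s₂ φ₂ := by
  have := Fintype.ofFinite Y₁
  have := Fintype.ofFinite Y₂
  have := Fintype.ofFinite (FP s₁ s₂)
  rw [eps_def, eps_def, eps_def, ← Nat.card_congr (fpKer s₁ s₂).toEquiv, Nat.card_prod]
  have h := sum_fp (s₁ := s₁) (s₂ := s₂) (-1) (fun x => φ₁ (x * x)) (fun x => φ₂ (x * x))
  erw [h]
  push_cast; ring

end FP

variable {Y H : Type*} [Group Y] [Group H] {s : Y →* ℤˣ} {sH : H →* ℤˣ} {φ ψ : Y → ℂ}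

theorem ind0 [Fintype Y] (hψ : GCh0 s ψ) {y : Y} (hy : s y = -1) (g : Y) :
    indFun s.ker (r0 s ψ) g = if s g = 1 then ψ g + ψ (y * g * y⁻¹) else 0 := by
  classical
  split_ifs with hg
  · have h := indFun_normal_apply s.ker (r0 s ψ) ⟨g, hg⟩
    simp only [r0] at h
    rw [h, sum_split (s := s), sum_out hy (fun x => ψ (x * g * x⁻¹)),
      ← sum_ker (fun x => ψ (x * g * x⁻¹))]
    have h1 : ∀ k : s.ker, ψ (k * g * (k : Y)⁻¹) = ψ g := fun k => hψ.conj_apply k.2 hg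
    have h2 : ∀ k : s.ker, ψ (k * y * g * ((k : Y) * y)⁻¹) = ψ (y * g * y⁻¹) := fun k => by
      rw [← hψ.conj_apply k.2 (g := y * g * y⁻¹) (by rw [sgn_conj, hg])]
      congr 1; group
    simp only [h1, h2, Finset.sum_const, Finset.card_univ, ← Nat.card_eq_fintype_card, nsmul_eq_mul]
    have := card_ne_zero_complex s.ker
    field_simp
  · exact indFun_normal_of_not_mem s.ker _ hg

/-- the ordinary indicator of the restriction to the kernel -/
noncomputable def nu0 (s : Y →* ℤˣ) (φ : Y → ℂ) : ℂ :=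
  (Nat.card s.ker : ℂ)⁻¹ * ∑ᶠ y, if s y = 1 then φ (y * y) else 0

theorem nu_ind0 [Fintype Y] (hψ : GCh0 s ψ) (hs : Out s) :
    (Nat.card Y : ℂ)⁻¹ * ∑ g, indFun s.ker (r0 s ψ) (g * g) = nu0 s ψ + eps s ψ := by
  obtain ⟨y, hy⟩ := id hs
  simp only [ind0 hψ hy, sgn_mul_self, if_true, Finset.sum_add_distrib]
  have h1 : ∑ g, ψ (y * (g * g) * y⁻¹) = ∑ g, ψ (g * g) := by
    rw [← Equiv.sum_comp (MulAut.conj y).toEquiv (fun g => ψ (g * g))]
    refine Finset.sum_congr rfl fun g _ => ?_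
    congr 1; simp
  rw [h1, sum_split (s := s) (fun g => ψ (g * g)), nu0, finsum_eq_sum_of_fintype, eps_def,
    card_eq_two_mul hs]
  have := card_ne_zero_complex s.ker
  field_simp
  ring

/-! The dihedral group of order six. -/

abbrev D3 := DihedralGroup 3

def sD : D3 →* ℤˣ where
  toFun
    | .r _ => 1
    | .sr _ => -1
  map_one' := rfl
  map_mul' a b := by cases a <;> cases b <;> rfl

noncomputable def muD : D3 → ℂ
  | .r i => ZMod.stdAddChar i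
  | .sr _ => 0

def sigD : ℤˣ →* D3 where
  toFun a := if a = 1 then 1 else .sr 0
  map_one' := rfl
  map_mul' a b := by rcases sgn_cases a with rfl | rfl <;> rcases sgn_cases b with rfl | rfl <;> decide

theorem sD_sigD (a : ℤˣ) : sD (sigD a) = a := by rcases sgn_cases a with rfl | rfl <;> rfl

theorem muD_one : muD 1 = 1 := AddChar.map_zero_eq_one _

theorem irr0_muD : Irr0 sD muD := by
  refine isIrrCharacter_of_map_mul muD_one ?_
  rintro ⟨a, ha⟩ ⟨b, hb⟩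
  cases a with
  | sr _ => exact absurd ha neg_one_ne
  | r i => cases b with
    | sr _ => exact absurd hb neg_one_ne
    | r j => exact AddChar.map_add_eq_mul _ i j

theorem tr_muD : TR sD muD := by
  intro y g hy hg
  cases y with
  | r _ => exact absurd hy neg_one_ne.symm
  | sr i => cases g with
    | sr _ => exact absurd hg neg_one_ne
    | r j => simp [muD, AddChar.map_neg_eq_conj]

theorem muD_ne : conj (muD (.r 1)) ≠ muD (.r 1) := by
  simp only [muD, ← AddChar.map_neg_eq_conj]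
  intro h
  exact absurd (ZMod.injective_stdAddChar h) (by decide)

theorem card_ker_sD : (Nat.card sD.ker : ℂ) = 3 := by
  have := card_eq_two_mul (s := sD) ⟨.sr 0, rfl⟩
  rw [DihedralGroup.nat_card] at this
  push_cast at this
  linear_combination (-1 / 2 : ℂ) * this

theorem sum_D3 (f : D3 → ℂ) : ∑ x, f x = ∑ i, f (.r i) + ∑ i, f (.sr i) := by
  rw [← Equiv.sum_comp DihedralGroup.equivSum.symm, Fintype.sum_sum_type]; rfl

theorem eps_muD : eps sD muD = 1 := by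
  rw [eps_def, card_ker_sD, sum_D3]
  have h1 : ∀ i, sD (.r i) = 1 := fun _ => rfl
  have h2 : ∀ i, sD (.sr i) = -1 := fun _ => rfl
  simp [h1, h2, neg_one_ne.symm, muD_one]

theorem sum_muD_sq : (∑ x, if sD x = 1 then muD (x * x) else 0) = 0 := by
  rw [sum_D3]
  have h1 : ∀ i, sD (.r i) = 1 := fun _ => rfl
  have h2 : ∀ i, sD (.sr i) = -1 := fun _ => rfl
  simp only [h1, h2, neg_one_ne, if_true, if_false, DihedralGroup.r_mul_r, muD,
    Finset.sum_const_zero, add_zero]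
  have : ∑ i : ZMod 3, ZMod.stdAddChar (i + i) = ∑ i : ZMod 3, ZMod.stdAddChar i :=
    Fintype.sum_equiv (Equiv.neg _) _ _ (fun i => by congr 1; revert i; decide)
  rw [this]
  refine AddChar.sum_eq_zero_of_ne_one fun h => muD_ne ?_
  simp [muD, h]

section Trick
variable [Fintype Y] [Fintype (FP sD s)]

/-- the ordinary character attached to a character of the kernel -/
noncomputable def trick (s : Y →* ℤˣ) [Fintype (FP sD s)] (φ : Y → ℂ) : FP sD s → ℂ :=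
  indFun (sFP sD s).ker (r0 _ (fpMul muD φ))

omit [Fintype Y] [Fintype (FP sD s)] in
theorem out_trick (hs : Out s) : Out (sFP sD s) :=
  let ⟨y, hy⟩ := hs; ⟨⟨(.sr 0, y), hy.symm⟩, rfl⟩

theorem trick_apply (h : Irr0 s φ) {y : Y} (hy : s y = -1) (p : FP sD s) :
    trick s φ p = if sFP sD s p = 1 then
      muD p.1.1 * φ p.1.2 + conj (muD p.1.1) * φ (y * p.1.2 * y⁻¹) else 0 := by
  rw [trick, ind0 (irr0_muD.fp h).gch (y := ⟨(.sr 0, y), hy.symm⟩) rfl]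
  split_ifs with hp
  · rw [← tr_muD (.sr 0) p.1.1 rfl hp]; rfl
  · rfl

theorem irr_trick (h : Irr0 s φ) : IsIrrCharacter _ (trick s φ) := by
  classical
  refine isIrrCharacter_indFun_of_inertia_le _ (irr0_muD.fp h).irr fun p hp => ?_
  by_contra hn
  have h1 : sFP sD s p = -1 := sgn_ne_iff'.1 hn
  have h2 := (mem_inertia_iff _).1 hp ⟨⟨(.r 1, 1), (map_one s).symm⟩, rfl⟩
  change muD (p.1.1 * .r 1 * p.1.1⁻¹) * φ (p.1.2 * 1 * p.1.2⁻¹) = muD (.r 1) * φ 1 at h2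
  rw [tr_muD p.1.1 _ h1 rfl, mul_one, mul_inv_cancel] at h2
  exact muD_ne (mul_right_cancel₀ h.irr.apply_one_ne_zero h2)

theorem nu_trick (h : Irr0 s φ) (hs : Out s) :
    (Nat.card (FP sD s) : ℂ)⁻¹ * ∑ p, trick s φ (p * p) = eps s φ := by
  rw [trick, nu_ind0 (irr0_muD.fp h).gch (out_trick hs), eps_fp, eps_muD, one_mul, nu0,
    finsum_eq_sum_of_fintype]
  have := sum_fp (s₁ := sD) (s₂ := s) 1 (fun x => muD (x * x)) (fun x => φ (x * x))
  erw [this]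
  rw [sum_muD_sq]; simp

theorem real_trick_iff (h : Irr0 s φ) (hs : Out s) : (∀ p, (trick s φ p).im = 0) ↔ TR s φ := by
  constructor
  · intro hr y g hy hg
    have key : ∀ c, sD c = 1 → conj (muD c * φ g + conj (muD c) * φ (y * g * y⁻¹)) =
        muD c * φ g + conj (muD c) * φ (y * g * y⁻¹) := fun c hc => by
      have h1 := Complex.conj_eq_iff_im.2 (hr ⟨(c, g), mem_FP.2 (hc.trans hg.symm)⟩)
      rwa [trick_apply h hy, if_pos (show sFP sD s ⟨(c, g), _⟩ = 1 from hc)] at h1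
    have h1 := key 1 (map_one _)
    have h2 := key (.r 1) rfl
    simp only [muD_one, map_one, one_mul, map_add, map_mul, Complex.conj_conj] at h1 h2
    have h3 : (conj (muD (.r 1)) - muD (.r 1)) * (φ (y * g * y⁻¹) - conj (φ g)) = 0 := by
      linear_combination muD (.r 1) * h1 - h2
    exact sub_eq_zero.1 ((mul_eq_zero.1 h3).resolve_left (sub_ne_zero.2 muD_ne))
  · intro hr p
    obtain ⟨y, hy⟩ := hs
    rw [trick_apply h hy]
    split_ifs with hp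
    · rw [hr y _ hy ((sFP_2 p).trans hp), ← map_mul, Complex.add_conj]; simp
    · rfl

end Trick

theorem Irr0.eps_cases [Finite Y] (h : Irr0 s φ) (hs : Out s) :
    (¬ TR s φ ∧ eps s φ = 0) ∨ (TR s φ ∧ (eps s φ = 1 ∨ eps s φ = -1)) := by
  have := Fintype.ofFinite Y
  have := Fintype.ofFinite (FP sD s)
  have h1 := (irr_trick h).frobeniusSchur
  rw [nu_trick h hs, real_trick_iff h hs] at h1
  refine h1.imp_left fun h2 => ⟨fun h3 => ?_, h2.2⟩
  obtain ⟨p, hp⟩ := h2.1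
  exact hp ((real_trick_iff h hs).2 h3 p)

theorem Irr0.eps_mem [Finite Y] (h : Irr0 s φ) : eps s φ = 0 ∨ eps s φ = 1 ∨ eps s φ = -1 := by
  by_cases hs : Out s
  · exact (h.eps_cases hs).imp And.right And.right
  · exact Or.inl (eps_eq_zero hs)

theorem Irr0.tr [Finite Y] (h : Irr0 s φ) (he : eps s φ = -1) : TR s φ := by
  rcases h.eps_cases (out_of_eps he) with h1 | h1
  · rw [he] at h1; norm_num at h1
  · exact h1.1

theorem Irr0.eps_of_tr [Finite Y] (h : Irr0 s φ) (hs : Out s) (ht : TR s φ) :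
    eps s φ = 1 ∨ eps s φ = -1 :=
  ((h.eps_cases hs).resolve_left fun h1 => h1.1 ht).2

theorem Pos.eps_eq [Finite Y] (hp : Pos s) (h : Irr0 s φ) (hs : Out s) (ht : TR s φ) :
    eps s φ = 1 := (h.eps_of_tr hs ht).resolve_right (hp φ h)

theorem Pos.fp {Y₁ Y₂ : Type*} [Group Y₁] [Group Y₂] [Finite Y₁] [Finite Y₂] {s₁ : Y₁ →* ℤˣ}
    {s₂ : Y₂ →* ℤˣ} (h₁ : Pos s₁) (h₂ : Pos s₂) : Pos (sFP s₁ s₂) := fun φ hφ => by
  obtain ⟨φ₁, φ₂, a, b, e⟩ := hφ.exists_fp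
  rw [eps_congr e, eps_fp]
  rcases a.eps_mem with h | h | h
  · simp [h]
  · rw [h, one_mul]; exact h₂ _ b
  · exact absurd h (h₁ _ a)

theorem not_odd_one [Finite Y] [Finite H] (h : Irr0 s φ) (he : eps s φ = -1) (f : H →* Y)
    (hf : ∀ h, s (f h) = sH h) (hH : Out sH) :
    ¬ OddC (ip sH (fun x => φ (f x)) (fun _ => 1)) := by
  have := Fintype.ofFinite Y
  have := Fintype.ofFinite H
  have := Fintype.ofFinite (FP sD s)
  obtain ⟨y, hy⟩ := out_of_eps he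
  let F : H →* FP sD s := ((sigD.comp sH).prod f).codRestrict _ fun x =>
    (sD_sigD _).trans (hf x).symm
  obtain ⟨n, hn, e⟩ := CharDeg.even_inner_one_of_fs F (irr_trick h)
    (by rw [nu_trick h ⟨y, hy⟩, he])
  obtain ⟨m, hm⟩ := (h.gch.comp f hf).exists_ip (irr0_one (s := sH)).gch
  refine not_oddC_of_even (n := n) (by exact_mod_cast hn) ?_
  have h1 : ∀ x, trick s φ (F x) = (if sH x = 1 then φ (f x) * conj (1 : ℂ) else 0) +
      conj (if sH x = 1 then φ (f x) * conj (1 : ℂ) else 0) := fun x => by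
    have h2 : sFP sD s (F x) = sH x := sD_sigD _
    rw [trick_apply h hy, h2]
    split_ifs with hx
    · have h3 : (F x).1.1 = 1 := by
        change sigD (sH x) = 1
        rw [hx, map_one]
      have h4 : (F x).1.2 = f x := rfl
      rw [h3, h4, h.tr he y _ hy ((hf x).trans hx)]; simp [muD_one]
    · simp
  have h5 := hm
  rw [ip_def] at h5
  have h0 := card_ne_zero_complex sH.ker
  have h6 := (inv_mul_eq_iff_eq_mul₀ h0).1 h5
  rw [classInner_one_right] at e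
  simp only [h1, Finset.sum_add_distrib, ← map_sum, h6, card_eq_two_mul hH, map_mul, map_natCast,
    map_intCast] at e
  rw [hm, Int.cast_natCast, ← e]
  field_simp
  ring

/-- parity lemma: an odd multiplicity between twisted-real characters preserves the indicator -/
theorem eps_eq_of_odd [Finite Y] [Finite H] (h : Irr0 s φ) (ht : TR s φ) {ψ : H → ℂ}
    (h' : Irr0 sH ψ) (ht' : TR sH ψ) (f : H →* Y) (hf : ∀ h, s (f h) = sH h) (hH : Out sH)
    (ho : OddC (ip sH (fun x => φ (f x)) ψ)) : eps s φ = eps sH ψ := by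
  by_contra hne
  let F : H →* FP s sH := (f.prod (MonoidHom.id H)).codRestrict _ hf
  refine not_odd_one (h.fp h'.conj) ?_ F hf hH (by rwa [ip_eq_one_right] at ho)
  rw [eps_fp, eps_conj]
  rcases h.eps_of_tr (hH.of_comp f hf) ht with a | a <;> rcases h'.eps_of_tr hH ht' with b | b <;>
    simp_all

theorem eps_eq_of_irr [Finite Y] [Finite H] (h : Irr0 s φ) (ht : TR s φ) (f : H →* Y)
    (hf : ∀ h, s (f h) = sH h) (hH : Out sH) (h' : Irr0 sH (fun x => φ (f x))) :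
    eps s φ = eps sH (fun x => φ (f x)) :=
  eps_eq_of_odd h ht h' (ht.comp f hf) f hf hH (by rw [h'.ip_self]; exact oddC_one)

end Cfsg.Lib.FS2
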