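import Cfsg.Agent.Lib.FS2.Hyp

/-! The unitary family. -/

namespace Cfsg.Lib.FS2

open Cfsg.Lib.Char

universe u

section
variable {R : Type*} [CommRing R] {σ : R →+* R} {V : Type*} [AddCommGroup V] [Module R V]
  {h : V → V → R} {t : R}

theorem exists_pow_succ [Finite R] (red : ∀ r : R, r * r = 0 → r = 0) (r : R) :
    ∃ b, r ^ (b + 2) = r := by
  have : IsReduced R := (isReduced_iff_pow_one_lt 2 one_lt_two).2 fun x hx => red x (pow_two x ▸ hx)
  have key : ∀ m n : ℕ, m < n → r ^ (m + 1) = r ^ (n + 1) → ∃ b, r ^ (b + 2) = r := by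
    intro m n hmn e
    obtain ⟨b, rfl⟩ := Nat.exists_eq_add_of_lt hmn
    refine ⟨b, sub_eq_zero.1 (IsNilpotent.eq_zero ⟨m + 1, ?_⟩)⟩
    rw [show r ^ (b + 2) - r = r * (r ^ (b + 1) - 1) by ring, mul_pow, pow_succ' (_ - _)]
    linear_combination (-(r ^ (b + 1) - 1) ^ m) * e
  obtain ⟨m, n, hne, e⟩ := Finite.exists_ne_map_eq_of_infinite (fun n : ℕ => r ^ (n + 1))
  rcases lt_or_gt_of_ne hne with h | h
  · exact key m n h e
  · exact key n m h e.symm

theorem Herm.act_sig (H : Herm σ h) {r : R} (hr : ∀ x : V, r • x = x) (x : V) : σ r • x = x :=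
  H.ext fun z => by rw [H.smul, ← H.smul', hr]

theorem add_self_mod (h2 : (2 : R) = 0) (x : V) : x + x = 0 := by
  rw [← two_smul R, h2, zero_smul]

variable (σ h t) in
/-- data of unitary type -/
structure UD : Prop where
  H : Herm σ h
  two : (2 : R) = 0
  red : ∀ r : R, r * r = 0 → r = 0
  tt : t * σ t = 1
  fpf : ∀ x : V, t • x = x → x = 0

variable (σ V) in
/-- every symmetric scalar acts as zero or invertibly -/
def Indec : Prop := ∀ r, σ r = r → (∀ x : V, r • x = 0) ∨ ∃ r', σ r' = r' ∧ ∀ x : V, (r' * r) • x = x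

theorem Indec.sub (hI : Indec σ V) (W : Submodule R V) : Indec σ W := fun r hr =>
  (hI r hr).imp (fun h x => Subtype.ext (h x)) fun ⟨r', h1, h2⟩ =>
    ⟨r', h1, fun x => Subtype.ext (h2 x)⟩

theorem UD.sub (D : UD σ h t) {W : Submodule R V} (HW : Herm σ (fun x y : W => h x y)) :
    UD σ (fun x y : W => h x y) t :=
  ⟨HW, D.two, D.red, D.tt, fun x hx => Subtype.ext (D.fpf x (congrArg Subtype.val hx))⟩

theorem UD.exists_tr [Finite R] (D : UD σ h t) : ∃ r : R, ∀ x : V, (r + σ r) • x = x := by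
  obtain ⟨b, hb⟩ := exists_pow_succ D.red (1 + t)
  have h1 : ∀ x : V, ((1 + t) ^ b * (1 + t)) • x = x := fun x => by
    refine sub_eq_zero.1 (D.fpf _ ?_)
    have := add_self_mod D.two (((1 + t) ^ b * (1 + t)) • x - x)
    linear_combination (norm := module) hb • x - this
  refine ⟨(1 + t) ^ b, fun x => ?_⟩
  have h2 := D.H.act_sig h1 ((t * (1 + t) ^ b) • x)
  have h3 := congrArg (σ ((1 + t) ^ b) • ·) (h1 x)
  rw [map_mul, map_add, map_one] at h2
  linear_combination (norm := module) h1 x - h3 + h2 - (σ ((1 + t) ^ b) * (1 + t) ^ b * D.tt) • x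

theorem UD.exists_smul [Finite R] (D : UD σ h t) (hI : Indec σ V) {a b : V} (hab : h b a ≠ 0)
    {c : R} (hc : σ c = c) : ∃ r : R, ∀ x : V, (h (r • b) a + σ (h (r • b) a)) • x = c • x := by
  obtain ⟨r₀, hr₀⟩ := D.exists_tr
  obtain ⟨r, hr⟩ : ∃ r, r * h b a + σ (r * h b a) ≠ 0 := by
    by_contra hn
    push Not at hn
    have h1 := hn 1
    have h2 := hn r₀
    have h3 := D.H.smul (r₀ + σ r₀) b a
    rw [hr₀] at h3
    rw [one_mul] at h1
    rw [map_mul] at h2
    exact hab (by linear_combination h3 + h2 - σ r₀ * h1 + σ r₀ * h b a * D.two)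
  rcases hI (r * h b a + σ (r * h b a)) (by rw [map_add, D.H.inv, add_comm]) with h0 | ⟨r', h1, h2⟩
  · refine absurd (D.red _ ?_) hr
    have h3 := D.H.smul (r * h b a + σ (r * h b a)) b a
    have h4 := D.H.smul (r * h b a + σ (r * h b a)) a b
    rw [h0, D.H.zero] at h3 h4
    conv_lhs => rhs; rw [map_mul, D.H.symm]
    linear_combination -r * h3 - σ r * h4
  · refine ⟨c * r' * r, fun x => ?_⟩
    rw [D.H.smul]
    simp only [map_mul, hc, h1]
    have := h2 x
    rw [map_mul] at this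
    linear_combination (norm := module) c • this

theorem UD.exists_hyp [Finite R] (D : UD σ h t) (hI : Indec σ V) {v : V} (hv : v ≠ 0)
    (hvv : h v v = 0) {y : PG V} (hy : y ∈ D.H.UG ⊓ fixS v) (hy' : y.2 = -1) :
    ∃ w, Hyp σ h v w := by
  obtain ⟨r₀, hr₀⟩ := D.exists_tr
  obtain ⟨w, hw, hw'⟩ : ∃ w, h v w ≠ 0 ∧ σ (h v w) = h v w := by
    obtain ⟨w, hw⟩ : ∃ w, h v w ≠ 0 := by
      by_contra hn
      push Not at hn
      exact hv (D.H.nd v hn)
    by_cases h1 : σ (h v w) = h v w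
    · exact ⟨w, hw, h1⟩
    · have h2 := hy.1 v w
      rw [mem_fixS.1 hy.2, hy', sg_neg] at h2
      refine ⟨w + y.1 w, fun h3 => h1 ?_, by rw [D.H.add', h2, map_add, D.H.inv, add_comm]⟩
      rw [D.H.add', h2] at h3
      linear_combination h3 - h v w * D.two
  obtain ⟨r, h1, h2⟩ := (hI _ hw').resolve_left fun h0 => hw (D.red _ (by
    rw [← D.H.smul, h0, D.H.zero]))
  rw [← h1, ← D.H.smul'] at h2
  generalize r • w = w at h2
  refine ⟨w - (r₀ * h w w) • v, D.H, hvv, ?_, by simpa [D.H.sub', D.H.smul', hvv] using h2⟩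
  have h3 := D.H.smul (h v w) w w
  have h4 := D.H.smul (σ (h v w)) w w
  have h5 := D.H.smul (r₀ + σ r₀) w w
  rw [h2] at h3
  rw [D.H.act_sig h2, D.H.symm] at h4
  rw [hr₀] at h5
  simp only [D.H.sub, D.H.sub', D.H.smul, D.H.smul', hvv, map_mul, D.H.symm]
  linear_combination h5 + r₀ * h3 + σ r₀ * h4

theorem UD.pos_hyp [Finite R] [Finite V] (D : UD σ h t) (hI : Indec σ V) {v w : V} (hv : v ≠ 0)
    (P : Hyp σ h v w) (ih : ∀ a, PosS (P.HW.UG ⊓ fixS a)) : PosS P.St := by
  intro φ hφ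
  obtain ⟨r₀, hr₀⟩ := D.exists_tr
  have S : P.Sub P.St P.HW.UG := ⟨le_rfl, le_rfl, P.pi_mem, P.jj_mem⟩
  have hT : ∀ a : P.W, r₀ * h a a + σ (r₀ * h a a) + h a a = 0 := fun a => by
    have := D.H.smul (r₀ + σ r₀) a a
    rw [hr₀] at this
    rw [map_mul, D.H.symm]
    linear_combination -this + h a a * D.two
  have hs : ∀ a, ∃ n : P.St, S.π n = 1 ∧ P.aa n = a := fun a =>
    ⟨P.T a _ (hT a), Subtype.ext (P.pi_T _ _ _), P.aa_T _ _ _⟩
  have hnd : ∀ a : P.W, a ≠ 0 → ∃ b : P.W, h b a ≠ 0 := fun a ha => by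
    by_contra hn
    push Not at hn
    exact ha (P.HW.nd a fun b => P.H.eq_zero_comm (hn b))
  by_cases hz : ∀ n, S.π n = 1 → P.aa n = 0 → φ n = φ 1
  · have he : h v w ≠ 0 := fun h0 => hv (by rw [← P.vw v, h0, zero_smul])
    obtain ⟨ψ, hψ⟩ := CommGroup.exists_apply_ne_one_of_hasEnoughRootsOfUnity (Multiplicative R) ℂ
      (a := .ofAdd (h v w)) he
    refine S.eps_ne (add_self_mod D.two) hs
      (ψ.comp (AddMonoidHom.toMultiplicative (AddMonoidHom.id R + σ.toAddMonoidHom)))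
      (fun r => ?_) (fun a ha => ?_) ih hφ hz
    · change ψ (.ofAdd (σ r + σ (σ r))) = ψ (.ofAdd (r + σ r))
      rw [D.H.inv, add_comm]
    · by_contra h0
      obtain ⟨b, hb⟩ := hnd a h0
      obtain ⟨r, hr⟩ := D.exists_smul hI hb P.sig_e
      have h1 : ψ (.ofAdd (h (r • b) a + σ (h (r • b) a))) = 1 := ha (r • b)
      have h2 := P.H.smul (h (r • b) a + σ (h (r • b) a)) v w
      rw [hr, P.vw, mul_comm, mul_add, P.H.symm, P.e_mul, P.e_mul, ← P.H.symm (r • b)] at h2
      exact hψ (h2 ▸ h1)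
  · push Not at hz
    obtain ⟨z, hz1, hz2, hz3⟩ := hz
    let τ : P.HW.UG := ⟨P.HW.mk' (t • ·) 1 fun a b => by
      rw [P.HW.smul, P.HW.smul', ← mul_assoc, D.tt, one_mul, sg_one], P.HW.mk'_mem _ _ _⟩
    have HD : HeisD ((sn V).comp P.St.subtype) ((sn _).comp P.HW.UG.subtype) S.π S.j
        (fun m => P.aa m) (fun l => P.HW.toAdd l.2) τ :=
      { hπj := S.πj
        hs := fun _ => rfl
        a_mul := fun n n' hn hn' => P.aa_mul (S.ker hn) (S.ker hn')
        a_surj := hs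
        a_conj := fun l n _ => P.aa_conj l
        two := add_self_mod D.two
        cent := fun z h1 h2 m => P.cent (S.ker h1) D.two h2 m
        sq := fun z h1 h2 => Subtype.ext (Prod.ext (Equiv.ext fun x => by
          refine (P.mul_apply (S.ker h1) (S.ker h1) x).trans ?_
          simp only [h2, Tf, Submodule.coe_zero, add_zero, P.H.zero', ← two_mul, D.two]
          simp) (Int.units_mul_self _))
        full := fun n h1 h2 z h3 h4 => by
          obtain ⟨b, hb⟩ := hnd _ h2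
          have h5 := P.ker_c (S.ker h3)
          rw [h4, Submodule.coe_zero, P.H.zero, add_zero] at h5
          obtain ⟨r, hr⟩ := D.exists_smul hI hb (c := h (z.1.1 w) w)
            (by linear_combination h5 - h (z.1.1 w) w * D.two)
          obtain ⟨x, hx, hx'⟩ := hs (r • b)
          refine ⟨x, hx, mul_inv_eq_iff_eq_mul.2 (Subtype.ext (Prod.ext (Equiv.ext fun y => ?_) ?_))⟩
          · refine (P.mul_apply (S.ker hx) (S.ker h1) y).trans (Eq.trans ?_ (P.ker_eq (S.ker h3) _).symm)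
            erw [P.mul_apply (S.ker h1) (S.ker hx) y]
            have h6 := hr v
            have h7 := add_self_mod D.two ((h y v * h (P.aa n) (r • b)) • v)
            rw [P.H.symm] at h6
            simp only [h4, hx', Submodule.coe_zero, Submodule.coe_smul]
            rw [Tf, Tf, ← Submodule.coe_smul, ← Submodule.coe_add, ← Submodule.coe_add, P.Tf_v, Tf,
              P.H.zero', add_comm (P.aa n) (r • b), Submodule.coe_smul]
            linear_combination (norm := module) h y v • h6 - h7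
          · change x.1.2 * n.1.2 = z.1.2 * n.1.2 * x.1.2
            rw [show z.1.2 = 1 from P.ker_snd (S.ker h3), one_mul, mul_comm]
        t_in := rfl
        t_cen := fun l => by
          rw [mem_cen]
          have h1 : ∀ a, (l * τ * l⁻¹).1.1 a = sg σ l.1.2 t • a := fun a => by
            change l.1.1 (t • l.1.1⁻¹ a) = _
            rw [P.HW.map_smul l.2, app_inv]
          have h2 : (l * τ * l⁻¹).1.2 = 1 := mul_inv_eq_one.2 (mul_one _)
          rcases sgn_cases l.1.2 with e | e <;> rw [show ((sn _).comp P.HW.UG.subtype) l = _ from e] <;>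
            rw [e] at h1
          · exact Subtype.ext (Prod.ext (Equiv.ext h1) h2)
          · refine eq_inv_of_mul_eq_one_left (Subtype.ext (Prod.ext (Equiv.ext fun a => ?_) ?_))
            · refine (h1 (t • a)).trans ?_
              rw [sg_neg, smul_smul, mul_comm, D.tt, one_smul]; rfl
            · exact (congrArg (· * (1 : ℤˣ)) h2).trans rfl
        fpf := fun a ha => Subtype.ext (D.fpf a (congrArg Subtype.val ha)) }
    exact HD.eps_ne (posS_congr (inf_eq_left.2 P.HW.le_fixS_zero) (ih 0)) hφ hz1 hz2 hz3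

theorem UD.pos_stab [Finite R] [Finite V] (D : UD σ h t) (hI : Indec σ V)
    (ih : ∀ W : Submodule R V, Nat.card W < Nat.card V → ∀ HW : Herm σ (fun x y : W => h x y),
      ∀ a, PosS (HW.UG ⊓ fixS a)) {v : V} (hv : v ≠ 0) : PosS (D.H.UG ⊓ fixS v) := by
  by_cases ho : Out ((sn V).comp (D.H.UG ⊓ fixS v).subtype)
  swap
  · exact pos_of_not_out ho
  obtain ⟨y, hy⟩ := ho
  by_cases hvv : h v v = 0
  · obtain ⟨w, P⟩ := D.exists_hyp hI hv hvv y.2 hy
    exact D.pos_hyp hI hv P (ih _ (P.card_lt hv) _)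
  obtain ⟨r, -, hr⟩ := (hI _ (D.H.symm v v)).resolve_left fun h0 => hvv (D.red _ (by
    rw [← D.H.smul, h0, D.H.zero]))
  let W : Submodule R V :=
    { carrier := {x | h x v = 0}
      zero_mem' := D.H.zero v
      add_mem' := fun (ha : h _ v = 0) (hb : h _ v = 0) => by
        change h _ v = 0
        rw [D.H.add, ha, hb, add_zero]
      smul_mem' := fun r _ (ha : h _ v = 0) => by
        change h _ v = 0
        rw [D.H.smul, ha, mul_zero] }
  have hc : IsCompl (R ∙ v) W := by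
    refine ⟨Submodule.disjoint_def.2 fun x h1 (h2 : h x v = 0) => ?_,
      codisjoint_iff_le_sup.2 fun x _ => ?_⟩
    · obtain ⟨c, rfl⟩ := Submodule.mem_span_singleton.1 h1
      rw [D.H.smul] at h2
      linear_combination (norm := module) (r * h2) • v - c • hr v
    · refine Submodule.mem_sup.2 ⟨(r * h x v) • v, Submodule.mem_span_singleton.2 ⟨_, rfl⟩,
        x - (r * h x v) • v, ?_, by abel⟩
      change h _ v = 0
      have := D.H.smul (r * h v v) x v
      rw [hr] at this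
      rw [D.H.sub, D.H.smul]
      linear_combination this
  have ho : ∀ x ∈ R ∙ v, ∀ y ∈ W, h x y = 0 := fun x h1 y (h2 : h y v = 0) => by
    obtain ⟨c, rfl⟩ := Submodule.mem_span_singleton.1 h1
    rw [D.H.smul, D.H.eq_zero_comm h2, mul_zero]
  let v' : R ∙ v := ⟨v, Submodule.mem_span_singleton_self v⟩
  refine D.H.pos_orth hc ho (S₁ := (D.H.res₁ hc ho).UG ⊓ fixS v') inf_le_left inf_le_left le_rfl
    (fun g hg x hx => ?_) (fun g hg x (hx : h x v = 0) => ?_)
    (fun g hg g₁ h1 _ h2 => ⟨h1, Subtype.ext ((h2 v').trans hg.2)⟩) (fun _ _ _ h1 _ _ => h1)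
    (fun g hg g₁ h1 _ _ _ _ h2 _ => ⟨hg, (h2 v').symm.trans (congrArg Subtype.val h1.2)⟩)
    (pos_of_sq fun g hg => ?_) (posS_congr (inf_eq_left.2 (Herm.le_fixS_zero _))
      (ih W (Finite.card_subtype_lt (x := v) hvv) _ 0))
  · obtain ⟨c, rfl⟩ := Submodule.mem_span_singleton.1 hx
    rw [D.H.map_smul hg.1, mem_fixS.1 hg.2]
    exact Submodule.mem_span_singleton.2 ⟨_, rfl⟩
  · change h _ v = 0
    have := hg.1 x v
    rwa [mem_fixS.1 hg.2, hx, map_zero] at this
  · refine Subtype.ext (Prod.ext (Equiv.ext ?_) (Int.units_mul_self _))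
    rintro ⟨x, hx⟩
    obtain ⟨c, rfl⟩ := Submodule.mem_span_singleton.1 hx
    change g.1.1 (g.1.1 (c • v')) = c • v'
    rw [Herm.map_smul _ g.2.1, Herm.map_smul _ g.2.1, mem_fixS.1 g.2.2, mem_fixS.1 g.2.2,
      D.H.sg_sg]

theorem UD.pos_dec [Finite R] [Finite V] (D : UD σ h t) (hI : ¬ Indec σ V)
    (ih : ∀ W : Submodule R V, Nat.card W < Nat.card V → ∀ HW : Herm σ (fun x y : W => h x y),
      PosS HW.UG) : PosS D.H.UG := by
  simp only [Indec, not_forall, not_or, not_exists, not_and] at hI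
  obtain ⟨r, hr, ⟨x₁, h1⟩, h2⟩ := hI
  obtain ⟨b, hb⟩ := exists_pow_succ D.red r
  obtain ⟨x₂, h2⟩ := h2 (r ^ b) (by rw [map_pow, hr])
  set e := r ^ b * r
  have he : e * e = e := by linear_combination r ^ b * hb
  have hσ : σ e = e := by simp [e, hr]
  let W₁ := LinearMap.ker (LinearMap.lsmul R V e)
  let W₂ := LinearMap.ker (LinearMap.lsmul R V (1 - e))
  have m₁ : ∀ x, x ∈ W₁ ↔ e • x = 0 := fun _ => Iff.rfl
  have m₂ : ∀ x, x ∈ W₂ ↔ e • x = x := fun x => by
    change (1 - e) • x = 0 ↔ _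
    rw [sub_smul, one_smul, sub_eq_zero, eq_comm]
  have hc : IsCompl W₁ W₂ := by
    refine ⟨Submodule.disjoint_def.2 fun x a b => ((m₂ x).1 b).symm.trans a,
      codisjoint_iff_le_sup.2 fun x _ => Submodule.mem_sup.2 ⟨x - e • x, ?_, e • x, ?_, by abel⟩⟩
    · rw [m₁, smul_sub, smul_smul, he, sub_self]
    · rw [m₂, smul_smul, he]
  have ho : ∀ x ∈ W₁, ∀ y ∈ W₂, h x y = 0 := fun x a y b => by
    rw [← (m₂ y).1 b, D.H.smul', hσ, ← D.H.smul, (m₁ x).1 a, D.H.zero]
  have hg : ∀ g ∈ D.H.UG, ∀ x, e • g.1 x = g.1 (e • x) := fun g hg x => by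
    rw [D.H.map_smul hg, sg_of_fix hσ]
  refine D.H.pos_orth hc ho le_rfl le_rfl le_rfl
    (fun g a x b => by rw [m₁, hg g a, (m₁ x).1 b, D.H.map_zero a])
    (fun g a x b => by rw [m₂, hg g a, (m₂ x).1 b]) (fun _ _ _ h1 _ _ => h1)
    (fun _ _ _ h1 _ _ => h1) (fun g hg _ _ _ _ _ _ _ _ => hg)
    (ih _ (Finite.card_subtype_lt (x := x₁) fun a => h1 ?_) _)
    (ih _ (Finite.card_subtype_lt (x := x₂) fun a => h2 ((m₂ _).1 a)) _)
  linear_combination (norm := module) r • (m₁ _).1 a - hb • x₁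

end

theorem two_dvd_card {V : Type*} [AddCommGroup V] [Finite V] [Nontrivial V]
    (h : ∀ x : V, x + x = 0) : 2 ∣ Nat.card V := by
  obtain ⟨x, hx⟩ := exists_ne (0 : V)
  rw [← addOrderOf_eq_prime (p := 2) (by rw [two_nsmul, h x]) hx]
  exact addOrderOf_dvd_natCard x

theorem posU_aux (n : ℕ) : ∀ (R : Type u) [CommRing R] [Finite R] (σ : R →+* R) (V : Type u)
    [AddCommGroup V] [Module R V] [Finite V] (h : V → V → R) (t : R) (D : UD σ h t),
    Nat.card V = n → PosS D.H.UG ∧ (Indec σ V → ∀ v, PosS (D.H.UG ⊓ fixS v)) := by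
  induction n using Nat.strong_induction_on with
  | _ n ih =>
  intro R _ _ σ V _ _ _ h t D hn
  subst hn
  have key : ∀ m (R : Type u) [CommRing R] [Finite R] (σ : R →+* R) [Module R V] (h : V → V → R)
      (t : R) (D : UD σ h t), Nat.card D.H.UG = m → PosS D.H.UG := by
    intro m
    induction m using Nat.strong_induction_on with
    | _ m ihm =>
    intro R _ _ σ _ h t D hm
    subst hm
    by_cases hI : Indec σ V
    swap
    · exact D.pos_dec hI fun W hW HW => (ih _ hW R σ W _ t (D.sub HW) rfl).1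
    rcases subsingleton_or_nontrivial V with hV | hV
    · exact posS_of_subsingleton _
    refine twb_sub _ fun x hx P hP ho h2 _ hc => ?_
    have hx1 := sgn_of_odd (sn V) ho
    by_cases hK : D.H.UG ≤ cen (sn V) x
    · obtain ⟨v, hv, hv'⟩ := exists_fixed_ne P h2 (two_dvd_card (add_self_mod D.two))
        (hP.trans D.H.le_fixS_zero)
      obtain ⟨K, k1, k2, k3, k4⟩ := exists_pos_sup hx1 (inf_le_left.trans hK) (D.pos_stab hI
        (fun W hW HW => (ih _ hW R σ W _ t (D.sub HW) rfl).2 (hI.sub W)) hv)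
      exact ⟨K, k1 _ inf_le_left hx, k2, (le_inf hP hv').trans k3, k4⟩
    · obtain ⟨R', _, _, _, σ', h', H', a1, a2, a3, a4, -⟩ := D.H.exists_adjoin D.two D.red hx ho
      obtain ⟨t', b1, b2⟩ := a4 t D.tt
      refine ⟨_, inf_le_left, ⟨hx, by simp [mem_cen, hx1]⟩, le_inf hP hc, posS_congr a3
        (ihm _ ?_ R' σ' h' t' ⟨H', a1, a2, b1, fun y hy => D.fpf y (b2 y ▸ hy)⟩ rfl)⟩
      rw [a3]
      exact Core.card_lt_card_of_lt (inf_lt_left.2 hK)
  refine ⟨key _ R σ h t D rfl, fun hI v => ?_⟩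
  by_cases hv : v = 0
  · exact posS_congr (hv ▸ (inf_eq_left.2 D.H.le_fixS_zero).symm) (key _ R σ h t D rfl)
  · exact D.pos_stab hI (fun W hW HW => (ih _ hW R σ W _ t (D.sub HW) rfl).2 (hI.sub W)) hv

theorem UD.pos {R : Type u} [CommRing R] [Finite R] {σ : R →+* R} {V : Type u} [AddCommGroup V]
    [Module R V] [Finite V] {h : V → V → R} {t : R} (D : UD σ h t) : PosS D.H.UG :=
  (posU_aux _ R σ V h t D rfl).1

end Cfsg.Lib.FS2
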