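import Cfsg.Agent.Lib.FS2.Ext

/-! Characters lying over a nontrivial central character of a Heisenberg-type normal subgroup. -/

namespace Cfsg.Lib.FS2

open Cfsg.Lib.Char Cfsg.Lib.Induce Cfsg.Lib.Clifford Module
open scoped ComplexConjugate

theorem irr_central_invol {G : Type*} [Group G] [Finite G] {χ : G → ℂ} (h : IsIrrCharacter G χ)
    {z : G} (hz : ∀ g, g * z = z * g) (h2 : z * z = 1) :
    (∀ x, χ (z * x) = χ x) ∨ ∀ x, χ (z * x) = -χ x := by
  obtain ⟨ω, -, hω⟩ := mem_charCenter.1 (h.center_le_charCenter (Subgroup.mem_center_iff.2 hz))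
  have h1 := hω (z * 1)
  rw [← mul_assoc, h2, one_mul, hω, ← mul_assoc] at h1
  have h3 : ω * ω = 1 := mul_right_cancel₀ h.apply_one_ne_zero (h1.symm.trans (one_mul _).symm)
  rcases mul_self_eq_one_iff.1 h3 with rfl | rfl
  · exact Or.inl fun x => by rw [hω, one_mul]
  · exact Or.inr fun x => by rw [hω, neg_one_mul]

variable {M L W : Type*} [Group M] [Group L] [AddCommGroup W]

/-- a split extension of a Heisenberg-type group -/
structure HeisD (s : M →* ℤˣ) (sL : L →* ℤˣ) (π : M →* L) (j : L →* M) (a : M → W)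
    (α : L → W →+ W) (t : L) : Prop where
  hπj : ∀ l, π (j l) = l
  hs : ∀ m, sL (π m) = s m
  a_mul : ∀ n n', π n = 1 → π n' = 1 → a (n * n') = a n + a n'
  a_surj : ∀ w, ∃ n, π n = 1 ∧ a n = w
  a_conj : ∀ l n, π n = 1 → a (j l * n * (j l)⁻¹) = α l (a n)
  two : ∀ w : W, w + w = 0
  cent : ∀ z, π z = 1 → a z = 0 → ∀ m, m * z = z * m
  sq : ∀ z, π z = 1 → a z = 0 → z * z = 1
  full : ∀ n, π n = 1 → a n ≠ 0 → ∀ z, π z = 1 → a z = 0 → ∃ x, π x = 1 ∧ x * n * x⁻¹ = z * n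
  t_in : sL t = 1
  t_cen : ∀ l, l ∈ cen sL t
  fpf : ∀ w, α t w = w → w = 0

namespace HeisD

variable {s : M →* ℤˣ} {sL : L →* ℤˣ} {π : M →* L} {j : L →* M} {a : M → W} {α : L → W →+ W}
  {t : L} (D : HeisD s sL π j a α t)
include D

theorem sj (l : L) : s (j l) = sL l := by rw [← D.hs, D.hπj]

theorem le : π.ker ≤ s.ker := fun y hy => by
  rw [MonoidHom.mem_ker, ← D.hs, show π y = 1 from hy, map_one]

def aH : π.ker →* Multiplicative W :=
  MonoidHom.mk' (fun n => Multiplicative.ofAdd (a n)) fun n n' => by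
    rw [← ofAdd_add, ← D.a_mul _ _ n.2 n'.2]; rfl

theorem aH_surj : Function.Surjective D.aH := fun w =>
  let ⟨n, h1, h2⟩ := D.a_surj w.toAdd
  ⟨⟨n, h1⟩, congrArg Multiplicative.ofAdd h2⟩

theorem a_one : a 1 = 0 := congrArg Multiplicative.toAdd (map_one D.aH)

theorem a_inv {n : M} (h : π n = 1) : a n⁻¹ = a n := by
  have h1 : a n⁻¹ = -a n := congrArg Multiplicative.toAdd (map_inv D.aH ⟨n, h⟩)
  rw [h1, neg_eq_of_add_eq_zero_left (D.two _)]

theorem al_mul (l l' : L) (w : W) : α (l * l') w = α l (α l' w) := by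
  obtain ⟨n, hn, rfl⟩ := D.a_surj w
  rw [← D.a_conj _ _ hn, ← D.a_conj _ _ hn, ← D.a_conj _ _ (by simp [hn])]
  simp [mul_assoc]

theorem exists_eq [Finite M] (u : W) : ∃ v, u = v + α t v := by
  have : Finite W := Finite.of_surjective (β := Multiplicative W) _ D.aH_surj
  have h1 : Function.Injective (AddMonoidHom.id W + α t) := by
    rw [injective_iff_map_eq_zero]
    intro v hv
    refine D.fpf v ?_
    have h2 : v + α t v = 0 := hv
    rw [← neg_eq_of_add_eq_zero_right h2, neg_eq_of_add_eq_zero_left (D.two _)]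
  obtain ⟨v, hv⟩ := Finite.injective_iff_surjective.1 h1 u
  exact ⟨v, hv.symm⟩

theorem card_sq_le [Finite M] {τ : L} (hτ : sL τ = -1) :
    Nat.card (AddMonoidHom.id W + α τ).ker ^ 2 ≤ Nat.card W := by
  have : Finite W := Finite.of_surjective (β := Multiplicative W) _ D.aH_surj
  set F := AddMonoidHom.id W + α τ
  have hle : F.ker ≤ F.range := fun u hu => by
    obtain ⟨v, rfl⟩ := D.exists_eq u
    have h1 : v + α t v + α τ (v + α t v) = 0 := hu
    have h2 : t * (τ * t) = τ := by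
      have := mem_cen.1 (D.t_cen τ)
      rw [hτ] at this
      rw [mul_inv_eq_iff_eq_mul.1 this]; simp
    have h3 := congrArg (α t) h1
    simp only [map_add, map_zero, ← D.al_mul, h2] at h3
    simp only [D.al_mul] at h3
    have h4 := D.fpf (α τ v + α t v) (by
      rw [map_add]
      have h5 := D.two (α τ v + α t v)
      rw [← sub_eq_zero, ← sub_self (0 : W)]
      conv_rhs => lhs; rw [← h3]
      rw [← h5]
      abel)
    refine ⟨v, ?_⟩
    change v + α τ v = _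
    rw [eq_neg_of_add_eq_zero_left h4, neg_eq_of_add_eq_zero_left (D.two _)]
  rw [AddSubgroup.card_eq_card_quotient_mul_card_addSubgroup F.ker,
    Nat.card_congr (QuotientAddGroup.quotientKerEquivRange F).toEquiv, pow_two]
  exact Nat.mul_le_mul_right _ (AddSubgroup.card_le_of_le hle)

variable [Finite M] {ρ : π.ker → ℂ} (hρ : IsIrrCharacter π.ker ρ) {z₀ : π.ker} (hz₀ : a z₀ = 0)
  (hρz : ∀ n, ρ (z₀ * n) = -ρ n)
include hρ hz₀ hρz

omit [Finite M] in
theorem rho_zero {n : π.ker} (hn : a n ≠ 0) : ρ n = 0 := by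
  obtain ⟨x, hx, e⟩ := D.full n n.2 hn z₀ z₀.2 hz₀
  have h1 := hρ.isClassFunction.conj_apply n ⟨x, hx⟩
  rw [show (⟨x, hx⟩ * n * ⟨x, hx⟩⁻¹ : π.ker) = z₀ * n from Subtype.ext e, hρz] at h1
  linear_combination (-1 / 2 : ℂ) * h1

omit [Finite M] in
theorem rho_inv (m : M) (n : π.ker) :
    ρ ⟨m * n * m⁻¹, (MonoidHom.normal_ker π).conj_mem _ n.2 m⟩ = ρ n := by
  by_cases hn : a n = 0
  · congr 1; exact Subtype.ext (by rw [mul_inv_eq_iff_eq_mul]; exact D.cent n n.2 hn m)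
  · rw [D.rho_zero hρ hz₀ hρz hn]
    refine D.rho_zero hρ hz₀ hρz fun h0 => hn ?_
    have h1 := D.cent _ ((MonoidHom.normal_ker π).conj_mem _ n.2 m) h0 m
    have h2 : m * n * m⁻¹ = n := mul_left_cancel (a := m) (by rw [h1]; group)
    exact h2 ▸ h0

theorem rho_real (n : π.ker) : conj (ρ n) = ρ n := by
  by_cases hn : a n = 0
  · rw [← hρ.apply_inv, inv_eq_of_mul_eq_one_left (Subtype.ext (D.sq n n.2 hn))]
  · rw [D.rho_zero hρ hz₀ hρz hn, map_zero]

omit hz₀ hρz in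
theorem rho_norm {n : π.ker} (hn : a n = 0) : ‖ρ n‖ = ‖ρ 1‖ :=
  hρ.isCharacter.mem_charCenter_iff.1 (hρ.center_le_charCenter
    (Subgroup.mem_center_iff.2 fun g => Subtype.ext (D.cent n n.2 hn g)))

theorem sum_ne [Fintype π.ker] {τ : L} (hτ : sL τ = -1) :
    ∑ n : π.ker, ρ (n * ⟨j τ * n * (j τ)⁻¹, (MonoidHom.normal_ker π).conj_mem _ n.2 _⟩) ≠
      -(Nat.card π.ker : ℂ) := by
  classical
  have : Finite W := Finite.of_surjective (β := Multiplicative W) _ D.aH_surj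
  have := Fintype.ofFinite W
  intro hsum
  obtain ⟨d, hd0, hd⟩ := hρ.exists_apply_one
  have hd' : ‖ρ 1‖ = d := by rw [hd]; simp
  set F := AddMonoidHom.id W + α τ
  have hcard : ∀ (K : AddSubgroup W) [DecidablePred (· ∈ K)], (∑ n : π.ker, if a n ∈ K then (1 : ℝ) else 0) =
      Nat.card D.aH.ker * Nat.card K := fun K _ => by
    have h1 := sum_comp_surjective D.aH D.aH_surj (fun w => if w.toAdd ∈ K then 1 else 0)
    have h2 : (∑ w : Multiplicative W, if w.toAdd ∈ K then (1 : ℂ) else 0) = Nat.card K := by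
      rw [← Equiv.sum_comp Multiplicative.ofAdd, Finset.sum_boole, Nat.card_eq_fintype_card,
        Fintype.card_subtype]; rfl
    rw [h2] at h1
    apply Complex.ofReal_injective
    push_cast [apply_ite Complex.ofReal]
    exact h1
  have h1 : (Nat.card π.ker : ℝ) = Nat.card D.aH.ker * Nat.card W := by
    have h3 := hcard ⊤
    rw [AddSubgroup.card_top] at h3
    simp only [AddSubgroup.mem_top, if_true, Finset.sum_const, Finset.card_univ, nsmul_eq_mul,
      mul_one, ← Nat.card_eq_fintype_card] at h3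
    exact h3
  have h2 : (Nat.card π.ker : ℝ) = d ^ 2 * Nat.card D.aH.ker := by
    have h3 := hcard ⊥
    rw [AddSubgroup.card_bot, Nat.cast_one, mul_one] at h3
    rw [← hρ.sum_norm_sq, ← h3, Finset.mul_sum]
    refine Finset.sum_congr rfl fun n _ => ?_
    split_ifs with hn
    · rw [D.rho_norm hρ hn, hd', mul_one]
    · rw [D.rho_zero hρ hz₀ hρz hn]; simp
  have hZ : (0 : ℝ) < Nat.card D.aH.ker := by exact_mod_cast Nat.card_pos
  have h3 : (Nat.card F.ker : ℝ) ≤ d := by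
    have h4 : (Nat.card F.ker : ℝ) ^ 2 ≤ Nat.card W := by exact_mod_cast D.card_sq_le hτ
    have h5 : (Nat.card W : ℝ) = d ^ 2 := mul_left_cancel₀ hZ.ne' (by rw [← h1, h2, mul_comm])
    exact (pow_le_pow_iff_left₀ (Nat.cast_nonneg _) (Nat.cast_nonneg _) two_ne_zero).1 (h5 ▸ h4)
  have h4 : 0 < ∑ n : π.ker, ((ρ (n * ⟨j τ * n * (j τ)⁻¹,
      (MonoidHom.normal_ker π).conj_mem _ n.2 _⟩)).re + d * if a n ∈ F.ker then 1 else 0) := by
    refine Finset.sum_pos' (fun n _ => ?_) ⟨1, Finset.mem_univ _, ?_⟩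
    · split_ifs with hn
      · have := (abs_le.1 ((Complex.abs_re_le_norm _).trans (hρ.isCharacter.norm_le_of_apply_one hd
          (n * ⟨j τ * n * (j τ)⁻¹, (MonoidHom.normal_ker π).conj_mem _ n.2 _⟩)))).1
        linarith
      · rw [D.rho_zero hρ hz₀ hρz]
        · simp
        · rw [Subgroup.coe_mul, D.a_mul _ _ n.2 ((MonoidHom.normal_ker π).conj_mem _ n.2 _),
            D.a_conj _ _ n.2]
          exact hn
    · have h5 : (1 * ⟨j τ * (1 : π.ker) * (j τ)⁻¹, (MonoidHom.normal_ker π).conj_mem _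
          (1 : π.ker).2 _⟩ : π.ker) = 1 := Subtype.ext (by simp)
      rw [h5, hd, OneMemClass.coe_one, D.a_one, if_pos F.ker.zero_mem]
      have : (0 : ℝ) < d := by exact_mod_cast hd0
      simp [this]
  rw [Finset.sum_add_distrib, ← Complex.re_sum, hsum, ← Finset.mul_sum, hcard] at h4
  simp only [Complex.neg_re, Complex.natCast_re] at h4
  have : (0 : ℝ) ≤ d := Nat.cast_nonneg _
  nlinarith [mul_le_mul_of_nonneg_left h3 (mul_nonneg this hZ.le)]

omit hz₀ hρz in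
theorem coset (n : π.ker) : ∃ x z : π.ker, ‖ρ z‖ = ‖ρ 1‖ ∧
    n * j t = x * (z * j t) * (x : M)⁻¹ := by
  obtain ⟨v, hv⟩ := D.exists_eq (a n)
  obtain ⟨x, hx, rfl⟩ := D.a_surj v
  have h1 : π (j t * x * (j t)⁻¹) = 1 := by simp [hx]
  have h2 : π (x⁻¹ * n) = 1 := by simp [hx, show π n = 1 from n.2]
  refine ⟨⟨x, hx⟩, ⟨x⁻¹ * n * (j t * x * (j t)⁻¹), by rw [MonoidHom.mem_ker, map_mul, h1, h2, one_mul]⟩,
    D.rho_norm hρ ?_, by simp [mul_assoc]⟩
  change a (x⁻¹ * n * (j t * x * (j t)⁻¹)) = 0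
  rw [D.a_mul _ _ h2 h1, D.a_mul _ _ (by simp [hx]) n.2, D.a_inv hx, D.a_conj _ _ hx, hv,
    ← D.two (a x + α t (a x))]
  abel

theorem exists_tr_ext [Finite L] {τ : L} (hτ : sL τ = -1) :
    ∃ ω, Irr0 s ω ∧ TR s ω ∧ ∀ n : π.ker, ω n = ρ n := by
  classical
  have hle := D.le
  set N' := π.ker.subgroupOf s.ker
  let k := kerMap π D.hs
  let j₀ := kerMap j D.sj
  let t₀ : s.ker := j₀ ⟨t, D.t_in⟩
  have hcm : ∀ l, j₀ l * t₀ = t₀ * j₀ l := fun l => by
    rw [← map_mul, ← map_mul]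
    congr 1
    have := mem_cen.1 (D.t_cen l)
    rw [show sL l = 1 from l.2, Units.val_one, zpow_one, mul_inv_eq_iff_eq_mul] at this
    exact Subtype.ext this
  have hρ' := (isIrrCharacter_subgroupOf_iff hle).2 hρ
  have hk : ∀ g, g * (j₀ (k g))⁻¹ ∈ N' := fun g => mul_inv_mem_ker D.hπj (g : M)
  have hco : ∀ n ∈ N', ∃ x z : N', ‖ρ ⟨z.1.1, z.2⟩‖ = ‖ρ 1‖ ∧
      n * t₀ = x * (z * t₀) * (x : s.ker)⁻¹ := fun n hn => by
    obtain ⟨x, z, h1, h2⟩ := D.coset hρ ⟨n, hn⟩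
    exact ⟨⟨⟨x, hle x.2⟩, x.2⟩, ⟨⟨z, hle z.2⟩, z.2⟩, h1, Subtype.ext h2⟩
  obtain ⟨χ, hχ, hχN⟩ := exists_ext_of_central N' hρ'
    (fun g n => D.rho_inv hρ hz₀ hρz g ⟨n.1.1, n.2⟩) (j₀.comp k)
    (fun n hn => by
      rw [MonoidHom.comp_apply, show k n = 1 from Subtype.ext hn, map_one]) hk
    (fun g => hcm _) hco
  obtain ⟨ω, rfl⟩ := exists_r0 s χ
  have hω : Irr0 s ω := hχ
  have hωN : ∀ n : π.ker, ω n = ρ n := fun n => hχN ⟨⟨n, hle n.2⟩, n.2⟩
  have hirrN : IsIrrCharacter N' (fun n : N' => r0 s ω n) := by simpa only [hχN] using hρ'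
  obtain ⟨β, hβN, hβ⟩ := exists_hom_mul_eq_of_res_eq N' hχ.isCharacter hirrN
    (hω.st (j τ)).irr.isCharacter fun n => by
      have h1 := (hωN _).trans (D.rho_inv hρ hz₀ hρz (j τ) ⟨n.1.1, n.2⟩)
      rw [hχN, ← D.rho_real hρ hz₀ hρz, ← h1]; rfl
  have ht1 : ‖r0 s ω t₀‖ = 1 := norm_eq_one_of_coset N' hχ.isCharacter hirrN fun n hn => by
    obtain ⟨x, z, h1, h2⟩ := hco n hn
    exact ⟨x, z, by rw [hχN z, h1, ← hωN 1]; rfl, h2⟩
  let c := kerMap (MulAut.conj τ).toMonoidHom (sgn_conj sL τ)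
  let cG := kerMap (MulAut.conj (j τ)).toMonoidHom (sgn_conj s (j τ))
  obtain ⟨δ, hδ⟩ := exists_hom_norm j₀ c cG hχ.isCharacter β (congrFun hβ) hcm ht1 fun i l => by
    have h1 : cG t₀ = t₀⁻¹ := Subtype.ext (by
      have := congrArg j (mem_cen.1 (D.t_cen τ))
      rw [hτ] at this
      change j τ * j t * (j τ)⁻¹ = (j t)⁻¹
      simpa using this)
    have h2 : cG (j₀ l) = j₀ (c l) := Subtype.ext (by
      change j τ * j l * (j τ)⁻¹ = j (τ * l * τ⁻¹)
      simp)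
    rw [map_mul, map_zpow, h1, h2, inv_zpow']
  obtain ⟨ω', hω'⟩ := exists_r0 s (fun g => ((δ⁻¹.comp k) g : ℂ) * r0 s ω g)
  have hirr : Irr0 s ω' := by unfold Irr0; rw [hω']; exact hχ.hom_mul _
  have hv : ∀ g : s.ker, ω' g = ((δ (k g))⁻¹ : ℂˣ) * ω g := fun g => congrFun hω' g
  refine ⟨ω', hirr, tr_of_st hirr.gch ((D.sj τ).trans hτ) fun g hg => ?_, fun n => ?_⟩
  · have h1 := hv (cG ⟨g, hg⟩)
    have h2 : k (cG ⟨g, hg⟩) = c (k ⟨g, hg⟩) := Subtype.ext (by
      change π (j τ * g * (j τ)⁻¹) = τ * π g * τ⁻¹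
      simp [D.hπj])
    have h3 : β (j₀ (k ⟨g, hg⟩)) = β ⟨g, hg⟩ := by
      have := hβN _ (hk ⟨g, hg⟩)
      rwa [map_mul, map_inv, mul_inv_eq_one, eq_comm] at this
    have h4 : conj (ω (j τ * g * (j τ)⁻¹)) = β ⟨g, hg⟩ * ω g := congrFun hβ ⟨g, hg⟩
    rw [h2, hδ, h3] at h1
    change conj (ω' (cG ⟨g, hg⟩)) = ω' (⟨g, hg⟩ : s.ker)
    rw [h1, hv, Units.val_mul, map_mul, map_mul, conj_hom_apply, conj_hom_apply]
    erw [h4]
    simp only [map_inv, Units.val_inv_eq_inv_val]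
    field_simp
  · have h1 := hv ⟨n, hle n.2⟩
    rw [show k ⟨n, hle n.2⟩ = 1 from Subtype.ext n.2] at h1
    simpa [hωN] using h1

omit hρ hz₀ hρz in
theorem eps_ne [Finite L] (hp : Pos sL) {φ : M → ℂ} (h : Irr0 s φ) {z : M} (hz : π z = 1)
    (hz' : a z = 0) (hne : φ z ≠ φ 1) : eps s φ ≠ -1 := by
  classical
  intro he
  have := Fintype.ofFinite M
  have hle := D.le
  have ho := out_of_eps he
  have hoL := ho.of_comp π D.hs
  obtain ⟨τ, hτ, hττ⟩ := hp.exists_invol hoL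
  have hφz : ∀ x : s.ker, φ (z * x) = -φ x := (irr_central_invol h.irr (z := ⟨z, hle hz⟩)
    (fun g => Subtype.ext (D.cent z hz hz' g)) (Subtype.ext (D.sq z hz hz'))).resolve_left
    fun h1 => hne (by simpa [r0] using h1 1)
  have hφN : IsCharacter π.ker (fun n : π.ker => φ n) := isCharacter_res_le hle h.irr.isCharacter
  obtain ⟨ρ, hρ, hρ'⟩ := hφN.isClassFunction.exists_irr_inner_ne_zero
    fun h0 => h.irr.apply_one_ne_zero (congrFun h0 1)
  have hρz : ∀ n, ρ (⟨z, hz⟩ * n) = -ρ n := (irr_central_invol hρ (z := ⟨z, hz⟩)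
    (fun g => Subtype.ext (D.cent z hz hz' g)) (Subtype.ext (D.sq z hz hz'))).resolve_left
    fun h1 => hρ' (by
      have h2 := Equiv.sum_comp (Equiv.mulLeft (⟨z, hz⟩ : π.ker)) (fun n => φ n * conj (ρ n))
      have h3 : ∀ n : π.ker, φ (z * n) = -φ n := fun n => hφz ⟨n, hle n.2⟩
      simp only [Equiv.coe_mulLeft, h1, Subgroup.coe_mul, h3, neg_mul, Finset.sum_neg_distrib] at h2
      rw [classInner_def, show ∑ n : π.ker, φ n * conj (ρ n) = 0 by
        linear_combination (-1 / 2 : ℂ) * h2, mul_zero])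
  obtain ⟨ω, hω, hωt, hωN⟩ := D.exists_tr_ext hρ (z₀ := ⟨z, hz⟩) hz' hρz hτ
  set N' := π.ker.subgroupOf s.ker
  have hirrN : IsIrrCharacter N' (fun n : N' => r0 s ω n) :=
    (isIrrCharacter_res_subgroupOf_iff hle).2 (by simpa only [r0, hωN] using hρ)
  obtain ⟨β, hβ, hβN, hφ⟩ := exists_mul_eq_of_over N' hω.irr.isCharacter hirrN h.irr (by
    have := classInner_subgroupOf (T := s.ker) hle (fun n : π.ker => φ n) (fun n : π.ker => ω n)
    simp only [hωN] at this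
    rw [← this] at hρ'
    simpa only [← hωN] using hρ')
  obtain ⟨β, rfl⟩ := exists_r0 s β
  have hβ' : Irr0 s β := hβ
  have hφ' : ∀ g, s g = 1 → φ g = β g * ω g := fun g hg => congrFun hφ ⟨g, hg⟩
  have hπ : Function.Surjective π := fun l => ⟨j l, D.hπj l⟩
  obtain ⟨ψ, hψ, hψ'⟩ := hβ'.exists_comp π D.hs hπ fun x hx => hβN ⟨x, hle hx⟩ hx
  have hτ' : s (j τ) = -1 := (D.sj τ).trans hτ
  have hβt : r0 s (st (j τ) β) = r0 s β := by
    refine eq_of_mul_eq_of_ker N' hω.irr.isCharacter hirrN (hβ'.st _).irr hβ (fun n hn => ?_) hβN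
      (funext fun g => ?_)
    · have h1 := hβN ⟨_, hle ((MonoidHom.normal_ker π).conj_mem _ hn (j τ))⟩
        ((MonoidHom.normal_ker π).conj_mem _ hn (j τ))
      simp only [r0, st, OneMemClass.coe_one, mul_one, mul_inv_cancel] at h1 ⊢
      exact congrArg _ h1
    · have h1 := (h.tr he).st hτ' g.2
      have h2 := hωt.st hτ' g.2
      simp only [st] at h1 h2
      rw [hφ' _ (by rw [sgn_conj]; exact g.2), map_mul, h2, hφ' _ g.2] at h1
      exact h1
  have hψt : TR sL ψ := tr_of_st hψ.gch hτ fun l hl => by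
    have h1 := congrFun hβt ⟨j l, (D.sj l).trans hl⟩
    simp only [r0, st] at h1 ⊢
    rw [hψ' _ (by rw [sgn_conj, D.sj, hl]), hψ' _ (by rw [D.sj, hl])] at h1
    simpa [D.hπj] using h1
  let F : M →* FP s sL := ((MonoidHom.id M).prod π).codRestrict _ fun m => (D.hs m).symm
  have hF : ∀ g, s g = 1 → φ g = fpMul ω ψ (F g) := fun g hg => by
    rw [hφ' g hg, hψ' g hg, mul_comm]; rfl
  have h1 := eps_eq_of_irr (hω.fp hψ) (hωt.fp hψt) F (fun _ => rfl) ho (h.congr hF)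
  rw [← eps_congr hF, he, eps_fp, hp.eps_eq hψ hoL hψt, mul_one] at h1
  let H := (Subgroup.zpowers τ).comap π
  have hH : ∀ x ∈ H, s x = 1 → π x = 1 := by
    rintro x ⟨i, hi⟩ hx
    have h2 : τ ^ (2 : ℤ) = 1 := by rw [zpow_two, hττ]
    rw [← D.hs, ← hi, map_zpow, hτ] at hx
    obtain ⟨k, rfl | rfl⟩ := Int.even_or_odd' i
    · rw [← hi]; simp only [zpow_mul, h2, one_zpow]
    · rw [Odd.neg_one_zpow ⟨k, rfl⟩] at hx
      exact absurd hx neg_one_ne
  let e : π.ker ≃* (s.comp H.subtype).ker :=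
    { toFun := fun n => ⟨⟨n, by
        rw [Subgroup.mem_comap, show π n = 1 from n.2]; exact one_mem _⟩, hle n.2⟩
      invFun := fun x => ⟨x.1.1, hH _ x.1.2 x.2⟩
      left_inv := fun _ => rfl
      right_inv := fun _ => rfl
      map_mul' := fun _ _ => rfl }
  let y : H := ⟨j τ, by rw [Subgroup.mem_comap, D.hπj]; exact Subgroup.mem_zpowers τ⟩
  have hirrH : Irr0 (s.comp H.subtype) (fun x => ω x) :=
    (isIrrCharacter_comp_equiv_iff e).1 (by
      convert hρ using 2 with n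
      exact hωN n)
  have h2 := eps_eq_of_irr hω hωt H.subtype (fun _ => rfl) ⟨y, hτ'⟩ hirrH
  rw [h1, eps_def, sum_out (y := y) hτ', ← Equiv.sum_comp e.toEquiv,
    ← Nat.card_congr e.toEquiv, eq_comm, inv_mul_eq_iff_eq_mul₀ (card_ne_zero_complex _)] at h2
  refine D.sum_ne hρ (z₀ := ⟨z, hz⟩) hz' hρz hτ (Eq.trans ?_ (h2.trans (mul_neg_one _)))
  refine Finset.sum_congr rfl fun n _ => ?_
  rw [← hωN]
  congr 1
  change n * (j τ * n * (j τ)⁻¹) = n * j τ * (n * j τ)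
  rw [inv_eq_of_mul_eq_one_left (a := j τ) (b := j τ) (by rw [← map_mul, hττ, map_one])]
  simp only [mul_assoc]

end HeisD

end Cfsg.Lib.FS2
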